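import Cfsg.Agent.Lib.ChevIO.Tinv
import Cfsg.Agent.Lib.Chev.OrbE8
import Cfsg.Agent.Lib.Chev.Smith

namespace Cfsg.Agent.Lib.Chev.TabE8Inv
open Cfsg.Agent.Lib.Chev Cfsg.Lie

set_option maxRecDepth 100000

noncomputable def dsE7 : List ℕ := [0,1]
theorem okE7 : orbE RootE8T.R chevE8.rank 7 OrbE8.L7 dsE7 = true := by decide +kernel
theorem nE0 : cntEv RootE8T.R 0 RootE8T.R.N = 56 := by decide +kernel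
theorem hrep0 : ∀ k < chevE8.rank, (intEvenB (parN chevE8 6 k chevE8.rank) = true ↔ k ≠ 0) := by decide +kernel
theorem nE7 : cntEv RootE8T.R 7 RootE8T.R.N = 64 := by decide +kernel
theorem hrep7 : ∀ k < chevE8.rank, (intEvenB (parN chevE8 82 k chevE8.rank) = true ↔ k ≠ 7) := by decide +kernel
noncomputable def W : List (List ℕ) := [[],[2,3,4,5,6,7,1,3,4,5,6,2,3,4,5,1,3,4,2,3,0,2,1,3,4,5,6,7],[3,4,5,6,7,2,3,4,5,6,0,2,3,4,5,1,3,4,2,3,0,2,1,3,4,5,6,7],[2,0],[3,4,5,6,7,1,3,4,5,6,0,2,3,4,5,1,3,4,2,3,0,2,1,3,4,5,6,7],[3,4,5,6,7,1,3,4,5,6,2,3,4,5,1,3,4,2,3,0,2,1,3,4,5,6,7],[],[0],[4,5,6,7,2,1,3,4,5,6,0,2,3,4,5,1,3,4,2,3,0,2,1,3,4,5,6,7],[1,3,2,0],[4,5,6,7,2,3,4,5,6,0,2,3,4,5,1,3,4,2,3,0,2,1,3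,4,5,6,7],[3,2,0],[4,5,6,7,1,3,4,5,6,0,2,3,4,5,1,3,4,2,3,0,2,1,3,4,5,6,7],[4,5,6,7,1,3,4,5,6,2,3,4,5,1,3,4,2,3,0,2,1,3,4,5,6,7],[4,5,6,7,3,4,5,6,0,2,3,4,5,1,3,4,2,3,0,2,1,3,4,5,6,7],[4,5,6,7,3,4,5,6,2,3,4,5,1,3,4,2,3,0,2,1,3,4,5,6,7],[5,6,7,3,2,1,3,4,5,6,0,2,3,4,5,1,3,4,2,3,0,2,1,3,4,5,6,7],[3,4,1,3,2,0],[5,4,3,2,1,3,4,5,0,2,3,4,1,3,2,0],[5,6,7,4,5,6,3,4,5,1,3,4,2,3,0,2,1,3,4,5,6,7],[0,2,3,4,1,3,2,0],[2,3,4,1,3,2,0],[5,6,7,4,5,6,0,2,3,4,5,1,3,4,2,3,0,2,1,3,4,5,6,7],[5,6,7,4,5,6,2,3,4,5,1,3,4,2,3,0,2,1,3,4,5,6,7],[5,6,7,2,1,3,4,5,6,0,2,3,4,5,1,3,4,2,3,0,2,1,3,4,5,6,7],[4,1,3,2,0],[5,6,7,2,3,4,5,6,0,2,3,4,5,1,3,4,2,3,0,2,1,3,4,5,6,7],[4,3,2,0],[5,6,7,1,3,4,5,6,0,2,3,4,5,1,3,4,2,3,0,2,1,3,4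,5,6,7],[5,6,7,1,3,4,5,6,2,3,4,5,1,3,4,2,3,0,2,1,3,4,5,6,7],[5,6,7,3,4,5,6,0,2,3,4,5,1,3,4,2,3,0,2,1,3,4,5,6,7],[5,6,7,3,4,5,6,2,3,4,5,1,3,4,2,3,0,2,1,3,4,5,6,7],[6,7,4,3,2,1,3,4,5,6,0,2,3,4,5,1,3,4,2,3,0,2,1,3,4,5,6,7],[4,5,3,4,1,3,2,0],[3,2,1,3,4,5,0,2,3,4,1,3,2,0],[6,7,5,6,3,4,5,1,3,4,2,3,0,2,1,3,4,5,6,7],[4,5,0,2,3,4,1,3,2,0],[4,5,2,3,4,1,3,2,0],[6,7,5,6,0,2,3,4,5,1,3,4,2,3,0,2,1,3,4,5,6,7],[6,7,5,6,2,3,4,5,1,3,4,2,3,0,2,1,3,4,5,6,7],[2,3,4,5,0,2,3,4,1,3,2,0],[6,7,5,6,4,5,3,4,2,3,0,2,1,3,4,5,6,7],[2,1,3,4,5,0,2,3,4,1,3,2,0],[6,7,5,6,4,5,1,3,4,2,3,0,2,1,3,4,5,6,7],[3,4,5,0,2,3,4,1,3,2,0],[3,4,5,2,3,4,1,3,2,0],[1,3,4,5,0,2,3,4,1,3,2,0],[1,3,4,5,2,3,4,1,3,2,0],[6,7,3,2,1,3,4,5,6,0,2,3,4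,5,1,3,4,2,3,0,2,1,3,4,5,6,7],[5,3,4,1,3,2,0],[4,3,2,1,3,4,5,0,2,3,4,1,3,2,0],[6,7,4,5,6,3,4,5,1,3,4,2,3,0,2,1,3,4,5,6,7],[5,0,2,3,4,1,3,2,0],[5,2,3,4,1,3,2,0],[6,7,4,5,6,0,2,3,4,5,1,3,4,2,3,0,2,1,3,4,5,6,7],[6,7,4,5,6,2,3,4,5,1,3,4,2,3,0,2,1,3,4,5,6,7],[6,7,2,1,3,4,5,6,0,2,3,4,5,1,3,4,2,3,0,2,1,3,4,5,6,7],[5,4,1,3,2,0],[6,7,2,3,4,5,6,0,2,3,4,5,1,3,4,2,3,0,2,1,3,4,5,6,7],[5,4,3,2,0],[6,7,1,3,4,5,6,0,2,3,4,5,1,3,4,2,3,0,2,1,3,4,5,6,7],[6,7,1,3,4,5,6,2,3,4,5,1,3,4,2,3,0,2,1,3,4,5,6,7],[6,7,3,4,5,6,0,2,3,4,5,1,3,4,2,3,0,2,1,3,4,5,6,7],[6,7,3,4,5,6,2,3,4,5,1,3,4,2,3,0,2,1,3,4,5,6,7],[7,5,4,3,2,1,3,4,5,6,0,2,3,4,5,1,3,4,2,3,0,2,1,3,4,5,6,7],[5,6,4,5,3,4,1,3,2,0],[5,6,3,2,1,3,4,5,0,2,3,4,1,3,2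,0],[7,6,3,4,5,1,3,4,2,3,0,2,1,3,4,5,6,7],[5,6,4,5,0,2,3,4,1,3,2,0],[5,6,4,5,2,3,4,1,3,2,0],[7,6,0,2,3,4,5,1,3,4,2,3,0,2,1,3,4,5,6,7],[7,6,2,3,4,5,1,3,4,2,3,0,2,1,3,4,5,6,7],[5,6,2,3,4,5,0,2,3,4,1,3,2,0],[7,6,4,5,3,4,2,3,0,2,1,3,4,5,6,7],[5,6,2,1,3,4,5,0,2,3,4,1,3,2,0],[7,6,4,5,1,3,4,2,3,0,2,1,3,4,5,6,7],[5,6,3,4,5,0,2,3,4,1,3,2,0],[5,6,3,4,5,2,3,4,1,3,2,0],[5,6,1,3,4,5,0,2,3,4,1,3,2,0],[5,6,1,3,4,5,2,3,4,1,3,2,0],[3,4,5,6,2,3,4,5,0,2,3,4,1,3,2,0],[7,6,5,4,2,3,0,2,1,3,4,5,6,7],[],[2,3,4,5,6,1,3,4,5,2,3,4,1,3,2,0],[7,6,5,4,3,2,1,3,4,5,6,7],[7,6,5,4,3,0,2,1,3,4,5,6,7],[3,4,5,6,1,3,4,5,0,2,3,4,1,3,2,0],[3,4,5,6,1,3,4,5,2,3,4,1,3,2,0],[4,5,6,2,3,4,5,0,2,3,4,1,3,2,0],[7,6,5,3,4,2,3,0,2,1,3,4,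5,6,7],[4,5,6,2,1,3,4,5,0,2,3,4,1,3,2,0],[7,6,5,1,3,4,2,3,0,2,1,3,4,5,6,7],[4,5,6,3,4,5,0,2,3,4,1,3,2,0],[4,5,6,3,4,5,2,3,4,1,3,2,0],[4,5,6,1,3,4,5,0,2,3,4,1,3,2,0],[4,5,6,1,3,4,5,2,3,4,1,3,2,0],[7,4,3,2,1,3,4,5,6,0,2,3,4,5,1,3,4,2,3,0,2,1,3,4,5,6,7],[6,4,5,3,4,1,3,2,0],[6,3,2,1,3,4,5,0,2,3,4,1,3,2,0],[7,5,6,3,4,5,1,3,4,2,3,0,2,1,3,4,5,6,7],[6,4,5,0,2,3,4,1,3,2,0],[6,4,5,2,3,4,1,3,2,0],[7,5,6,0,2,3,4,5,1,3,4,2,3,0,2,1,3,4,5,6,7],[7,5,6,2,3,4,5,1,3,4,2,3,0,2,1,3,4,5,6,7],[6,2,3,4,5,0,2,3,4,1,3,2,0],[7,5,6,4,5,3,4,2,3,0,2,1,3,4,5,6,7],[6,2,1,3,4,5,0,2,3,4,1,3,2,0],[7,5,6,4,5,1,3,4,2,3,0,2,1,3,4,5,6,7],[6,3,4,5,0,2,3,4,1,3,2,0],[6,3,4,5,2,3,4,1,3,2,0],[6,1,3,4,5,0,2,3,4,1,3,2,0],[6,1,3,4,5,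2,3,4,1,3,2,0],[7,3,2,1,3,4,5,6,0,2,3,4,5,1,3,4,2,3,0,2,1,3,4,5,6,7],[6,5,3,4,1,3,2,0],[6,4,3,2,1,3,4,5,0,2,3,4,1,3,2,0],[7,4,5,6,3,4,5,1,3,4,2,3,0,2,1,3,4,5,6,7],[6,5,0,2,3,4,1,3,2,0],[6,5,2,3,4,1,3,2,0],[7,4,5,6,0,2,3,4,5,1,3,4,2,3,0,2,1,3,4,5,6,7],[7,4,5,6,2,3,4,5,1,3,4,2,3,0,2,1,3,4,5,6,7],[7,2,1,3,4,5,6,0,2,3,4,5,1,3,4,2,3,0,2,1,3,4,5,6,7],[6,5,4,1,3,2,0],[7,2,3,4,5,6,0,2,3,4,5,1,3,4,2,3,0,2,1,3,4,5,6,7],[6,5,4,3,2,0],[7,1,3,4,5,6,0,2,3,4,5,1,3,4,2,3,0,2,1,3,4,5,6,7],[7,1,3,4,5,6,2,3,4,5,1,3,4,2,3,0,2,1,3,4,5,6,7],[7,3,4,5,6,0,2,3,4,5,1,3,4,2,3,0,2,1,3,4,5,6,7],[7,3,4,5,6,2,3,4,5,1,3,4,2,3,0,2,1,3,4,5,6,7],[6,5,4,3,2,1,3,4,5,6,0,2,3,4,5,1,3,4,2,3,0,2,1,3,4,5,6,7],[6,7,5,6,4,5,3,4,1,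3,2,0],[6,7,5,6,3,2,1,3,4,5,0,2,3,4,1,3,2,0],[3,4,5,1,3,4,2,3,0,2,1,3,4,5,6,7],[6,7,5,6,4,5,0,2,3,4,1,3,2,0],[6,7,5,6,4,5,2,3,4,1,3,2,0],[0,2,3,4,5,1,3,4,2,3,0,2,1,3,4,5,6,7],[2,3,4,5,1,3,4,2,3,0,2,1,3,4,5,6,7],[6,7,5,6,2,3,4,5,0,2,3,4,1,3,2,0],[4,5,3,4,2,3,0,2,1,3,4,5,6,7],[6,7,5,6,2,1,3,4,5,0,2,3,4,1,3,2,0],[4,5,1,3,4,2,3,0,2,1,3,4,5,6,7],[6,7,5,6,3,4,5,0,2,3,4,1,3,2,0],[6,7,5,6,3,4,5,2,3,4,1,3,2,0],[6,7,5,6,1,3,4,5,0,2,3,4,1,3,2,0],[6,7,5,6,1,3,4,5,2,3,4,1,3,2,0],[6,7,3,4,5,6,2,3,4,5,0,2,3,4,1,3,2,0],[5,4,2,3,0,2,1,3,4,5,6,7],[6,7],[6,7,2,3,4,5,6,1,3,4,5,2,3,4,1,3,2,0],[5,4,3,2,1,3,4,5,6,7],[5,4,3,0,2,1,3,4,5,6,7],[6,7,3,4,5,6,1,3,4,5,0,2,3,4,1,3,2,0],[6,7,3,4,5,6,1,3,4,5,2,3,4,1,3,2,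0],[6,7,4,5,6,2,3,4,5,0,2,3,4,1,3,2,0],[5,3,4,2,3,0,2,1,3,4,5,6,7],[6,7,4,5,6,2,1,3,4,5,0,2,3,4,1,3,2,0],[5,1,3,4,2,3,0,2,1,3,4,5,6,7],[6,7,4,5,6,3,4,5,0,2,3,4,1,3,2,0],[6,7,4,5,6,3,4,5,2,3,4,1,3,2,0],[6,7,4,5,6,1,3,4,5,0,2,3,4,1,3,2,0],[6,7,4,5,6,1,3,4,5,2,3,4,1,3,2,0],[4,5,6,7,3,4,5,6,2,3,4,5,0,2,3,4,1,3,2,0],[2,3,0,2,1,3,4,5,6,7],[4,5,6,7],[4,5,6,7,2,3,4,5,6,1,3,4,5,2,3,4,1,3,2,0],[3,2,1,3,4,5,6,7],[3,0,2,1,3,4,5,6,7],[4,5,6,7,3,4,5,6,1,3,4,5,0,2,3,4,1,3,2,0],[4,5,6,7,3,4,5,6,1,3,4,5,2,3,4,1,3,2,0],[1,3,4,5,6,7],[1,3,4,5,6,7,2,3,4,5,6,1,3,4,5,2,3,4,1,3,2,0],[3,4,5,6,7],[3,4,5,6,7,2,3,4,5,6,1,3,4,5,2,3,4,1,3,2,0],[2,1,3,4,5,6,7],[0,2,1,3,4,5,6,7],[2,3,4,5,6,7],[0,2,3,4,5,6,7],[5,6,7,3,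4,5,6,2,3,4,5,0,2,3,4,1,3,2,0],[4,2,3,0,2,1,3,4,5,6,7],[5,6,7],[5,6,7,2,3,4,5,6,1,3,4,5,2,3,4,1,3,2,0],[4,3,2,1,3,4,5,6,7],[4,3,0,2,1,3,4,5,6,7],[5,6,7,3,4,5,6,1,3,4,5,0,2,3,4,1,3,2,0],[5,6,7,3,4,5,6,1,3,4,5,2,3,4,1,3,2,0],[5,6,7,4,5,6,2,3,4,5,0,2,3,4,1,3,2,0],[3,4,2,3,0,2,1,3,4,5,6,7],[5,6,7,4,5,6,2,1,3,4,5,0,2,3,4,1,3,2,0],[1,3,4,2,3,0,2,1,3,4,5,6,7],[5,6,7,4,5,6,3,4,5,0,2,3,4,1,3,2,0],[5,6,7,4,5,6,3,4,5,2,3,4,1,3,2,0],[5,6,7,4,5,6,1,3,4,5,0,2,3,4,1,3,2,0],[5,6,7,4,5,6,1,3,4,5,2,3,4,1,3,2,0],[5,4,3,2,1,3,4,5,6,0,2,3,4,5,1,3,4,2,3,0,2,1,3,4,5,6,7],[7,5,6,4,5,3,4,1,3,2,0],[7,5,6,3,2,1,3,4,5,0,2,3,4,1,3,2,0],[6,3,4,5,1,3,4,2,3,0,2,1,3,4,5,6,7],[7,5,6,4,5,0,2,3,4,1,3,2,0],[7,5,6,4,5,2,3,4,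1,3,2,0],[6,0,2,3,4,5,1,3,4,2,3,0,2,1,3,4,5,6,7],[6,2,3,4,5,1,3,4,2,3,0,2,1,3,4,5,6,7],[7,5,6,2,3,4,5,0,2,3,4,1,3,2,0],[6,4,5,3,4,2,3,0,2,1,3,4,5,6,7],[7,5,6,2,1,3,4,5,0,2,3,4,1,3,2,0],[6,4,5,1,3,4,2,3,0,2,1,3,4,5,6,7],[7,5,6,3,4,5,0,2,3,4,1,3,2,0],[7,5,6,3,4,5,2,3,4,1,3,2,0],[7,5,6,1,3,4,5,0,2,3,4,1,3,2,0],[7,5,6,1,3,4,5,2,3,4,1,3,2,0],[7,3,4,5,6,2,3,4,5,0,2,3,4,1,3,2,0],[6,5,4,2,3,0,2,1,3,4,5,6,7],[7],[7,2,3,4,5,6,1,3,4,5,2,3,4,1,3,2,0],[6,5,4,3,2,1,3,4,5,6,7],[6,5,4,3,0,2,1,3,4,5,6,7],[7,3,4,5,6,1,3,4,5,0,2,3,4,1,3,2,0],[7,3,4,5,6,1,3,4,5,2,3,4,1,3,2,0],[7,4,5,6,2,3,4,5,0,2,3,4,1,3,2,0],[6,5,3,4,2,3,0,2,1,3,4,5,6,7],[7,4,5,6,2,1,3,4,5,0,2,3,4,1,3,2,0],[6,5,1,3,4,2,3,0,2,1,3,4,5,6,7],[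7,4,5,6,3,4,5,0,2,3,4,1,3,2,0],[7,4,5,6,3,4,5,2,3,4,1,3,2,0],[7,4,5,6,1,3,4,5,0,2,3,4,1,3,2,0],[7,4,5,6,1,3,4,5,2,3,4,1,3,2,0],[4,3,2,1,3,4,5,6,0,2,3,4,5,1,3,4,2,3,0,2,1,3,4,5,6,7],[7,6,4,5,3,4,1,3,2,0],[7,6,3,2,1,3,4,5,0,2,3,4,1,3,2,0],[5,6,3,4,5,1,3,4,2,3,0,2,1,3,4,5,6,7],[7,6,4,5,0,2,3,4,1,3,2,0],[7,6,4,5,2,3,4,1,3,2,0],[5,6,0,2,3,4,5,1,3,4,2,3,0,2,1,3,4,5,6,7],[5,6,2,3,4,5,1,3,4,2,3,0,2,1,3,4,5,6,7],[7,6,2,3,4,5,0,2,3,4,1,3,2,0],[5,6,4,5,3,4,2,3,0,2,1,3,4,5,6,7],[7,6,2,1,3,4,5,0,2,3,4,1,3,2,0],[5,6,4,5,1,3,4,2,3,0,2,1,3,4,5,6,7],[7,6,3,4,5,0,2,3,4,1,3,2,0],[7,6,3,4,5,2,3,4,1,3,2,0],[7,6,1,3,4,5,0,2,3,4,1,3,2,0],[7,6,1,3,4,5,2,3,4,1,3,2,0],[3,2,1,3,4,5,6,0,2,3,4,5,1,3,4,2,3,0,2,1,3,4,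5,6,7],[7,6,5,3,4,1,3,2,0],[7,6,4,3,2,1,3,4,5,0,2,3,4,1,3,2,0],[4,5,6,3,4,5,1,3,4,2,3,0,2,1,3,4,5,6,7],[7,6,5,0,2,3,4,1,3,2,0],[7,6,5,2,3,4,1,3,2,0],[4,5,6,0,2,3,4,5,1,3,4,2,3,0,2,1,3,4,5,6,7],[4,5,6,2,3,4,5,1,3,4,2,3,0,2,1,3,4,5,6,7],[2,1,3,4,5,6,0,2,3,4,5,1,3,4,2,3,0,2,1,3,4,5,6,7],[7,6,5,4,1,3,2,0],[2,3,4,5,6,0,2,3,4,5,1,3,4,2,3,0,2,1,3,4,5,6,7],[7,6,5,4,3,2,0],[1,3,4,5,6,0,2,3,4,5,1,3,4,2,3,0,2,1,3,4,5,6,7],[1,3,4,5,6,2,3,4,5,1,3,4,2,3,0,2,1,3,4,5,6,7],[3,4,5,6,0,2,3,4,5,1,3,4,2,3,0,2,1,3,4,5,6,7],[3,4,5,6,2,3,4,5,1,3,4,2,3,0,2,1,3,4,5,6,7]]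
theorem hW : ∀ n < 2 ^ chevE8.rank, n ≠ 0 → (∀ i ∈ nthL [] W n, i < chevE8.rank) ∧ runW chevE8 (nthL [] W n) n ∈ [6, 82] := by decide +kernel
noncomputable def L7b : List (List ℤ) := [[(.ofNat 0),(.ofNat 0),(.ofNat 0),(.ofNat 0),(.ofNat 0),(.ofNat 0),(.ofNat 0),(.ofNat 1)],[(.ofNat 0),(.ofNat 0),(.ofNat 0),(.ofNat 0),(.ofNat 0),(.ofNat 0),(.ofNat 1),(.negSucc 0)],[(.ofNat 0),(.ofNat 0),(.ofNat 0),(.ofNat 0),(.ofNat 0),(.ofNat 1),(.negSucc 0),(.ofNat 0)],[(.ofNat 0),(.ofNat 0),(.ofNat 0),(.ofNat 0),(.ofNat 1),(.negSucc 0),(.ofNat 0),(.ofNat 0)],[(.ofNat 0),(.ofNat 0),(.ofNat 0),(.ofNat 1),(.negSucc 0),(.ofNat 0),(.ofNat 0),(.ofNat 0)],[(.ofNat 0),(.ofNat 1),(.ofNat 1),(.negSucc 0),(.ofNat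 0),(.ofNat 0),(.ofNat 0),(.ofNat 0)],[(.ofNat 1),(.ofNat 1),(.negSucc 0),(.ofNat 0),(.ofNat 0),(.ofNat 0),(.ofNat 0),(.ofNat 0)],[(.ofNat 0),(.negSucc 0),(.ofNat 1),(.ofNat 0),(.ofNat 0),(.ofNat 0),(.ofNat 0),(.ofNat 0)],[(.ofNat 1),(.negSucc 0),(.negSucc 0),(.ofNat 1),(.ofNat 0),(.ofNat 0),(.ofNat 0),(.ofNat 0)],[(.ofNat 1),(.ofNat 0),(.ofNat 0),(.negSucc 0),(.ofNat 1),(.ofNat 0),(.ofNat 0),(.ofNat 0)],[(.ofNat 1),(.ofNat 0),(.ofNat 0),(.ofNat 0),(.negSucc 0),(.ofNat 1),(.ofNat 0),(.ofNat 0)],[(.ofNat 1),(.ofNat 0),(.ofNat 0),(.ofNat 0),(.ofNat 0),(.negSucc 0),(.ofNat 1),(.ofNat 0)],[(.ofNat 1),(.ofNat 0),(.ofNat 0),(.ofNat 0),(.ofNat 0),(.ofNat 0),(.negSucc 0),(.ofNat 1)],[(.ofNat 1),(.ofNat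 0),(.ofNat 0),(.ofNat 0),(.ofNat 0),(.ofNat 0),(.ofNat 0),(.negSucc 0)]]
noncomputable def par7b : List (ℕ × ℕ) := [(0,7),(1,6),(2,5),(3,4),(4,3),(5,2),(5,1),(6,1),(8,3),(9,4),(10,5),(11,6),(12,7)]
noncomputable def ds7b : List ℕ := [0,1,2,3,4,5,6,6,7,8,9,10,11,12]
theorem ok7b : orbOK RootE8T.R chevE8.rank 7 OrbE8.cm [7, 6, 5, 4, 2, 3, 1] L7b par7b ds7b = true := by decide +kernel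
noncomputable def L6b : List (List ℤ) := [[(.ofNat 0),(.ofNat 0),(.ofNat 0),(.ofNat 0),(.ofNat 0),(.ofNat 0),(.ofNat 1),(.ofNat 0)],[(.ofNat 0),(.ofNat 0),(.ofNat 0),(.ofNat 0),(.ofNat 0),(.ofNat 1),(.negSucc 0),(.ofNat 1)],[(.ofNat 0),(.ofNat 0),(.ofNat 0),(.ofNat 0),(.ofNat 1),(.negSucc 0),(.ofNat 0),(.ofNat 1)],[(.ofNat 0),(.ofNat 0),(.ofNat 0),(.ofNat 1),(.negSucc 0),(.ofNat 0),(.ofNat 0),(.ofNat 1)],[(.ofNat 0),(.ofNat 1),(.ofNat 1),(.negSucc 0),(.ofNat 0),(.ofNat 0),(.ofNat 0),(.ofNat 1)],[(.ofNat 1),(.ofNat 1),(.negSucc 0),(.ofNat 0),(.ofNat 0),(.ofNat 0),(.ofNat 0),(.ofNat 1)],[(.ofNat 0),(.negSucc 0),(.ofNat 1),(.ofNat 0),(.ofNat 0),(.ofNat 0),(.ofNat 0),(.ofNat 1)],[(.ofNat 1),(.negSucc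 0),(.negSucc 0),(.ofNat 1),(.ofNat 0),(.ofNat 0),(.ofNat 0),(.ofNat 1)],[(.ofNat 1),(.ofNat 0),(.ofNat 0),(.negSucc 0),(.ofNat 1),(.ofNat 0),(.ofNat 0),(.ofNat 1)],[(.ofNat 1),(.ofNat 0),(.ofNat 0),(.ofNat 0),(.negSucc 0),(.ofNat 1),(.ofNat 0),(.ofNat 1)],[(.ofNat 1),(.ofNat 0),(.ofNat 0),(.ofNat 0),(.ofNat 0),(.negSucc 0),(.ofNat 1),(.ofNat 1)],[(.ofNat 1),(.ofNat 0),(.ofNat 0),(.ofNat 0),(.ofNat 0),(.ofNat 0),(.negSucc 0),(.ofNat 2)]]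
noncomputable def par6b : List (ℕ × ℕ) := [(0,6),(1,5),(2,4),(3,3),(4,2),(4,1),(5,1),(7,3),(8,4),(9,5),(10,6)]
noncomputable def ds6b : List ℕ := [0,1,2,3,4,5,5,6,7,8,9,10]
theorem ok6b : orbOK RootE8T.R chevE8.rank 6 OrbE8.cm [6, 5, 4, 2, 3, 1] L6b par6b ds6b = true := by decide +kernel
noncomputable def L5b : List (List ℤ) := [[(.ofNat 0),(.ofNat 0),(.ofNat 0),(.ofNat 0),(.ofNat 0),(.ofNat 1),(.ofNat 0),(.ofNat 0)],[(.ofNat 0),(.ofNat 0),(.ofNat 0),(.ofNat 0),(.ofNat 1),(.negSucc 0),(.ofNat 1),(.ofNat 0)],[(.ofNat 0),(.ofNat 0),(.ofNat 0),(.ofNat 1),(.negSucc 0),(.ofNat 0),(.ofNat 1),(.ofNat 0)],[(.ofNat 0),(.ofNat 1),(.ofNat 1),(.negSucc 0),(.ofNat 0),(.ofNat 0),(.ofNat 1),(.ofNat 0)],[(.ofNat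 1),(.ofNat 1),(.negSucc 0),(.ofNat 0),(.ofNat 0),(.ofNat 0),(.ofNat 1),(.ofNat 0)],[(.ofNat 0),(.negSucc 0),(.ofNat 1),(.ofNat 0),(.ofNat 0),(.ofNat 0),(.ofNat 1),(.ofNat 0)],[(.ofNat 1),(.negSucc 0),(.negSucc 0),(.ofNat 1),(.ofNat 0),(.ofNat 0),(.ofNat 1),(.ofNat 0)],[(.ofNat 1),(.ofNat 0),(.ofNat 0),(.negSucc 0),(.ofNat 1),(.ofNat 0),(.ofNat 1),(.ofNat 0)],[(.ofNat 1),(.ofNat 0),(.ofNat 0),(.ofNat 0),(.negSucc 0),(.ofNat 1),(.ofNat 1),(.ofNat 0)],[(.ofNat 1),(.ofNat 0),(.ofNat 0),(.ofNat 0),(.ofNat 0),(.negSucc 0),(.ofNat 2),(.ofNat 0)]]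
noncomputable def par5b : List (ℕ × ℕ) := [(0,5),(1,4),(2,3),(3,2),(3,1),(4,1),(6,3),(7,4),(8,5)]
noncomputable def ds5b : List ℕ := [0,1,2,3,4,4,5,6,7,8]
theorem ok5b : orbOK RootE8T.R chevE8.rank 5 OrbE8.cm [5, 4, 2, 3, 1] L5b par5b ds5b = true := by decide +kernel
noncomputable def L4b : List (List ℤ) := [[(.ofNat 0),(.ofNat 0),(.ofNat 0),(.ofNat 0),(.ofNat 1),(.ofNat 0),(.ofNat 0),(.ofNat 0)],[(.ofNat 0),(.ofNat 0),(.ofNat 0),(.ofNat 1),(.negSucc 0),(.ofNat 1),(.ofNat 0),(.ofNat 0)],[(.ofNat 0),(.ofNat 1),(.ofNat 1),(.negSucc 0),(.ofNat 0),(.ofNat 1),(.ofNat 0),(.ofNat 0)],[(.ofNat 1),(.ofNat 1),(.negSucc 0),(.ofNat 0),(.ofNat 0),(.ofNat 1),(.ofNat 0),(.ofNat 0)],[(.ofNat 0),(.negSucc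 0),(.ofNat 1),(.ofNat 0),(.ofNat 0),(.ofNat 1),(.ofNat 0),(.ofNat 0)],[(.ofNat 1),(.negSucc 0),(.negSucc 0),(.ofNat 1),(.ofNat 0),(.ofNat 1),(.ofNat 0),(.ofNat 0)],[(.ofNat 1),(.ofNat 0),(.ofNat 0),(.negSucc 0),(.ofNat 1),(.ofNat 1),(.ofNat 0),(.ofNat 0)],[(.ofNat 1),(.ofNat 0),(.ofNat 0),(.ofNat 0),(.negSucc 0),(.ofNat 2),(.ofNat 0),(.ofNat 0)]]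
noncomputable def par4b : List (ℕ × ℕ) := [(0,4),(1,3),(2,2),(2,1),(3,1),(5,3),(6,4)]
noncomputable def ds4b : List ℕ := [0,1,2,3,3,4,5,6]
theorem ok4b : orbOK RootE8T.R chevE8.rank 4 OrbE8.cm [4, 2, 3, 1] L4b par4b ds4b = true := by decide +kernel
noncomputable def L2b : List (List ℤ) := [[(.ofNat 0),(.ofNat 0),(.ofNat 1),(.ofNat 0),(.ofNat 0),(.ofNat 0),(.ofNat 0),(.ofNat 0)],[(.ofNat 1),(.ofNat 0),(.negSucc 0),(.ofNat 1),(.ofNat 0),(.ofNat 0),(.ofNat 0),(.ofNat 0)],[(.ofNat 1),(.ofNat 1),(.ofNat 0),(.negSucc 0),(.ofNat 1),(.ofNat 0),(.ofNat 0),(.ofNat 0)],[(.ofNat 1),(.negSucc 0),(.ofNat 0),(.ofNat 0),(.ofNat 1),(.ofNat 0),(.ofNat 0),(.ofNat 0)]]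
noncomputable def par2b : List (ℕ × ℕ) := [(0,2),(1,3),(2,1)]
noncomputable def ds2b : List ℕ := [0,1,2,3]
theorem ok2b : orbOK RootE8T.R chevE8.rank 2 OrbE8.cm [2, 3, 1] L2b par2b ds2b = true := by decide +kernel
noncomputable def L3b : List (List ℤ) := [[(.ofNat 0),(.ofNat 0),(.ofNat 0),(.ofNat 1),(.ofNat 0),(.ofNat 0),(.ofNat 0),(.ofNat 0)],[(.ofNat 0),(.ofNat 1),(.ofNat 1),(.negSucc 0),(.ofNat 1),(.ofNat 0),(.ofNat 0),(.ofNat 0)],[(.ofNat 0),(.negSucc 0),(.ofNat 1),(.ofNat 0),(.ofNat 1),(.ofNat 0),(.ofNat 0),(.ofNat 0)]]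
noncomputable def par3b : List (ℕ × ℕ) := [(0,3),(1,1)]
noncomputable def ds3b : List ℕ := [0,1,2]
theorem ok3b : orbOK RootE8T.R chevE8.rank 3 OrbE8.cm [3, 1] L3b par3b ds3b = true := by decide +kernel
noncomputable def L1b : List (List ℤ) := [[(.ofNat 0),(.ofNat 1),(.ofNat 0),(.ofNat 0),(.ofNat 0),(.ofNat 0),(.ofNat 0),(.ofNat 0)],[(.ofNat 0),(.negSucc 0),(.ofNat 0),(.ofNat 1),(.ofNat 0),(.ofNat 0),(.ofNat 0),(.ofNat 0)]]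
noncomputable def par1b : List (ℕ × ℕ) := [(0,1)]
noncomputable def ds1b : List ℕ := [0,1]
theorem ok1b : orbOK RootE8T.R chevE8.rank 1 OrbE8.cm [1] L1b par1b ds1b = true := by decide +kernel

end Cfsg.Agent.Lib.Chev.TabE8Inv
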