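import Cfsg.Agent.Lib.ChevIO.Tinv
import Cfsg.Agent.Lib.Chev.OrbE8

namespace Cfsg.Agent.Lib.Chev.TabE8Big
open Cfsg.Agent.Lib.Chev Cfsg.Lie

set_option maxRecDepth 100000

noncomputable def Tb : Trie (List ℤ) := (.node [(.ofNat 1),(.ofNat 0),(.ofNat 0),(.ofNat 0),(.ofNat 0),(.ofNat 0),(.ofNat 0),(.ofNat 0)] (.node [] (.node [] (.node [] (.node [] (.node [] (.node [] (.node [] (.node [] (.node [] (.node [] (.node [] .nil (.node [(.ofNat 1),(.ofNat 1),(.negSucc 0),(.negSucc 0),(.ofNat 1),(.negSucc 0),(.ofNat 1),(.ofNat 0)] .nil .nil)) (.node [(.ofNat 0),(.negSucc 0),(.negSucc 0),(.ofNat 1),(.ofNat 1),(.negSucc 0),(.ofNat 1),(.negSucc 1)] .nil .nil)) (.node [(.negSucc 0),(.negSucc 0),(.ofNat 2),(.ofNat 0),(.negSucc 0),(.ofNat 1),(.negSucc 0),(.ofNat 1)] .nil (.node [(.negSucc 0),(.ofNat 1),(.ofNat 0),(.ofNat 1),(.negSucc 0),(.ofNat 0),(.negSucc 0),(.ofNat 0)] .nil .nil))) (.node [(.ofNat 1),(.negSucc 0),(.negSucc 0),(.ofNat 2),(.negSucc 1),(.ofNat 1),(.ofNat 0),(.ofNat 0)] (.node [] .nil (.node [(.negSucc 1),(.ofNat 0),(.ofNat 1),(.ofNat 1),(.negSucc 0),(.ofNat 0),(.negSucc 0),(.ofNat 1)] .nil .nil)) (.node [(.negSucc 0),(.negSucc 0),(.ofNat 1),(.negSucc 0),(.ofNat 2),(.negSucc 0),(.ofNat 0),(.ofNat 1)] .nil (.node [(.ofNat 1),(.negSucc 1),(.negSucc 0),(.ofNat 1),(.ofNat 0),(.ofNat 0),(.ofNat 1),(.negSucc 0)] .nil .nil)))) (.node [(.negSucc 0),(.ofNat 0),(.ofNat 2),(.negSucc 0),(.ofNat 0),(.ofNat 1),(.negSucc 0),(.ofNat 0)] (.node [] (.node [] .nil (.node [(.ofNat 0),(.negSucc 1),(.ofNat 0),(.ofNat 1),(.ofNat 0),(.ofNat 0),(.ofNat 1),(.negSucc 1)] .nil .nil)) (.node [(.ofNat 0),(.negSucc 0),(.ofNat 0),(.ofNat 0),(.ofNat 1),(.ofNat 1),(.negSucc 1),(.ofNat 0)] .nil (.node [(.ofNat 0),(.negSucc 0),(.ofNat 0),(.ofNat 0),(.ofNat 0),(.ofNat 0),(.ofNat 0),(.ofNat 2)] .nil .nil))) (.node [(.ofNat 1),(.ofNat 0),(.ofNat 0),(.negSucc 0),(.ofNat 2),(.negSucc 0),(.ofNat 0),(.negSucc 0)] (.node [] .nil (.node [(.ofNat 1),(.negSucc 1),(.ofNat 0),(.ofNat 0),(.ofNat 1),(.ofNat 0),(.ofNat 0),(.negSucc 0)] .nil .nil)) (.node [(.negSucc 0),(.negSucc 0),(.ofNat 1),(.ofNat 0),(.ofNat 1),(.negSucc 0),(.negSucc 0),(.ofNat 2)] .nil (.node [(.negSucc 0),(.ofNat 0),(.ofNat 0),(.ofNat 1),(.negSucc 0),(.ofNat 1),(.negSucc 0),(.negSucc 0)] .nil .nil))))) (.node [(.ofNat 1),(.ofNat 1),(.ofNat 0),(.ofNat 0),(.negSucc 0),(.ofNat 0),(.ofNat 1),(.negSucc 0)] (.node [] (.node [] (.node [] (.node [] .nil (.node [(.negSucc 0),(.negSucc 0),(.ofNat 0),(.ofNat 1),(.negSucc 0),(.ofNat 1),(.ofNat 0),(.negSucc 0)] .nil .nil)) (.node [(.ofNat 0),(.negSucc 1),(.ofNat 0),(.ofNat 1),(.ofNat 0),(.ofNat 0),(.negSucc 0),(.ofNat 2)] .nil .nil)) (.node [(.ofNat 0),(.negSucc 0),(.ofNat 0),(.ofNat 1),(.ofNat 0),(.ofNat 0),(.ofNat 0),(.negSucc 1)] .nil (.node [(.negSucc 0),(.ofNat 1),(.negSucc 0),(.ofNat 0),(.ofNat 0),(.ofNat 1),(.negSucc 0),(.ofNat 1)] .nil .nil))) (.node [(.ofNat 1),(.ofNat 0),(.ofNat 0),(.ofNat 0),(.negSucc 0),(.ofNat 1),(.negSucc 0),(.ofNat 2)] (.node [] .nil (.node [(.negSucc 1),(.negSucc 0),(.ofNat 2),(.ofNat 0),(.ofNat 0),(.negSucc 0),(.ofNat 1),(.ofNat 0)] .nil .nil)) (.node [(.ofNat 0),(.ofNat 2),(.ofNat 0),(.negSucc 1),(.ofNat 1),(.ofNat 0),(.ofNat 0),(.ofNat 1)] .nil (.node [(.ofNat 2),(.ofNat 0),(.ofNat 0),(.ofNat 0),(.negSucc 0),(.ofNat 0),(.ofNat 0),(.ofNat 0)] .nil .nil)))) (.node [(.negSucc 0),(.ofNat 1),(.ofNat 0),(.ofNat 0),(.negSucc 0),(.ofNat 1),(.ofNat 0),(.ofNat 1)] (.node [] (.node [] .nil (.node [(.ofNat 0),(.ofNat 0),(.ofNat 0),(.ofNat 1),(.negSucc 0),(.negSucc 0),(.ofNat 2),(.negSucc 1)] .nil .nil)) (.node [(.ofNat 0),(.ofNat 0),(.negSucc 1),(.ofNat 1),(.ofNat 0),(.ofNat 1),(.ofNat 0),(.negSucc 0)] .nil (.node [(.negSucc 1),(.negSucc 0),(.ofNat 1),(.ofNat 1),(.negSucc 0),(.ofNat 0),(.ofNat 1),(.negSucc 0)] .nil .nil))) (.node [(.negSucc 1),(.ofNat 1),(.ofNat 1),(.negSucc 0),(.ofNat 1),(.ofNat 0),(.negSucc 0),(.ofNat 1)] (.node [] .nil (.node [(.ofNat 1),(.negSucc 1),(.ofNat 0),(.ofNat 1),(.ofNat 0),(.negSucc 0),(.ofNat 0),(.ofNat 1)] .nil .nil)) (.node [(.negSucc 0),(.negSucc 0),(.ofNat 1),(.ofNat 0),(.ofNat 1),(.negSucc 0),(.ofNat 1),(.negSucc 1)] .nil (.node [(.ofNat 0),(.negSucc 0),(.negSucc 0),(.ofNat 1),(.ofNat 0),(.ofNat 1),(.negSucc 1),(.ofNat 1)] .nil .nil)))))) (.node [(.ofNat 0),(.ofNat 0),(.ofNat 1),(.ofNat 0),(.ofNat 0),(.negSucc 0),(.ofNat 1),(.negSucc 0)] (.node [] (.node [] (.node [] (.node [] (.node [] .nil (.node [(.ofNat 1),(.ofNat 1),(.negSucc 0),(.ofNat 0),(.negSucc 0),(.ofNat 1),(.negSucc 0),(.ofNat 1)] .nil .nil)) (.node [(.ofNat 0),(.ofNat 1),(.ofNat 1),(.negSucc 1),(.ofNat 0),(.ofNat 2),(.negSucc 0),(.ofNat 0)] .nil .nil)) (.node [(.ofNat 2),(.ofNat 1),(.negSucc 0),(.ofNat 0),(.ofNat 0),(.negSucc 0),(.ofNat 1),(.negSucc 0)] .nil (.node [(.ofNat 0),(.ofNat 0),(.negSucc 0),(.ofNat 1),(.ofNat 0),(.ofNat 0),(.ofNat 0),(.negSucc 1)] .nil .nil))) (.node [(.ofNat 2),(.ofNat 0),(.negSucc 1),(.ofNat 1),(.negSucc 0),(.ofNat 1),(.ofNat 0),(.ofNat 0)] (.node [] .nil (.node [(.ofNat 0),(.ofNat 0),(.ofNat 2),(.negSucc 1),(.ofNat 1),(.ofNat 0),(.negSucc 0),(.ofNat 1)] .nil .nil)) (.node [(.ofNat 0),(.ofNat 2),(.ofNat 1),(.negSucc 0),(.ofNat 0),(.negSucc 0),(.ofNat 0),(.ofNat 0)] .nil (.node [(.ofNat 0),(.ofNat 1),(.negSucc 0),(.negSucc 0),(.ofNat 1),(.ofNat 0),(.ofNat 0),(.ofNat 1)] .nil .nil)))) (.node [(.ofNat 0),(.ofNat 0),(.ofNat 0),(.ofNat 0),(.ofNat 1),(.ofNat 0),(.negSucc 1),(.ofNat 1)] (.node [] (.node [] .nil (.node [(.ofNat 0),(.negSucc 0),(.ofNat 1),(.negSucc 0),(.ofNat 2),(.negSucc 1),(.ofNat 1),(.ofNat 0)] .nil .nil)) (.node [(.ofNat 1),(.ofNat 2),(.negSucc 0),(.ofNat 0),(.negSucc 0),(.ofNat 0),(.ofNat 0),(.ofNat 1)] .nil (.node [(.ofNat 1),(.ofNat 1),(.negSucc 1),(.ofNat 0),(.ofNat 1),(.ofNat 0),(.negSucc 0),(.ofNat 0)] .nil .nil))) (.node [(.ofNat 1),(.ofNat 1),(.negSucc 1),(.ofNat 0),(.ofNat 1),(.negSucc 0),(.ofNat 1),(.ofNat 0)] (.node [] .nil (.node [(.ofNat 1),(.negSucc 0),(.negSucc 0),(.ofNat 1),(.ofNat 1),(.negSucc 1),(.ofNat 1),(.negSucc 0)] .nil .nil)) (.node [(.negSucc 0),(.ofNat 0),(.ofNat 0),(.ofNat 0),(.ofNat 2),(.negSucc 1),(.ofNat 0),(.ofNat 0)] .nil (.node [(.negSucc 0),(.ofNat 1),(.ofNat 1),(.negSucc 0),(.ofNat 0),(.ofNat 1),(.negSucc 0),(.negSucc 0)] .nil .nil))))) (.node [(.ofNat 1),(.ofNat 0),(.ofNat 1),(.negSucc 0),(.ofNat 0),(.ofNat 0),(.ofNat 1),(.negSucc 0)] (.node [] (.node [] (.node [] (.node [] .nil (.node [(.ofNat 0),(.ofNat 1),(.ofNat 0),(.negSucc 0),(.ofNat 0),(.ofNat 0),(.ofNat 0),(.ofNat 1)] .nil .nil)) (.node [(.ofNat 0),(.ofNat 1),(.ofNat 1),(.negSucc 1),(.ofNat 2),(.negSucc 1),(.ofNat 1),(.ofNat 0)] .nil .nil)) (.node [(.negSucc 0),(.ofNat 0),(.ofNat 0),(.ofNat 1),(.negSucc 1),(.ofNat 1),(.ofNat 1),(.ofNat 0)] .nil (.node [(.ofNat 1),(.negSucc 0),(.negSucc 1),(.ofNat 1),(.ofNat 1),(.negSucc 0),(.ofNat 0),(.ofNat 1)] .nil .nil))) (.node [(.ofNat 1),(.ofNat 0),(.ofNat 0),(.ofNat 0),(.negSucc 0),(.ofNat 2),(.negSucc 1),(.ofNat 1)] (.node [] .nil (.node [(.negSucc 0),(.ofNat 1),(.ofNat 0),(.ofNat 0),(.negSucc 0),(.ofNat 2),(.negSucc 0),(.negSucc 0)] .nil .nil)) (.node [(.ofNat 0),(.ofNat 1),(.ofNat 2),(.negSucc 1),(.ofNat 1),(.negSucc 0),(.ofNat 0),(.ofNat 0)] .nil (.node [(.ofNat 1),(.negSucc 0),(.ofNat 0),(.ofNat 0),(.ofNat 0),(.negSucc 0),(.ofNat 2),(.negSucc 0)] .nil .nil)))) (.node [(.ofNat 1),(.negSucc 0),(.negSucc 0),(.ofNat 0),(.ofNat 2),(.negSucc 0),(.ofNat 0),(.ofNat 0)] (.node [] (.node [] .nil (.node [(.ofNat 0),(.ofNat 2),(.ofNat 0),(.ofNat 0),(.negSucc 0),(.ofNat 0),(.ofNat 0),(.negSucc 0)] .nil .nil)) (.node [(.ofNat 1),(.ofNat 0),(.negSucc 0),(.ofNat 1),(.ofNat 0),(.negSucc 0),(.negSucc 0),(.ofNat 2)] .nil (.node [(.negSucc 0),(.negSucc 0),(.ofNat 2),(.ofNat 0),(.ofNat 0),(.negSucc 0),(.ofNat 0),(.ofNat 0)] .nil .nil))) (.node [(.ofNat 0),(.ofNat 1),(.ofNat 0),(.ofNat 0),(.ofNat 0),(.ofNat 0),(.negSucc 1),(.ofNat 2)] (.node [] .nil (.node [(.negSucc 0),(.negSucc 0),(.ofNat 0),(.ofNat 1),(.ofNat 0),(.ofNat 1),(.negSucc 1),(.ofNat 0)] .nil .nil)) (.node [(.negSucc 0),(.negSucc 0),(.ofNat 1),(.ofNat 1),(.ofNat 0),(.negSucc 1),(.ofNat 1),(.ofNat 0)] .nil (.node [(.negSucc 0),(.negSucc 0),(.ofNat 1),(.ofNat 1),(.negSucc 0),(.ofNat 0),(.ofNat 0),(.negSucc 0)] .nil .nil))))))) (.node [(.ofNat 0),(.ofNat 0),(.ofNat 1),(.negSucc 0),(.ofNat 1),(.ofNat 0),(.negSucc 0),(.ofNat 1)] (.node [] (.node [] (.node [] (.node [] (.node [] (.node [] .nil (.node [(.ofNat 0),(.ofNat 0),(.ofNat 0),(.ofNat 1),(.negSucc 0),(.negSucc 0),(.ofNat 0),(.ofNat 1)] .nil .nil)) (.node [(.ofNat 1),(.ofNat 0),(.ofNat 1),(.negSucc 0),(.ofNat 0),(.ofNat 0),(.ofNat 1),(.negSucc 1)] .nil .nil)) (.node [(.ofNat 0),(.ofNat 2),(.ofNat 1),(.negSucc 1),(.ofNat 0),(.ofNat 1),(.negSucc 0),(.ofNat 1)] .nil (.node [(.negSucc 0),(.negSucc 0),(.ofNat 0),(.ofNat 1),(.ofNat 1),(.negSucc 0),(.negSucc 0),(.ofNat 0)] .nil .nil))) (.node [(.negSucc 1),(.negSucc 0),(.ofNat 2),(.ofNat 0),(.ofNat 0),(.ofNat 0),(.ofNat 0),(.ofNat 0)] (.node [] .nil (.node [(.ofNat 0),(.ofNat 2),(.negSucc 0),(.negSucc 0),(.ofNat 0),(.ofNat 1),(.ofNat 0),(.ofNat 0)] .nil .nil)) (.node [(.ofNat 1),(.ofNat 1),(.ofNat 0),(.negSucc 1),(.ofNat 2),(.ofNat 0),(.negSucc 0),(.ofNat 0)] .nil (.node [(.ofNat 1),(.ofNat 1),(.ofNat 0),(.negSucc 0),(.negSucc 0),(.ofNat 1),(.ofNat 1),(.negSucc 0)] .nil .nil)))) (.node [(.ofNat 0),(.ofNat 0),(.ofNat 0),(.ofNat 0),(.ofNat 0),(.ofNat 1),(.ofNat 0),(.negSucc 1)] (.node [] (.node [] .nil (.node [(.negSucc 0),(.ofNat 2),(.negSucc 0),(.ofNat 0),(.ofNat 0),(.ofNat 0),(.ofNat 0),(.ofNat 0)] .nil .nil)) (.node [(.negSucc 0),(.ofNat 1),(.ofNat 1),(.negSucc 1),(.ofNat 1),(.ofNat 1),(.negSucc 0),(.ofNat 1)] .nil (.node [(.negSucc 1),(.negSucc 0),(.ofNat 1),(.ofNat 0),(.ofNat 1),(.negSucc 0),(.ofNat 1),(.negSucc 0)] .nil .nil))) (.node [(.ofNat 0),(.ofNat 0),(.negSucc 0),(.ofNat 1),(.negSucc 0),(.ofNat 1),(.negSucc 0),(.ofNat 2)] (.node [] .nil (.node [(.negSucc 0),(.negSucc 0),(.ofNat 0),(.ofNat 2),(.negSucc 1),(.ofNat 1),(.negSucc 0),(.ofNat 1)] .nil .nil)) (.node [(.ofNat 1),(.ofNat 1),(.ofNat 0),(.ofNat 0),(.negSucc 0),(.ofNat 1),(.negSucc 1),(.ofNat 1)] .nil (.node [(.ofNat 2),(.negSucc 0),(.negSucc 1),(.ofNat 1),(.ofNat 0),(.ofNat 0),(.ofNat 0),(.ofNat 0)] .nil .nil))))) (.node [(.ofNat 1),(.negSucc 0),(.ofNat 0),(.ofNat 1),(.negSucc 0),(.ofNat 0),(.ofNat 1),(.negSucc 0)] (.node [] (.node [] (.node [] (.node [] .nil (.node [(.negSucc 0),(.negSucc 0),(.ofNat 0),(.ofNat 1),(.ofNat 0),(.ofNat 0),(.negSucc 0),(.ofNat 0)] .nil .nil)) (.node [(.negSucc 1),(.ofNat 0),(.ofNat 1),(.ofNat 0),(.ofNat 0),(.ofNat 0),(.negSucc 0),(.ofNat 2)] .nil .nil)) (.node [(.negSucc 0),(.ofNat 1),(.negSucc 0),(.ofNat 1),(.negSucc 0),(.ofNat 1),(.ofNat 0),(.negSucc 0)] .nil (.node [(.ofNat 0),(.ofNat 1),(.ofNat 0),(.ofNat 0),(.ofNat 0),(.negSucc 1),(.ofNat 1),(.ofNat 1)] .nil .nil))) (.node [(.negSucc 0),(.ofNat 2),(.ofNat 1),(.negSucc 0),(.ofNat 0),(.negSucc 0),(.ofNat 1),(.ofNat 0)] (.node [] .nil (.node [(.ofNat 1),(.ofNat 1),(.negSucc 0),(.ofNat 1),(.negSucc 1),(.ofNat 1),(.ofNat 0),(.negSucc 0)] .nil .nil)) (.node [(.ofNat 1),(.negSucc 0),(.ofNat 0),(.ofNat 1),(.negSucc 1),(.ofNat 1),(.ofNat 1),(.negSucc 0)] .nil (.node [(.ofNat 0),(.ofNat 1),(.ofNat 2),(.negSucc 1),(.ofNat 0),(.ofNat 0),(.ofNat 0),(.ofNat 0)] .nil .nil)))) (.node [(.ofNat 0),(.negSucc 0),(.ofNat 1),(.ofNat 0),(.ofNat 0),(.negSucc 0),(.ofNat 2),(.negSucc 0)] (.node [] (.node [] .nil (.node [(.ofNat 1),(.ofNat 0),(.negSucc 1),(.ofNat 2),(.negSucc 0),(.ofNat 0),(.negSucc 0),(.ofNat 1)] .nil .nil)) (.node [(.ofNat 0),(.ofNat 1),(.negSucc 0),(.ofNat 0),(.negSucc 0),(.ofNat 1),(.ofNat 1),(.ofNat 0)] .nil (.node [(.ofNat 1),(.ofNat 1),(.negSucc 1),(.ofNat 1),(.negSucc 0),(.ofNat 1),(.negSucc 0),(.ofNat 0)] .nil .nil))) (.node [(.ofNat 1),(.ofNat 1),(.negSucc 1),(.ofNat 1),(.negSucc 0),(.ofNat 0),(.ofNat 1),(.ofNat 0)] (.node [] .nil (.node [(.ofNat 1),(.ofNat 1),(.negSucc 1),(.ofNat 0),(.ofNat 0),(.ofNat 0),(.ofNat 1),(.ofNat 0)] .nil .nil)) (.node [(.ofNat 1),(.ofNat 1),(.ofNat 0),(.ofNat 0),(.negSucc 0),(.ofNat 1),(.negSucc 0),(.negSucc 0)] .nil (.node [(.ofNat 0),(.ofNat 2),(.ofNat 0),(.negSucc 0),(.ofNat 0),(.negSucc 0),(.ofNat 1),(.ofNat 0)] .nil .nil)))))) (.node [(.ofNat 0),(.ofNat 1),(.negSucc 0),(.ofNat 0),(.ofNat 0),(.ofNat 0),(.ofNat 1),(.ofNat 0)] (.node [] (.node [] (.node [] (.node [] (.node [] .nil (.node [(.negSucc 0),(.ofNat 1),(.ofNat 0),(.ofNat 0),(.negSucc 0),(.ofNat 1),(.negSucc 0),(.ofNat 1)] .nil .nil)) (.node [(.ofNat 0),(.ofNat 2),(.ofNat 0),(.negSucc 0),(.ofNat 0),(.ofNat 1),(.negSucc 1),(.ofNat 1)] .nil .nil)) (.node [(.ofNat 1),(.negSucc 0),(.negSucc 1),(.ofNat 1),(.ofNat 1),(.ofNat 0),(.ofNat 0),(.negSucc 0)] .nil (.node [(.ofNat 2),(.negSucc 0),(.negSucc 0),(.ofNat 0),(.ofNat 1),(.negSucc 0),(.ofNat 0),(.ofNat 1)] .nil .nil))) (.node [(.negSucc 0),(.negSucc 0),(.ofNat 0),(.ofNat 1),(.ofNat 1),(.negSucc 1),(.ofNat 1),(.ofNat 0)] (.node [] .nil (.node [(.negSucc 0),(.ofNat 1),(.ofNat 0),(.ofNat 0),(.negSucc 0),(.ofNat 1),(.ofNat 1),(.negSucc 1)] .nil .nil)) (.node [(.negSucc 0),(.negSucc 1),(.ofNat 0),(.ofNat 2),(.negSucc 0),(.ofNat 0),(.ofNat 1),(.negSucc 0)] .nil (.node [(.ofNat 1),(.ofNat 1),(.ofNat 0),(.negSucc 0),(.negSucc 0),(.ofNat 2),(.negSucc 0),(.ofNat 0)] .nil .nil)))) (.node [(.negSucc 0),(.ofNat 0),(.negSucc 0),(.ofNat 1),(.ofNat 0),(.ofNat 1),(.negSucc 0),(.ofNat 0)] (.node [] (.node [] .nil (.node [(.ofNat 0),(.negSucc 0),(.ofNat 1),(.ofNat 0),(.negSucc 0),(.ofNat 0),(.ofNat 2),(.negSucc 0)] .nil .nil)) (.node [(.ofNat 0),(.negSucc 1),(.ofNat 1),(.ofNat 1),(.negSucc 0),(.ofNat 0),(.ofNat 0),(.ofNat 1)] .nil (.node [(.ofNat 0),(.ofNat 1),(.ofNat 0),(.ofNat 0),(.ofNat 0),(.ofNat 0),(.negSucc 1),(.ofNat 1)] .nil .nil))) (.node [(.ofNat 0),(.ofNat 0),(.negSucc 0),(.ofNat 2),(.negSucc 1),(.ofNat 0),(.ofNat 1),(.ofNat 0)] (.node [] .nil (.node [(.negSucc 1),(.negSucc 0),(.ofNat 2),(.ofNat 0),(.ofNat 0),(.ofNat 0),(.ofNat 0),(.negSucc 0)] .nil .nil)) (.node [(.ofNat 0),(.negSucc 1),(.ofNat 0),(.ofNat 0),(.ofNat 1),(.ofNat 0),(.ofNat 1),(.negSucc 0)] .nil (.node [(.ofNat 1),(.negSucc 0),(.ofNat 0),(.ofNat 0),(.ofNat 1),(.negSucc 0),(.ofNat 0),(.negSucc 0)] .nil .nil))))) (.node [(.ofNat 0),(.negSucc 0),(.negSucc 0),(.ofNat 2),(.negSucc 0),(.ofNat 0),(.ofNat 1),(.negSucc 0)] (.node [] (.node [] (.node [] .nil (.node [(.ofNat 0),(.negSucc 0),(.ofNat 1),(.negSucc 0),(.ofNat 1),(.negSucc 0),(.ofNat 2),(.negSucc 0)] .nil .nil)) (.node [(.ofNat 1),(.ofNat 0),(.negSucc 0),(.ofNat 1),(.negSucc 0),(.negSucc 0),(.ofNat 2),(.ofNat 0)] .nil (.node [(.ofNat 1),(.ofNat 1),(.ofNat 1),(.negSucc 0),(.negSucc 0),(.ofNat 1),(.negSucc 0),(.ofNat 0)] .nil .nil))) (.node [(.negSucc 0),(.negSucc 0),(.ofNat 0),(.ofNat 2),(.negSucc 0),(.ofNat 0),(.negSucc 0),(.ofNat 1)] (.node [] .nil (.node [(.negSucc 0),(.negSucc 0),(.ofNat 0),(.ofNat 1),(.ofNat 0),(.negSucc 0),(.ofNat 0),(.ofNat 2)] .nil .nil)) (.node [(.negSucc 0),(.ofNat 1),(.ofNat 1),(.ofNat 0),(.negSucc 0),(.negSucc 0),(.ofNat 2),(.negSucc 0)] .nil (.node [(.ofNat 1),(.negSucc 1),(.negSucc 0),(.ofNat 2),(.negSucc 0),(.ofNat 0),(.ofNat 0),(.ofNat 0)] .nil .nil)))) (.node [(.ofNat 1),(.negSucc 0),(.negSucc 0),(.ofNat 1),(.ofNat 0),(.negSucc 0),(.ofNat 2),(.negSucc 0)] (.node [] (.node [] .nil (.node [(.ofNat 0),(.negSucc 0),(.ofNat 1),(.ofNat 0),(.negSucc 0),(.ofNat 2),(.negSucc 1),(.ofNat 1)] .nil .nil)) (.node [(.ofNat 1),(.ofNat 0),(.negSucc 0),(.ofNat 0),(.ofNat 0),(.ofNat 0),(.ofNat 2),(.negSucc 1)] .nil (.node [(.ofNat 0),(.ofNat 0),(.ofNat 1),(.ofNat 0),(.negSucc 0),(.ofNat 0),(.negSucc 0),(.ofNat 2)] .nil .nil))) (.node [(.negSucc 0),(.ofNat 1),(.negSucc 0),(.ofNat 0),(.ofNat 1),(.ofNat 0),(.negSucc 0),(.ofNat 1)] (.node [] .nil (.node [(.ofNat 0),(.negSucc 1),(.negSucc 0),(.ofNat 1),(.ofNat 1),(.ofNat 0),(.ofNat 0),(.negSucc 0)] .nil .nil)) (.node [(.ofNat 0),(.negSucc 1),(.ofNat 0),(.ofNat 1),(.negSucc 0),(.ofNat 1),(.ofNat 1),(.negSucc 0)] .nil (.node [(.ofNat 0),(.ofNat 0),(.ofNat 0),(.negSucc 0),(.ofNat 1),(.ofNat 1),(.negSucc 0),(.negSucc 0)] .nil .nil)))))))) (.node [(.ofNat 0),(.ofNat 1),(.ofNat 0),(.ofNat 0),(.ofNat 0),(.ofNat 0),(.negSucc 0),(.ofNat 1)] (.node [] (.node [] (.node [] (.node [] (.node [] (.node [] (.node [] .nil (.node [(.ofNat 0),(.ofNat 1),(.ofNat 1),(.negSucc 1),(.ofNat 1),(.ofNat 0),(.ofNat 0),(.negSucc 0)] .nil .nil)) (.node [(.ofNat 2),(.ofNat 0),(.negSucc 0),(.ofNat 0),(.negSucc 0),(.ofNat 2),(.negSucc 0),(.ofNat 0)] .nil .nil)) (.node [(.ofNat 0),(.ofNat 0),(.ofNat 1),(.negSucc 1),(.ofNat 2),(.ofNat 0),(.negSucc 0),(.ofNat 1)] .nil (.node [(.ofNat 1),(.ofNat 1),(.ofNat 1),(.negSucc 0),(.negSucc 0),(.ofNat 0),(.ofNat 0),(.ofNat 1)] .nil .nil))) (.node [(.ofNat 0),(.negSucc 0),(.ofNat 1),(.ofNat 0),(.ofNat 1),(.negSucc 0),(.negSucc 0),(.ofNat 1)] (.node [] .nil (.node [(.negSucc 0),(.ofNat 0),(.ofNat 1),(.negSucc 1),(.ofNat 2),(.ofNat 0),(.ofNat 0),(.ofNat 0)] .nil .nil)) (.node [(.negSucc 0),(.ofNat 0),(.ofNat 0),(.ofNat 1),(.ofNat 0),(.negSucc 0),(.negSucc 0),(.ofNat 2)] .nil (.node [(.ofNat 1),(.ofNat 0),(.negSucc 0),(.ofNat 1),(.negSucc 1),(.ofNat 2),(.negSucc 0),(.ofNat 0)] .nil .nil)))) (.node [(.negSucc 1),(.ofNat 0),(.ofNat 1),(.ofNat 0),(.ofNat 0),(.ofNat 0),(.ofNat 1),(.negSucc 0)] (.node [] (.node [] .nil (.node [(.ofNat 1),(.ofNat 0),(.ofNat 1),(.negSucc 0),(.ofNat 1),(.negSucc 0),(.ofNat 0),(.negSucc 0)] .nil .nil)) (.node [(.negSucc 1),(.ofNat 0),(.ofNat 2),(.negSucc 0),(.ofNat 0),(.ofNat 1),(.ofNat 0),(.negSucc 0)] .nil (.node [(.ofNat 1),(.negSucc 0),(.negSucc 1),(.ofNat 1),(.ofNat 1),(.negSucc 0),(.ofNat 1),(.negSucc 0)] .nil .nil))) (.node [(.negSucc 0),(.ofNat 0),(.ofNat 1),(.ofNat 0),(.negSucc 0),(.ofNat 2),(.negSucc 1),(.ofNat 1)] (.node [] .nil (.node [(.ofNat 0),(.negSucc 1),(.negSucc 0),(.ofNat 1),(.ofNat 1),(.negSucc 0),(.ofNat 1),(.ofNat 0)] .nil .nil)) (.node [(.ofNat 0),(.ofNat 1),(.negSucc 0),(.ofNat 0),(.ofNat 0),(.ofNat 1),(.ofNat 0),(.negSucc 1)] .nil (.node [(.negSucc 0),(.ofNat 1),(.ofNat 1),(.negSucc 0),(.ofNat 0),(.ofNat 0),(.ofNat 1),(.negSucc 1)] .nil .nil))))) (.node [(.ofNat 0),(.negSucc 0),(.negSucc 0),(.ofNat 1),(.ofNat 0),(.ofNat 1),(.negSucc 0),(.ofNat 1)] (.node [] (.node [] (.node [] (.node [] .nil (.node [(.ofNat 1),(.negSucc 0),(.negSucc 0),(.ofNat 1),(.ofNat 0),(.ofNat 0),(.negSucc 0),(.ofNat 0)] .nil .nil)) (.node [(.ofNat 1),(.ofNat 0),(.ofNat 1),(.negSucc 0),(.ofNat 1),(.negSucc 0),(.negSucc 0),(.ofNat 1)] .nil .nil)) (.node [(.ofNat 0),(.negSucc 0),(.ofNat 0),(.ofNat 0),(.ofNat 0),(.ofNat 2),(.negSucc 0),(.negSucc 0)] .nil (.node [(.ofNat 1),(.ofNat 0),(.ofNat 0),(.ofNat 1),(.negSucc 1),(.ofNat 1),(.negSucc 0),(.ofNat 0)] .nil .nil))) (.node [(.ofNat 1),(.negSucc 0),(.negSucc 0),(.ofNat 2),(.negSucc 0),(.ofNat 0),(.negSucc 0),(.ofNat 1)] (.node [] .nil (.node [(.ofNat 1),(.ofNat 2),(.ofNat 0),(.negSucc 0),(.negSucc 0),(.ofNat 1),(.negSucc 0),(.ofNat 1)] .nil .nil)) (.node [(.ofNat 0),(.ofNat 0),(.ofNat 0),(.negSucc 0),(.ofNat 0),(.ofNat 1),(.ofNat 1),(.ofNat 0)] .nil (.node [(.negSucc 0),(.negSucc 0),(.ofNat 1),(.ofNat 0),(.negSucc 0),(.ofNat 1),(.ofNat 0),(.ofNat 1)] .nil .nil)))) (.node [(.ofNat 0),(.negSucc 0),(.ofNat 1),(.ofNat 0),(.negSucc 0),(.ofNat 2),(.negSucc 0),(.ofNat 0)] (.node [] (.node [] .nil (.node [(.ofNat 2),(.ofNat 0),(.negSucc 0),(.ofNat 0),(.ofNat 1),(.negSucc 0),(.ofNat 0),(.negSucc 0)] .nil .nil)) (.node [(.ofNat 0),(.ofNat 0),(.negSucc 1),(.ofNat 1),(.ofNat 1),(.negSucc 0),(.ofNat 0),(.ofNat 1)] .nil (.node [(.ofNat 1),(.ofNat 0),(.negSucc 0),(.ofNat 0),(.ofNat 1),(.negSucc 1),(.ofNat 1),(.ofNat 1)] .nil .nil))) (.node [(.negSucc 0),(.ofNat 1),(.ofNat 2),(.negSucc 1),(.ofNat 1),(.ofNat 0),(.ofNat 0),(.negSucc 0)] (.node [] .nil (.node [(.negSucc 0),(.negSucc 0),(.ofNat 0),(.ofNat 2),(.negSucc 1),(.ofNat 1),(.ofNat 0),(.negSucc 0)] .nil .nil)) (.node [(.ofNat 1),(.ofNat 0),(.ofNat 1),(.negSucc 0),(.negSucc 0),(.ofNat 2),(.negSucc 0),(.ofNat 0)] .nil (.node [(.negSucc 0),(.ofNat 1),(.ofNat 1),(.ofNat 0),(.negSucc 0),(.ofNat 0),(.ofNat 0),(.negSucc 0)] .nil .nil)))))) (.node [(.ofNat 0),(.ofNat 0),(.ofNat 1),(.ofNat 0),(.ofNat 0),(.ofNat 0),(.negSucc 0),(.ofNat 0)] (.node [] (.node [] (.node [] (.node [] (.node [] .nil (.node [(.ofNat 0),(.ofNat 1),(.ofNat 1),(.negSucc 0),(.ofNat 0),(.negSucc 0),(.ofNat 1),(.negSucc 0)] .nil .nil)) (.node [(.ofNat 1),(.ofNat 0),(.negSucc 1),(.ofNat 1),(.ofNat 0),(.negSucc 0),(.ofNat 2),(.negSucc 0)] .nil .nil)) (.node [(.negSucc 0),(.ofNat 2),(.ofNat 0),(.negSucc 0),(.ofNat 0),(.ofNat 0),(.ofNat 1),(.ofNat 0)] .nil (.node [(.ofNat 1),(.negSucc 0),(.ofNat 1),(.negSucc 0),(.ofNat 1),(.negSucc 0),(.ofNat 1),(.negSucc 0)] .nil .nil))) (.node [(.negSucc 0),(.ofNat 1),(.ofNat 0),(.ofNat 1),(.negSucc 0),(.negSucc 0),(.ofNat 1),(.ofNat 0)] (.node [] .nil (.node [(.ofNat 1),(.ofNat 1),(.negSucc 0),(.ofNat 0),(.ofNat 1),(.negSucc 1),(.ofNat 0),(.ofNat 1)] .nil .nil)) (.node [(.ofNat 0),(.ofNat 0),(.ofNat 1),(.negSucc 0),(.ofNat 2),(.negSucc 1),(.ofNat 0),(.ofNat 0)] .nil (.node [(.ofNat 1),(.negSucc 1),(.negSucc 0),(.ofNat 1),(.ofNat 0),(.ofNat 1),(.negSucc 0),(.ofNat 0)] .nil .nil)))) (.node [(.ofNat 0),(.ofNat 2),(.ofNat 0),(.ofNat 0),(.negSucc 0),(.ofNat 0),(.ofNat 0),(.ofNat 0)] (.node [] (.node [] .nil (.node [(.ofNat 1),(.ofNat 1),(.negSucc 0),(.negSucc 0),(.ofNat 1),(.ofNat 1),(.negSucc 1),(.ofNat 1)] .nil .nil)) (.node [(.ofNat 1),(.ofNat 0),(.negSucc 0),(.ofNat 1),(.negSucc 0),(.ofNat 1),(.negSucc 1),(.ofNat 2)] .nil (.node [(.ofNat 1),(.ofNat 2),(.negSucc 0),(.negSucc 0),(.ofNat 0),(.ofNat 0),(.ofNat 0),(.ofNat 1)] .nil .nil))) (.node [(.ofNat 0),(.negSucc 1),(.negSucc 0),(.ofNat 2),(.ofNat 0),(.negSucc 0),(.ofNat 1),(.ofNat 0)] (.node [] .nil (.node [(.negSucc 0),(.negSucc 0),(.ofNat 0),(.ofNat 1),(.ofNat 0),(.negSucc 0),(.ofNat 2),(.negSucc 1)] .nil .nil)) (.node [(.ofNat 0),(.ofNat 2),(.ofNat 0),(.negSucc 1),(.ofNat 1),(.ofNat 1),(.negSucc 0),(.ofNat 0)] .nil (.node [(.negSucc 0),(.negSucc 0),(.ofNat 1),(.ofNat 0),(.ofNat 0),(.ofNat 0),(.ofNat 1),(.negSucc 1)] .nil .nil))))) (.node [(.ofNat 0),(.ofNat 0),(.ofNat 0),(.ofNat 0),(.ofNat 0),(.negSucc 0),(.ofNat 2),(.ofNat 0)] (.node [] (.node [] (.node [] (.node [] .nil (.node [(.ofNat 0),(.ofNat 1),(.ofNat 0),(.negSucc 0),(.ofNat 1),(.negSucc 0),(.ofNat 0),(.ofNat 0)] .nil .nil)) (.node [(.ofNat 1),(.ofNat 0),(.negSucc 1),(.ofNat 1),(.ofNat 0),(.ofNat 1),(.negSucc 1),(.ofNat 1)] .nil .nil)) (.node [(.ofNat 1),(.negSucc 0),(.ofNat 1),(.ofNat 0),(.ofNat 0),(.ofNat 0),(.negSucc 0),(.ofNat 0)] .nil (.node [(.ofNat 1),(.ofNat 0),(.negSucc 0),(.ofNat 0),(.negSucc 0),(.ofNat 1),(.ofNat 1),(.ofNat 0)] .nil .nil))) (.node [(.ofNat 0),(.ofNat 0),(.negSucc 0),(.ofNat 1),(.negSucc 0),(.ofNat 0),(.ofNat 1),(.ofNat 1)] (.node [] .nil (.node [(.negSucc 0),(.ofNat 0),(.ofNat 1),(.negSucc 0),(.ofNat 0),(.ofNat 0),(.ofNat 2),(.negSucc 0)] .nil .nil)) (.node [(.negSucc 0),(.negSucc 0),(.ofNat 1),(.negSucc 0),(.ofNat 2),(.ofNat 0),(.negSucc 0),(.ofNat 0)] .nil (.node [(.ofNat 1),(.ofNat 1),(.ofNat 0),(.negSucc 0),(.ofNat 0),(.ofNat 0),(.ofNat 1),(.negSucc 1)] .nil .nil)))) (.node [(.negSucc 0),(.negSucc 0),(.ofNat 0),(.ofNat 0),(.ofNat 1),(.ofNat 1),(.negSucc 0),(.ofNat 0)] (.node [] (.node [] .nil (.node [(.ofNat 1),(.ofNat 1),(.negSucc 0),(.ofNat 0),(.negSucc 0),(.ofNat 2),(.negSucc 1),(.ofNat 1)] .nil .nil)) (.node [(.ofNat 0),(.negSucc 1),(.ofNat 1),(.ofNat 1),(.negSucc 0),(.ofNat 0),(.ofNat 1),(.negSucc 0)] .nil (.node [(.ofNat 0),(.ofNat 0),(.ofNat 1),(.negSucc 0),(.ofNat 1),(.ofNat 0),(.negSucc 1),(.ofNat 1)] .nil .nil))) (.node [(.ofNat 0),(.ofNat 0),(.negSucc 0),(.ofNat 1),(.ofNat 0),(.negSucc 0),(.ofNat 2),(.negSucc 1)] (.node [] .nil (.node [(.ofNat 0),(.ofNat 1),(.ofNat 0),(.negSucc 1),(.ofNat 2),(.ofNat 0),(.negSucc 0),(.ofNat 1)] .nil .nil)) (.node [(.ofNat 1),(.ofNat 0),(.negSucc 1),(.ofNat 1),(.negSucc 0),(.ofNat 1),(.ofNat 1),(.negSucc 0)] .nil (.node [(.ofNat 0),(.negSucc 1),(.ofNat 0),(.ofNat 1),(.ofNat 0),(.negSucc 0),(.ofNat 1),(.ofNat 0)] .nil .nil))))))) (.node [(.negSucc 0),(.ofNat 0),(.ofNat 0),(.ofNat 0),(.ofNat 1),(.negSucc 0),(.ofNat 1),(.ofNat 0)] (.node [] (.node [] (.node [] (.node [] (.node [] (.node [] .nil (.node [(.ofNat 0),(.negSucc 0),(.ofNat 1),(.negSucc 0),(.ofNat 1),(.ofNat 0),(.ofNat 0),(.negSucc 0)] .nil .nil)) (.node [(.ofNat 1),(.negSucc 1),(.ofNat 1),(.ofNat 0),(.ofNat 0),(.ofNat 0),(.ofNat 0),(.ofNat 0)] .nil .nil)) (.node [(.ofNat 0),(.ofNat 0),(.negSucc 0),(.ofNat 1),(.ofNat 0),(.ofNat 1),(.negSucc 1),(.ofNat 0)] .nil (.node [(.negSucc 0),(.ofNat 0),(.ofNat 1),(.ofNat 0),(.negSucc 0),(.ofNat 0),(.ofNat 2),(.negSucc 1)] .nil .nil))) (.node [(.ofNat 1),(.negSucc 0),(.negSucc 0),(.ofNat 1),(.ofNat 0),(.ofNat 0),(.ofNat 1),(.negSucc 1)] (.node [] .nil (.node [(.negSucc 0),(.negSucc 0),(.ofNat 0),(.ofNat 0),(.ofNat 2),(.negSucc 1),(.ofNat 1),(.ofNat 0)] .nil .nil)) (.node [(.ofNat 1),(.negSucc 0),(.ofNat 0),(.ofNat 1),(.negSucc 1),(.ofNat 1),(.ofNat 0),(.ofNat 1)] .nil (.node [(.negSucc 1),(.ofNat 0),(.ofNat 2),(.negSucc 0),(.ofNat 0),(.ofNat 1),(.negSucc 0),(.ofNat 0)] .nil .nil)))) (.node [(.ofNat 1),(.ofNat 0),(.ofNat 1),(.ofNat 0),(.negSucc 0),(.ofNat 0),(.ofNat 0),(.ofNat 0)] (.node [] (.node [] .nil (.node [(.ofNat 1),(.ofNat 0),(.negSucc 1),(.ofNat 1),(.ofNat 1),(.negSucc 0),(.negSucc 0),(.ofNat 1)] .nil .nil)) (.node [(.negSucc 0),(.ofNat 0),(.ofNat 0),(.ofNat 0),(.ofNat 1),(.ofNat 0),(.negSucc 1),(.ofNat 2)] .nil (.node [(.ofNat 0),(.negSucc 0),(.ofNat 0),(.ofNat 1),(.ofNat 0),(.negSucc 0),(.negSucc 0),(.ofNat 2)] .nil .nil))) (.node [(.negSucc 0),(.ofNat 1),(.negSucc 0),(.ofNat 0),(.ofNat 0),(.ofNat 1),(.ofNat 0),(.ofNat 0)] (.node [] .nil (.node [(.ofNat 0),(.ofNat 0),(.ofNat 2),(.negSucc 0),(.ofNat 0),(.negSucc 0),(.ofNat 0),(.ofNat 1)] .nil .nil)) (.node [(.ofNat 1),(.negSucc 0),(.ofNat 0),(.ofNat 0),(.ofNat 1),(.negSucc 0),(.ofNat 1),(.negSucc 1)] .nil (.node [(.ofNat 0),(.ofNat 1),(.negSucc 0),(.ofNat 0),(.ofNat 1),(.negSucc 1),(.ofNat 1),(.ofNat 0)] .nil .nil))))) (.node [(.negSucc 0),(.ofNat 1),(.ofNat 1),(.ofNat 0),(.negSucc 0),(.ofNat 1),(.negSucc 0),(.ofNat 0)] (.node [] (.node [] (.node [] (.node [] .nil (.node [(.ofNat 1),(.ofNat 0),(.ofNat 0),(.ofNat 0),(.negSucc 0),(.ofNat 1),(.negSucc 0),(.ofNat 0)] .nil .nil)) (.node [(.ofNat 1),(.ofNat 0),(.negSucc 1),(.ofNat 2),(.negSucc 1),(.ofNat 1),(.ofNat 0),(.ofNat 0)] .nil .nil)) (.node [(.negSucc 0),(.ofNat 2),(.ofNat 0),(.negSucc 0),(.ofNat 0),(.ofNat 1),(.negSucc 0),(.ofNat 1)] .nil (.node [(.ofNat 1),(.negSucc 0),(.negSucc 1),(.ofNat 1),(.ofNat 0),(.ofNat 1),(.ofNat 0),(.negSucc 0)] .nil .nil))) (.node [(.negSucc 0),(.ofNat 0),(.ofNat 1),(.negSucc 0),(.ofNat 2),(.negSucc 1),(.ofNat 1),(.ofNat 0)] (.node [] .nil (.node [(.ofNat 0),(.ofNat 1),(.ofNat 1),(.ofNat 0),(.negSucc 0),(.negSucc 0),(.ofNat 1),(.negSucc 0)] .nil .nil)) (.node [(.ofNat 1),(.ofNat 1),(.ofNat 0),(.ofNat 0),(.negSucc 0),(.ofNat 0),(.negSucc 0),(.ofNat 2)] .nil (.node [(.ofNat 1),(.ofNat 1),(.ofNat 0),(.ofNat 0),(.negSucc 1),(.ofNat 1),(.ofNat 0),(.ofNat 0)] .nil .nil)))) (.node [(.ofNat 1),(.negSucc 0),(.negSucc 0),(.ofNat 1),(.ofNat 0),(.negSucc 0),(.ofNat 1),(.ofNat 1)] (.node [] (.node [] .nil (.node [(.negSucc 0),(.ofNat 1),(.ofNat 0),(.negSucc 0),(.ofNat 2),(.negSucc 1),(.ofNat 1),(.ofNat 0)] .nil .nil)) (.node [(.ofNat 1),(.negSucc 0),(.ofNat 0),(.negSucc 0),(.ofNat 1),(.ofNat 1),(.ofNat 0),(.negSucc 0)] .nil (.node [(.ofNat 0),(.ofNat 0),(.negSucc 0),(.ofNat 2),(.negSucc 0),(.negSucc 0),(.ofNat 0),(.ofNat 0)] .nil .nil))) (.node [(.ofNat 0),(.ofNat 0),(.ofNat 1),(.negSucc 0),(.negSucc 0),(.ofNat 2),(.ofNat 0),(.ofNat 0)] (.node [] .nil (.node [(.negSucc 0),(.ofNat 1),(.ofNat 0),(.ofNat 0),(.ofNat 1),(.negSucc 0),(.negSucc 0),(.ofNat 0)] .nil .nil)) (.node [(.negSucc 1),(.negSucc 0),(.ofNat 0),(.ofNat 1),(.ofNat 0),(.ofNat 1),(.negSucc 0),(.ofNat 0)] .nil (.node [(.negSucc 1),(.ofNat 0),(.ofNat 1),(.ofNat 0),(.negSucc 0),(.ofNat 1),(.ofNat 0),(.ofNat 0)] .nil .nil)))))) (.node [(.ofNat 1),(.ofNat 1),(.ofNat 0),(.ofNat 0),(.negSucc 0),(.ofNat 0),(.ofNat 0),(.ofNat 1)] (.node [] (.node [] (.node [] (.node [] (.node [] .nil (.node [(.negSucc 0),(.ofNat 1),(.ofNat 0),(.ofNat 0),(.negSucc 0),(.ofNat 1),(.ofNat 0),(.negSucc 0)] .nil .nil)) (.node [(.ofNat 1),(.ofNat 1),(.negSucc 0),(.negSucc 0),(.ofNat 1),(.negSucc 0),(.ofNat 1),(.ofNat 1)] .nil .nil)) (.node [(.ofNat 1),(.negSucc 1),(.negSucc 0),(.ofNat 1),(.ofNat 0),(.ofNat 0),(.ofNat 1),(.ofNat 0)] .nil (.node [(.negSucc 0),(.ofNat 1),(.ofNat 2),(.negSucc 1),(.ofNat 1),(.negSucc 0),(.ofNat 1),(.negSucc 0)] .nil .nil))) (.node [(.ofNat 1),(.ofNat 0),(.ofNat 0),(.negSucc 0),(.ofNat 1),(.ofNat 1),(.negSucc 1),(.ofNat 1)] (.node [] .nil (.node [(.negSucc 0),(.ofNat 0),(.ofNat 1),(.negSucc 0),(.ofNat 0),(.ofNat 0),(.ofNat 1),(.ofNat 1)] .nil .nil)) (.node [(.ofNat 0),(.ofNat 1),(.negSucc 0),(.ofNat 0),(.negSucc 0),(.ofNat 2),(.ofNat 0),(.negSucc 0)] .nil (.node [(.ofNat 1),(.ofNat 1),(.ofNat 0),(.negSucc 0),(.ofNat 0),(.negSucc 0),(.ofNat 2),(.negSucc 0)] .nil .nil)))) (.node [(.negSucc 0),(.ofNat 1),(.ofNat 0),(.negSucc 0),(.ofNat 1),(.ofNat 0),(.ofNat 1),(.negSucc 0)] (.node [] (.node [] .nil (.node [(.ofNat 1),(.negSucc 0),(.negSucc 0),(.ofNat 0),(.ofNat 1),(.ofNat 0),(.negSucc 0),(.ofNat 2)] .nil .nil)) (.node [(.ofNat 1),(.ofNat 0),(.negSucc 0),(.ofNat 0),(.ofNat 0),(.ofNat 0),(.ofNat 0),(.ofNat 2)] .nil (.node [(.negSucc 0),(.negSucc 0),(.negSucc 0),(.ofNat 1),(.ofNat 1),(.negSucc 0),(.ofNat 1),(.negSucc 0)] .nil .nil))) (.node [(.negSucc 0),(.ofNat 0),(.ofNat 1),(.ofNat 0),(.ofNat 0),(.negSucc 0),(.ofNat 2),(.negSucc 1)] (.node [] .nil (.node [(.ofNat 0),(.ofNat 2),(.negSucc 0),(.negSucc 0),(.ofNat 1),(.ofNat 0),(.ofNat 0),(.negSucc 0)] .nil .nil)) (.node [(.negSucc 0),(.ofNat 0),(.negSucc 0),(.ofNat 0),(.ofNat 1),(.ofNat 0),(.ofNat 0),(.ofNat 1)] .nil (.node [(.ofNat 1),(.ofNat 0),(.ofNat 1),(.negSucc 0),(.ofNat 0),(.negSucc 0),(.ofNat 1),(.ofNat 0)] .nil .nil))))) (.node [(.ofNat 0),(.ofNat 0),(.ofNat 0),(.ofNat 1),(.negSucc 1),(.ofNat 1),(.ofNat 0),(.ofNat 1)] (.node [] (.node [] (.node [] .nil (.node [(.negSucc 0),(.ofNat 1),(.ofNat 0),(.negSucc 0),(.ofNat 1),(.negSucc 0),(.ofNat 1),(.ofNat 1)] .nil .nil)) (.node [(.ofNat 0),(.negSucc 1),(.ofNat 1),(.ofNat 0),(.ofNat 0),(.ofNat 1),(.ofNat 0),(.negSucc 0)] .nil (.node [(.negSucc 0),(.ofNat 0),(.ofNat 1),(.ofNat 1),(.negSucc 1),(.ofNat 1),(.negSucc 0),(.ofNat 0)] .nil .nil))) (.node [(.ofNat 1),(.ofNat 2),(.ofNat 0),(.negSucc 0),(.ofNat 0),(.ofNat 0),(.ofNat 0),(.negSucc 0)] (.node [] .nil (.node [(.negSucc 1),(.negSucc 0),(.ofNat 2),(.ofNat 0),(.ofNat 0),(.ofNat 0),(.negSucc 0),(.ofNat 1)] .nil .nil)) (.node [(.negSucc 0),(.ofNat 0),(.ofNat 2),(.negSucc 0),(.negSucc 0),(.ofNat 1),(.ofNat 0),(.ofNat 1)] .nil (.node [(.ofNat 1),(.negSucc 0),(.ofNat 0),(.ofNat 0),(.ofNat 1),(.negSucc 1),(.ofNat 1),(.ofNat 0)] .nil .nil)))) (.node [(.negSucc 0),(.negSucc 0),(.ofNat 0),(.ofNat 1),(.ofNat 0),(.negSucc 0),(.ofNat 1),(.ofNat 1)] (.node [] (.node [] .nil (.node [(.ofNat 1),(.negSucc 0),(.negSucc 0),(.ofNat 1),(.negSucc 0),(.ofNat 1),(.negSucc 0),(.ofNat 2)] .nil .nil)) (.node [(.negSucc 1),(.ofNat 0),(.ofNat 2),(.ofNat 0),(.negSucc 0),(.ofNat 0),(.ofNat 1),(.negSucc 0)] .nil (.node [(.negSucc 0),(.ofNat 0),(.ofNat 0),(.ofNat 0),(.ofNat 1),(.negSucc 1),(.ofNat 1),(.ofNat 1)] .nil .nil))) (.node [(.negSucc 0),(.ofNat 0),(.ofNat 0),(.negSucc 0),(.ofNat 1),(.ofNat 1),(.ofNat 0),(.ofNat 0)] (.node [] .nil (.node [(.ofNat 0),(.negSucc 0),(.ofNat 0),(.negSucc 0),(.ofNat 2),(.ofNat 0),(.negSucc 0),(.ofNat 1)] .nil .nil)) (.node [(.ofNat 1),(.ofNat 1),(.negSucc 0),(.negSucc 0),(.ofNat 0),(.ofNat 1),(.ofNat 0),(.ofNat 1)] .nil (.node [(.ofNat 2),(.ofNat 0),(.negSucc 0),(.ofNat 0),(.ofNat 0),(.ofNat 0),(.ofNat 0),(.negSucc 0)] .nil .nil))))))))) (.node [(.ofNat 0),(.ofNat 1),(.ofNat 0),(.ofNat 0),(.negSucc 0),(.ofNat 1),(.ofNat 0),(.ofNat 0)] (.node [] (.node [] (.node [] (.node [] (.node [] (.node [] (.node [] (.node [] .nil (.node [(.ofNat 0),(.ofNat 0),(.ofNat 0),(.ofNat 0),(.negSucc 0),(.ofNat 2),(.negSucc 0),(.negSucc 0)] .nil .nil)) (.node [(.ofNat 0),(.ofNat 0),(.ofNat 0),(.ofNat 0),(.negSucc 0),(.ofNat 2),(.negSucc 1),(.ofNat 2)] .nil .nil)) (.node [(.ofNat 1),(.negSucc 0),(.negSucc 1),(.ofNat 2),(.negSucc 0),(.ofNat 0),(.ofNat 1),(.ofNat 0)] .nil (.node [(.ofNat 1),(.ofNat 1),(.ofNat 1),(.negSucc 1),(.ofNat 1),(.negSucc 0),(.ofNat 1),(.negSucc 0)] .nil .nil))) (.node [(.negSucc 0),(.ofNat 1),(.ofNat 0),(.ofNat 1),(.negSucc 1),(.ofNat 1),(.ofNat 0),(.ofNat 0)] (.node [] .nil (.node [(.ofNat 0),(.ofNat 1),(.negSucc 1),(.ofNat 1),(.negSucc 0),(.ofNat 1),(.ofNat 0),(.ofNat 0)] .nil .nil)) (.node [(.negSucc 0),(.negSucc 0),(.ofNat 1),(.ofNat 0),(.negSucc 0),(.ofNat 2),(.negSucc 0),(.ofNat 1)] .nil (.node [(.ofNat 0),(.negSucc 1),(.ofNat 1),(.ofNat 0),(.ofNat 0),(.ofNat 1),(.negSucc 0),(.ofNat 0)] .nil .nil)))) (.node [(.ofNat 0),(.negSucc 1),(.ofNat 0),(.ofNat 1),(.ofNat 0),(.ofNat 0),(.ofNat 1),(.negSucc 0)] (.node [] (.node [] .nil (.node [(.ofNat 1),(.ofNat 0),(.ofNat 1),(.ofNat 0),(.negSucc 0),(.ofNat 0),(.negSucc 0),(.ofNat 1)] .nil .nil)) (.node [(.negSucc 0),(.ofNat 1),(.negSucc 0),(.ofNat 1),(.ofNat 0),(.negSucc 0),(.ofNat 1),(.negSucc 0)] .nil (.node [(.ofNat 0),(.negSucc 1),(.negSucc 0),(.ofNat 2),(.ofNat 0),(.ofNat 0),(.negSucc 0),(.ofNat 0)] .nil .nil))) (.node [(.ofNat 0),(.ofNat 0),(.negSucc 0),(.ofNat 0),(.ofNat 2),(.negSucc 1),(.ofNat 1),(.ofNat 0)] (.node [] .nil (.node [(.ofNat 1),(.ofNat 2),(.ofNat 0),(.negSucc 0),(.ofNat 0),(.negSucc 0),(.ofNat 0),(.ofNat 1)] .nil .nil)) (.node [(.ofNat 0),(.ofNat 1),(.negSucc 0),(.ofNat 0),(.ofNat 1),(.negSucc 0),(.negSucc 0),(.ofNat 2)] .nil (.node [(.ofNat 0),(.ofNat 1),(.negSucc 0),(.ofNat 0),(.ofNat 0),(.negSucc 0),(.ofNat 2),(.negSucc 0)] .nil .nil))))) (.node [(.negSucc 0),(.ofNat 1),(.ofNat 1),(.ofNat 0),(.negSucc 0),(.ofNat 0),(.ofNat 0),(.ofNat 1)] (.node [] (.node [] (.node [] (.node [] .nil (.node [(.negSucc 0),(.negSucc 0),(.ofNat 0),(.ofNat 1),(.ofNat 0),(.negSucc 0),(.ofNat 0),(.ofNat 1)] .nil .nil)) (.node [(.ofNat 0),(.ofNat 0),(.ofNat 0),(.ofNat 0),(.ofNat 1),(.negSucc 1),(.ofNat 0),(.ofNat 2)] .nil .nil)) (.node [(.ofNat 0),(.ofNat 2),(.ofNat 1),(.negSucc 1),(.ofNat 1),(.negSucc 0),(.ofNat 0),(.ofNat 1)] .nil (.node [(.negSucc 1),(.ofNat 0),(.ofNat 0),(.ofNat 1),(.ofNat 0),(.negSucc 0),(.ofNat 1),(.negSucc 0)] .nil .nil))) (.node [(.ofNat 2),(.ofNat 0),(.negSucc 1),(.ofNat 1),(.ofNat 0),(.negSucc 0),(.ofNat 1),(.ofNat 0)] (.node [] .nil (.node [(.ofNat 1),(.ofNat 0),(.ofNat 0),(.ofNat 0),(.ofNat 0),(.negSucc 1),(.ofNat 2),(.ofNat 0)] .nil .nil)) (.node [(.ofNat 0),(.ofNat 1),(.negSucc 0),(.ofNat 0),(.ofNat 1),(.negSucc 1),(.ofNat 1),(.ofNat 1)] .nil (.node [(.ofNat 1),(.ofNat 1),(.ofNat 0),(.negSucc 0),(.ofNat 0),(.ofNat 0),(.negSucc 0),(.ofNat 2)] .nil .nil)))) (.node [(.ofNat 0),(.ofNat 1),(.ofNat 1),(.ofNat 0),(.negSucc 1),(.ofNat 1),(.ofNat 0),(.ofNat 0)] (.node [] (.node [] .nil (.node [(.negSucc 1),(.ofNat 0),(.ofNat 1),(.ofNat 1),(.negSucc 0),(.negSucc 0),(.ofNat 1),(.ofNat 0)] .nil .nil)) (.node [(.negSucc 0),(.ofNat 2),(.ofNat 0),(.ofNat 0),(.negSucc 0),(.ofNat 0),(.ofNat 0),(.ofNat 1)] .nil (.node [(.negSucc 0),(.ofNat 0),(.ofNat 0),(.negSucc 0),(.ofNat 2),(.negSucc 0),(.ofNat 0),(.ofNat 1)] .nil .nil))) (.node [(.negSucc 0),(.ofNat 1),(.negSucc 0),(.ofNat 0),(.ofNat 1),(.negSucc 0),(.ofNat 1),(.ofNat 0)] (.node [] .nil (.node [(.ofNat 0),(.negSucc 0),(.ofNat 0),(.negSucc 0),(.ofNat 2),(.negSucc 0),(.ofNat 1),(.ofNat 0)] .nil .nil)) (.node [(.ofNat 0),(.negSucc 0),(.negSucc 0),(.ofNat 1),(.ofNat 0),(.ofNat 1),(.ofNat 0),(.negSucc 1)] .nil (.node [(.ofNat 0),(.ofNat 0),(.ofNat 0),(.negSucc 0),(.ofNat 1),(.ofNat 0),(.negSucc 0),(.ofNat 2)] .nil .nil)))))) (.node [(.negSucc 0),(.ofNat 0),(.ofNat 0),(.ofNat 1),(.negSucc 0),(.ofNat 1),(.negSucc 0),(.ofNat 1)] (.node [] (.node [] (.node [] (.node [] (.node [] .nil (.node [(.negSucc 0),(.ofNat 1),(.ofNat 0),(.ofNat 0),(.negSucc 0),(.ofNat 0),(.ofNat 1),(.ofNat 0)] .nil .nil)) (.node [(.ofNat 0),(.negSucc 1),(.ofNat 0),(.ofNat 1),(.negSucc 0),(.ofNat 2),(.negSucc 0),(.ofNat 0)] .nil .nil)) (.node [(.negSucc 1),(.negSucc 0),(.ofNat 1),(.ofNat 1),(.negSucc 0),(.ofNat 1),(.negSucc 0),(.ofNat 1)] .nil (.node [(.ofNat 0),(.negSucc 1),(.negSucc 0),(.ofNat 2),(.negSucc 0),(.ofNat 1),(.ofNat 0),(.negSucc 0)] .nil .nil))) (.node [(.negSucc 0),(.negSucc 0),(.ofNat 0),(.ofNat 2),(.negSucc 1),(.ofNat 1),(.ofNat 0),(.ofNat 0)] (.node [] .nil (.node [(.ofNat 1),(.ofNat 1),(.negSucc 0),(.ofNat 0),(.negSucc 0),(.ofNat 2),(.negSucc 0),(.negSucc 0)] .nil .nil)) (.node [(.ofNat 0),(.negSucc 0),(.ofNat 0),(.ofNat 2),(.negSucc 0),(.negSucc 0),(.ofNat 0),(.ofNat 0)] .nil (.node [(.negSucc 0),(.ofNat 0),(.ofNat 0),(.ofNat 0),(.ofNat 0),(.ofNat 1),(.ofNat 0),(.negSucc 1)] .nil .nil)))) (.node [(.ofNat 1),(.ofNat 1),(.negSucc 0),(.ofNat 0),(.negSucc 0),(.ofNat 1),(.ofNat 0),(.ofNat 1)] (.node [] (.node [] .nil (.node [(.ofNat 0),(.negSucc 1),(.ofNat 0),(.ofNat 2),(.negSucc 0),(.negSucc 0),(.ofNat 1),(.ofNat 0)] .nil .nil)) (.node [(.ofNat 1),(.ofNat 1),(.ofNat 0),(.negSucc 0),(.negSucc 0),(.ofNat 2),(.negSucc 0),(.ofNat 1)] .nil (.node [(.ofNat 2),(.ofNat 1),(.negSucc 0),(.ofNat 0),(.negSucc 0),(.ofNat 1),(.negSucc 0),(.ofNat 0)] .nil .nil))) (.node [(.negSucc 0),(.ofNat 2),(.ofNat 1),(.negSucc 0),(.ofNat 0),(.ofNat 0),(.ofNat 0),(.negSucc 0)] (.node [] .nil (.node [(.ofNat 1),(.ofNat 0),(.ofNat 0),(.negSucc 0),(.ofNat 2),(.negSucc 1),(.ofNat 0),(.ofNat 1)] .nil .nil)) (.node [(.ofNat 0),(.negSucc 0),(.negSucc 0),(.ofNat 0),(.ofNat 2),(.ofNat 0),(.negSucc 0),(.ofNat 0)] .nil (.node [(.ofNat 0),(.negSucc 0),(.negSucc 0),(.ofNat 1),(.ofNat 0),(.negSucc 0),(.ofNat 2),(.negSucc 0)] .nil .nil))))) (.node [(.negSucc 0),(.ofNat 0),(.ofNat 2),(.negSucc 0),(.ofNat 0),(.ofNat 0),(.ofNat 0),(.ofNat 1)] (.node [] (.node [] (.node [] (.node [] .nil (.node [(.ofNat 0),(.negSucc 0),(.ofNat 0),(.ofNat 0),(.ofNat 0),(.ofNat 0),(.ofNat 0),(.ofNat 1)] .nil .nil)) (.node [(.ofNat 0),(.ofNat 2),(.ofNat 0),(.ofNat 0),(.negSucc 0),(.negSucc 0),(.ofNat 1),(.ofNat 0)] .nil .nil)) (.node [(.negSucc 0),(.negSucc 0),(.ofNat 2),(.ofNat 0),(.ofNat 0),(.negSucc 0),(.ofNat 1),(.negSucc 0)] .nil (.node [(.ofNat 0),(.negSucc 0),(.ofNat 0),(.ofNat 1),(.ofNat 0),(.negSucc 1),(.ofNat 1),(.ofNat 1)] .nil .nil))) (.node [(.ofNat 1),(.ofNat 0),(.ofNat 0),(.ofNat 0),(.negSucc 0),(.ofNat 1),(.ofNat 1),(.negSucc 1)] (.node [] .nil (.node [(.negSucc 0),(.ofNat 1),(.ofNat 0),(.ofNat 0),(.ofNat 1),(.negSucc 1),(.ofNat 0),(.ofNat 1)] .nil .nil)) (.node [(.ofNat 1),(.ofNat 0),(.negSucc 0),(.ofNat 0),(.ofNat 2),(.negSucc 1),(.ofNat 0),(.ofNat 0)] .nil (.node [(.negSucc 0),(.ofNat 0),(.ofNat 0),(.ofNat 0),(.ofNat 1),(.ofNat 0),(.negSucc 0),(.negSucc 0)] .nil .nil)))) (.node [(.negSucc 0),(.ofNat 0),(.negSucc 0),(.ofNat 2),(.negSucc 0),(.ofNat 0),(.ofNat 0),(.ofNat 0)] (.node [] (.node [] .nil (.node [(.ofNat 2),(.ofNat 0),(.negSucc 1),(.ofNat 0),(.ofNat 0),(.ofNat 1),(.ofNat 0),(.ofNat 0)] .nil .nil)) (.node [(.ofNat 0),(.ofNat 0),(.ofNat 1),(.ofNat 0),(.ofNat 0),(.ofNat 0),(.negSucc 1),(.ofNat 1)] .nil (.node [(.ofNat 1),(.ofNat 0),(.negSucc 0),(.ofNat 1),(.negSucc 1),(.ofNat 1),(.ofNat 1),(.negSucc 0)] .nil .nil))) (.node [(.ofNat 0),(.ofNat 0),(.negSucc 0),(.ofNat 1),(.ofNat 1),(.negSucc 1),(.ofNat 0),(.ofNat 1)] (.node [] .nil (.node [(.ofNat 1),(.ofNat 0),(.ofNat 0),(.ofNat 0),(.negSucc 0),(.ofNat 0),(.ofNat 2),(.negSucc 1)] .nil .nil)) (.node [(.ofNat 0),(.ofNat 2),(.ofNat 0),(.negSucc 0),(.negSucc 0),(.ofNat 2),(.negSucc 0),(.ofNat 0)] .nil (.node [(.ofNat 0),(.negSucc 0),(.negSucc 0),(.ofNat 2),(.negSucc 0),(.ofNat 0),(.negSucc 0),(.ofNat 1)] .nil .nil))))))) (.node [(.ofNat 0),(.ofNat 0),(.ofNat 1),(.negSucc 0),(.ofNat 1),(.ofNat 0),(.ofNat 0),(.negSucc 0)] (.node [] (.node [] (.node [] (.node [] (.node [] (.node [] .nil (.node [(.negSucc 0),(.ofNat 1),(.ofNat 0),(.negSucc 0),(.ofNat 1),(.negSucc 0),(.ofNat 1),(.ofNat 0)] .nil .nil)) (.node [(.negSucc 1),(.negSucc 0),(.ofNat 0),(.ofNat 1),(.ofNat 1),(.negSucc 0),(.ofNat 0),(.ofNat 0)] .nil .nil)) (.node [(.ofNat 0),(.ofNat 0),(.negSucc 0),(.ofNat 1),(.ofNat 1),(.negSucc 1),(.ofNat 1),(.negSucc 0)] .nil (.node [(.ofNat 1),(.ofNat 0),(.ofNat 0),(.ofNat 1),(.negSucc 1),(.ofNat 0),(.ofNat 1),(.negSucc 0)] .nil .nil))) (.node [(.ofNat 1),(.ofNat 0),(.ofNat 0),(.negSucc 0),(.ofNat 1),(.negSucc 0),(.ofNat 2),(.negSucc 0)] (.node [] .nil (.node [(.negSucc 0),(.ofNat 1),(.ofNat 0),(.negSucc 0),(.ofNat 2),(.negSucc 0),(.negSucc 0),(.ofNat 1)] .nil .nil)) (.node [(.ofNat 1),(.negSucc 0),(.ofNat 0),(.ofNat 0),(.negSucc 0),(.ofNat 2),(.ofNat 0),(.negSucc 0)] .nil (.node [(.ofNat 1),(.ofNat 0),(.negSucc 0),(.ofNat 0),(.ofNat 1),(.ofNat 0),(.negSucc 1),(.ofNat 1)] .nil .nil)))) (.node [(.ofNat 0),(.negSucc 1),(.ofNat 0),(.ofNat 1),(.ofNat 0),(.ofNat 1),(.negSucc 0),(.ofNat 0)] (.node [] (.node [] .nil (.node [(.ofNat 1),(.ofNat 0),(.negSucc 1),(.ofNat 2),(.negSucc 0),(.negSucc 0),(.ofNat 1),(.ofNat 0)] .nil .nil)) (.node [(.negSucc 0),(.negSucc 0),(.ofNat 1),(.negSucc 0),(.ofNat 1),(.ofNat 0),(.ofNat 1),(.ofNat 0)] .nil (.node [(.negSucc 0),(.negSucc 0),(.negSucc 0),(.ofNat 1),(.ofNat 1),(.negSucc 0),(.ofNat 0),(.ofNat 1)] .nil .nil))) (.node [(.ofNat 2),(.ofNat 1),(.negSucc 0),(.negSucc 0),(.ofNat 1),(.ofNat 0),(.negSucc 0),(.ofNat 1)] (.node [] .nil (.node [(.ofNat 2),(.ofNat 1),(.negSucc 0),(.negSucc 0),(.ofNat 0),(.ofNat 0),(.ofNat 1),(.ofNat 0)] .nil .nil)) (.node [(.ofNat 2),(.ofNat 0),(.negSucc 0),(.ofNat 0),(.negSucc 0),(.ofNat 1),(.ofNat 0),(.ofNat 1)] .nil (.node [(.negSucc 0),(.ofNat 1),(.ofNat 1),(.negSucc 0),(.ofNat 1),(.negSucc 0),(.negSucc 0),(.ofNat 1)] .nil .nil))))) (.node [(.ofNat 0),(.negSucc 0),(.negSucc 0),(.ofNat 1),(.ofNat 1),(.negSucc 0),(.ofNat 0),(.ofNat 1)] (.node [] (.node [] (.node [] (.node [] .nil (.node [(.ofNat 0),(.ofNat 0),(.negSucc 0),(.ofNat 0),(.ofNat 0),(.ofNat 1),(.ofNat 0),(.negSucc 0)] .nil .nil)) (.node [(.ofNat 2),(.negSucc 1),(.negSucc 0),(.ofNat 1),(.ofNat 0),(.ofNat 0),(.ofNat 0),(.ofNat 0)] .nil .nil)) (.node [(.ofNat 2),(.negSucc 0),(.negSucc 0),(.ofNat 1),(.ofNat 0),(.negSucc 0),(.ofNat 1),(.negSucc 0)] .nil (.node [(.negSucc 0),(.negSucc 1),(.ofNat 1),(.ofNat 1),(.ofNat 0),(.ofNat 0),(.negSucc 0),(.ofNat 0)] .nil .nil))) (.node [(.ofNat 0),(.negSucc 1),(.negSucc 0),(.ofNat 1),(.ofNat 1),(.ofNat 0),(.ofNat 0),(.ofNat 0)] (.node [] .nil (.node [(.ofNat 1),(.ofNat 1),(.negSucc 0),(.ofNat 1),(.negSucc 0),(.negSucc 0),(.ofNat 0),(.ofNat 1)] .nil .nil)) (.node [(.ofNat 1),(.ofNat 0),(.negSucc 0),(.ofNat 1),(.ofNat 0),(.ofNat 0),(.negSucc 0),(.negSucc 0)] .nil (.node [(.ofNat 1),(.ofNat 1),(.ofNat 0),(.negSucc 0),(.ofNat 1),(.negSucc 1),(.ofNat 1),(.ofNat 0)] .nil .nil)))) (.node [(.ofNat 1),(.ofNat 1),(.negSucc 0),(.ofNat 0),(.ofNat 0),(.negSucc 0),(.ofNat 2),(.negSucc 0)] (.node [] (.node [] .nil (.node [(.ofNat 1),(.negSucc 1),(.ofNat 0),(.ofNat 0),(.ofNat 0),(.ofNat 1),(.ofNat 0),(.ofNat 0)] .nil .nil)) (.node [(.ofNat 1),(.negSucc 0),(.negSucc 1),(.ofNat 2),(.ofNat 0),(.ofNat 0),(.negSucc 0),(.ofNat 0)] .nil (.node [(.ofNat 2),(.ofNat 1),(.negSucc 0),(.ofNat 0),(.ofNat 0),(.negSucc 0),(.ofNat 0),(.ofNat 0)] .nil .nil))) (.node [(.ofNat 0),(.ofNat 2),(.negSucc 0),(.ofNat 0),(.ofNat 0),(.ofNat 0),(.ofNat 0),(.negSucc 0)] (.node [] .nil (.node [(.ofNat 2),(.ofNat 0),(.negSucc 1),(.ofNat 1),(.negSucc 0),(.ofNat 1),(.ofNat 0),(.negSucc 0)] .nil .nil)) (.node [(.negSucc 1),(.ofNat 0),(.ofNat 1),(.ofNat 0),(.negSucc 0),(.ofNat 1),(.ofNat 0),(.ofNat 1)] .nil (.node [(.ofNat 2),(.ofNat 0),(.negSucc 0),(.ofNat 0),(.ofNat 0),(.negSucc 0),(.ofNat 1),(.ofNat 0)] .nil .nil)))))) (.node [(.ofNat 1),(.ofNat 1),(.ofNat 0),(.negSucc 0),(.ofNat 1),(.negSucc 0),(.ofNat 1),(.negSucc 0)] (.node [] (.node [] (.node [] (.node [] (.node [] .nil (.node [(.ofNat 1),(.negSucc 0),(.negSucc 0),(.ofNat 1),(.negSucc 0),(.ofNat 1),(.ofNat 0),(.negSucc 0)] .nil .nil)) (.node [(.ofNat 0),(.ofNat 0),(.ofNat 0),(.ofNat 1),(.negSucc 1),(.ofNat 0),(.ofNat 2),(.negSucc 0)] .nil .nil)) (.node [(.negSucc 0),(.negSucc 0),(.ofNat 2),(.ofNat 0),(.ofNat 0),(.negSucc 0),(.ofNat 0),(.ofNat 1)] .nil (.node [(.negSucc 0),(.negSucc 0),(.negSucc 0),(.ofNat 1),(.ofNat 0),(.ofNat 0),(.ofNat 1),(.ofNat 0)] .nil .nil))) (.node [(.negSucc 0),(.ofNat 1),(.ofNat 0),(.ofNat 0),(.ofNat 1),(.negSucc 0),(.negSucc 0),(.ofNat 1)] (.node [] .nil (.node [(.negSucc 0),(.ofNat 1),(.ofNat 0),(.ofNat 0),(.ofNat 0),(.negSucc 0),(.ofNat 0),(.ofNat 2)] .nil .nil)) (.node [(.ofNat 0),(.ofNat 0),(.negSucc 1),(.ofNat 2),(.negSucc 0),(.ofNat 0),(.ofNat 1),(.negSucc 0)] .nil (.node [(.ofNat 1),(.negSucc 0),(.ofNat 0),(.negSucc 0),(.ofNat 1),(.ofNat 1),(.negSucc 0),(.ofNat 0)] .nil .nil)))) (.node [(.ofNat 0),(.negSucc 0),(.ofNat 1),(.ofNat 0),(.negSucc 0),(.ofNat 1),(.ofNat 1),(.negSucc 0)] (.node [] (.node [] .nil (.node [(.negSucc 0),(.ofNat 0),(.negSucc 0),(.ofNat 1),(.ofNat 0),(.ofNat 0),(.ofNat 1),(.negSucc 1)] .nil .nil)) (.node [(.ofNat 0),(.ofNat 1),(.ofNat 2),(.negSucc 1),(.ofNat 0),(.ofNat 0),(.ofNat 0),(.ofNat 1)] .nil (.node [(.ofNat 1),(.negSucc 0),(.negSucc 1),(.ofNat 1),(.ofNat 1),(.ofNat 0),(.negSucc 0),(.ofNat 0)] .nil .nil))) (.node [(.ofNat 1),(.ofNat 0),(.ofNat 0),(.ofNat 0),(.ofNat 1),(.negSucc 1),(.ofNat 1),(.negSucc 0)] (.node [] .nil (.node [(.ofNat 0),(.ofNat 0),(.negSucc 0),(.ofNat 1),(.ofNat 0),(.negSucc 1),(.ofNat 2),(.ofNat 0)] .nil .nil)) (.node [(.negSucc 0),(.ofNat 1),(.ofNat 1),(.negSucc 0),(.ofNat 1),(.ofNat 0),(.negSucc 0),(.negSucc 0)] .nil (.node [(.ofNat 1),(.negSucc 0),(.ofNat 0),(.ofNat 1),(.negSucc 0),(.ofNat 0),(.negSucc 0),(.ofNat 1)] .nil .nil))))) (.node [(.ofNat 0),(.ofNat 0),(.ofNat 0),(.ofNat 0),(.negSucc 0),(.ofNat 2),(.ofNat 0),(.negSucc 0)] (.node [] (.node [] (.node [] .nil (.node [(.ofNat 0),(.ofNat 0),(.ofNat 0),(.ofNat 1),(.negSucc 1),(.ofNat 2),(.negSucc 1),(.ofNat 1)] .nil .nil)) (.node [(.ofNat 0),(.ofNat 0),(.ofNat 1),(.ofNat 0),(.negSucc 0),(.ofNat 1),(.negSucc 1),(.ofNat 2)] .nil (.node [(.ofNat 1),(.ofNat 1),(.negSucc 1),(.ofNat 1),(.negSucc 0),(.ofNat 0),(.ofNat 0),(.ofNat 1)] .nil .nil))) (.node [(.ofNat 1),(.negSucc 0),(.ofNat 1),(.negSucc 0),(.ofNat 1),(.negSucc 0),(.ofNat 1),(.ofNat 0)] (.node [] .nil (.node [(.ofNat 0),(.negSucc 0),(.ofNat 1),(.ofNat 0),(.ofNat 0),(.ofNat 1),(.negSucc 1),(.ofNat 0)] .nil .nil)) (.node [(.ofNat 0),(.negSucc 0),(.negSucc 0),(.ofNat 1),(.negSucc 0),(.ofNat 2),(.ofNat 0),(.negSucc 0)] .nil (.node [(.negSucc 0),(.ofNat 0),(.ofNat 0),(.ofNat 1),(.ofNat 0),(.negSucc 0),(.negSucc 0),(.ofNat 1)] .nil .nil)))) (.node [(.ofNat 1),(.ofNat 1),(.negSucc 0),(.ofNat 0),(.ofNat 0),(.ofNat 1),(.negSucc 1),(.ofNat 1)] (.node [] (.node [] .nil (.node [(.ofNat 1),(.negSucc 0),(.negSucc 0),(.ofNat 0),(.ofNat 1),(.ofNat 0),(.ofNat 1),(.negSucc 1)] .nil .nil)) (.node [(.negSucc 1),(.ofNat 0),(.ofNat 2),(.negSucc 0),(.ofNat 1),(.ofNat 0),(.negSucc 0),(.ofNat 0)] .nil (.node [(.negSucc 0),(.ofNat 1),(.ofNat 1),(.negSucc 1),(.ofNat 1),(.ofNat 0),(.ofNat 0),(.ofNat 1)] .nil .nil))) (.node [(.negSucc 0),(.ofNat 1),(.negSucc 0),(.ofNat 1),(.negSucc 0),(.ofNat 0),(.ofNat 1),(.ofNat 0)] (.node [] .nil (.node [(.ofNat 0),(.ofNat 2),(.negSucc 0),(.ofNat 0),(.ofNat 0),(.negSucc 0),(.ofNat 0),(.ofNat 1)] .nil .nil)) (.node [(.ofNat 0),(.ofNat 1),(.negSucc 0),(.ofNat 0),(.ofNat 1),(.ofNat 0),(.negSucc 0),(.negSucc 0)] .nil (.node [(.ofNat 0),(.ofNat 2),(.ofNat 0),(.negSucc 0),(.ofNat 0),(.ofNat 0),(.ofNat 0),(.negSucc 0)] .nil .nil)))))))) (.node [(.ofNat 0),(.negSucc 0),(.ofNat 0),(.ofNat 1),(.ofNat 0),(.ofNat 0),(.negSucc 0),(.ofNat 1)] (.node [] (.node [] (.node [] (.node [] (.node [] (.node [] (.node [] .nil (.node [(.ofNat 0),(.negSucc 0),(.ofNat 1),(.negSucc 0),(.ofNat 1),(.ofNat 0),(.negSucc 0),(.ofNat 1)] .nil .nil)) (.node [(.ofNat 1),(.ofNat 0),(.ofNat 1),(.negSucc 0),(.ofNat 0),(.ofNat 1),(.negSucc 1),(.ofNat 1)] .nil .nil)) (.node [(.negSucc 0),(.ofNat 0),(.ofNat 1),(.ofNat 1),(.negSucc 0),(.negSucc 0),(.ofNat 1),(.negSucc 0)] .nil (.node [(.ofNat 0),(.ofNat 0),(.ofNat 2),(.negSucc 0),(.ofNat 0),(.ofNat 0),(.negSucc 0),(.ofNat 0)] .nil .nil))) (.node [(.ofNat 0),(.ofNat 1),(.ofNat 1),(.negSucc 0),(.ofNat 1),(.negSucc 0),(.ofNat 0),(.negSucc 0)] (.node [] .nil (.node [(.ofNat 1),(.ofNat 2),(.ofNat 0),(.negSucc 1),(.ofNat 1),(.ofNat 0),(.negSucc 0),(.ofNat 1)] .nil .nil)) (.node [(.ofNat 0),(.ofNat 1),(.negSucc 0),(.ofNat 0),(.ofNat 0),(.negSucc 0),(.ofNat 2),(.ofNat 0)] .nil (.node [(.ofNat 1),(.ofNat 1),(.ofNat 0),(.negSucc 1),(.ofNat 1),(.ofNat 1),(.negSucc 0),(.ofNat 0)] .nil .nil)))) (.node [(.ofNat 1),(.ofNat 1),(.negSucc 0),(.negSucc 0),(.ofNat 1),(.ofNat 0),(.ofNat 0),(.ofNat 1)] (.node [] (.node [] .nil (.node [(.negSucc 1),(.ofNat 0),(.ofNat 1),(.ofNat 0),(.ofNat 0),(.ofNat 1),(.negSucc 1),(.ofNat 1)] .nil .nil)) (.node [(.negSucc 0),(.ofNat 2),(.ofNat 0),(.negSucc 0),(.ofNat 1),(.negSucc 0),(.ofNat 0),(.ofNat 1)] .nil (.node [(.ofNat 0),(.negSucc 0),(.ofNat 0),(.ofNat 1),(.ofNat 0),(.negSucc 1),(.ofNat 2),(.negSucc 0)] .nil .nil))) (.node [(.negSucc 0),(.ofNat 0),(.ofNat 1),(.ofNat 0),(.negSucc 0),(.ofNat 1),(.ofNat 1),(.negSucc 1)] (.node [] .nil (.node [(.negSucc 0),(.negSucc 0),(.ofNat 0),(.ofNat 0),(.ofNat 2),(.negSucc 0),(.ofNat 0),(.negSucc 0)] .nil .nil)) (.node [(.ofNat 1),(.ofNat 1),(.ofNat 0),(.ofNat 0),(.ofNat 0),(.negSucc 1),(.ofNat 1),(.ofNat 0)] .nil (.node [(.ofNat 0),(.negSucc 0),(.negSucc 0),(.ofNat 1),(.ofNat 0),(.negSucc 0),(.ofNat 1),(.ofNat 1)] .nil .nil))))) (.node [(.ofNat 1),(.negSucc 0),(.ofNat 0),(.ofNat 0),(.ofNat 1),(.ofNat 0),(.negSucc 0),(.ofNat 0)] (.node [] (.node [] (.node [] (.node [] .nil (.node [(.negSucc 0),(.ofNat 1),(.ofNat 0),(.ofNat 0),(.ofNat 0),(.ofNat 0),(.negSucc 0),(.ofNat 0)] .nil .nil)) (.node [(.ofNat 1),(.ofNat 0),(.ofNat 1),(.negSucc 0),(.ofNat 0),(.ofNat 1),(.negSucc 0),(.negSucc 0)] .nil .nil)) (.node [(.ofNat 0),(.ofNat 1),(.ofNat 0),(.ofNat 0),(.negSucc 0),(.ofNat 0),(.ofNat 2),(.negSucc 1)] .nil (.node [(.ofNat 0),(.ofNat 0),(.negSucc 0),(.ofNat 1),(.negSucc 0),(.ofNat 0),(.ofNat 2),(.negSucc 1)] .nil .nil))) (.node [(.ofNat 1),(.negSucc 0),(.ofNat 1),(.negSucc 0),(.ofNat 0),(.ofNat 1),(.ofNat 0),(.ofNat 0)] (.node [] .nil (.node [(.negSucc 0),(.negSucc 1),(.ofNat 1),(.ofNat 0),(.ofNat 1),(.negSucc 0),(.ofNat 1),(.ofNat 0)] .nil .nil)) (.node [(.ofNat 1),(.negSucc 1),(.negSucc 0),(.ofNat 2),(.negSucc 0),(.ofNat 1),(.negSucc 0),(.ofNat 0)] .nil (.node [(.ofNat 1),(.ofNat 2),(.negSucc 0),(.ofNat 0),(.negSucc 0),(.ofNat 0),(.ofNat 0),(.ofNat 0)] .nil .nil)))) (.node [(.negSucc 0),(.ofNat 1),(.ofNat 0),(.negSucc 0),(.ofNat 1),(.ofNat 1),(.negSucc 0),(.ofNat 0)] (.node [] (.node [] .nil (.node [(.negSucc 1),(.negSucc 0),(.ofNat 2),(.negSucc 0),(.ofNat 1),(.ofNat 0),(.ofNat 0),(.ofNat 0)] .nil .nil)) (.node [(.negSucc 0),(.ofNat 0),(.ofNat 0),(.ofNat 1),(.ofNat 0),(.negSucc 1),(.ofNat 1),(.ofNat 1)] .nil (.node [(.ofNat 0),(.ofNat 0),(.ofNat 1),(.negSucc 0),(.ofNat 0),(.ofNat 1),(.ofNat 0),(.negSucc 1)] .nil .nil))) (.node [(.ofNat 1),(.ofNat 1),(.negSucc 1),(.ofNat 0),(.ofNat 1),(.ofNat 0),(.negSucc 0),(.ofNat 1)] (.node [] .nil (.node [(.negSucc 0),(.negSucc 0),(.ofNat 0),(.ofNat 2),(.negSucc 0),(.negSucc 0),(.ofNat 0),(.ofNat 1)] .nil .nil)) (.node [(.ofNat 1),(.ofNat 0),(.ofNat 1),(.negSucc 0),(.ofNat 0),(.negSucc 0),(.ofNat 2),(.negSucc 0)] .nil (.node [(.ofNat 0),(.ofNat 1),(.negSucc 0),(.ofNat 1),(.negSucc 0),(.ofNat 0),(.negSucc 0),(.ofNat 1)] .nil .nil)))))) (.node [(.negSucc 0),(.ofNat 0),(.ofNat 0),(.ofNat 1),(.ofNat 0),(.negSucc 0),(.ofNat 0),(.ofNat 1)] (.node [] (.node [] (.node [] (.node [] (.node [] .nil (.node [(.ofNat 0),(.negSucc 0),(.ofNat 1),(.ofNat 0),(.ofNat 0),(.negSucc 0),(.ofNat 0),(.ofNat 1)] .nil .nil)) (.node [(.ofNat 0),(.negSucc 0),(.negSucc 0),(.ofNat 2),(.negSucc 0),(.ofNat 1),(.negSucc 1),(.ofNat 1)] .nil .nil)) (.node [(.negSucc 0),(.ofNat 0),(.ofNat 0),(.ofNat 0),(.negSucc 0),(.ofNat 2),(.ofNat 0),(.ofNat 0)] .nil (.node [(.ofNat 0),(.ofNat 0),(.ofNat 1),(.negSucc 1),(.ofNat 1),(.ofNat 1),(.negSucc 0),(.ofNat 1)] .nil .nil))) (.node [(.ofNat 0),(.ofNat 2),(.negSucc 0),(.negSucc 0),(.ofNat 1),(.ofNat 0),(.ofNat 0),(.ofNat 0)] (.node [] .nil (.node [(.ofNat 0),(.ofNat 1),(.ofNat 1),(.negSucc 0),(.ofNat 1),(.negSucc 1),(.ofNat 1),(.negSucc 0)] .nil .nil)) (.node [(.negSucc 0),(.negSucc 1),(.ofNat 0),(.ofNat 1),(.ofNat 1),(.ofNat 0),(.negSucc 0),(.ofNat 0)] .nil (.node [(.ofNat 0),(.negSucc 0),(.ofNat 0),(.ofNat 2),(.negSucc 1),(.ofNat 0),(.ofNat 0),(.ofNat 0)] .nil .nil)))) (.node [(.ofNat 1),(.ofNat 0),(.negSucc 1),(.ofNat 1),(.ofNat 1),(.negSucc 0),(.ofNat 0),(.ofNat 0)] (.node [] (.node [] .nil (.node [(.negSucc 0),(.negSucc 0),(.ofNat 0),(.ofNat 0),(.ofNat 0),(.ofNat 1),(.ofNat 1),(.negSucc 0)] .nil .nil)) (.node [(.ofNat 0),(.ofNat 0),(.ofNat 1),(.ofNat 0),(.negSucc 0),(.ofNat 1),(.ofNat 0),(.negSucc 1)] .nil (.node [(.ofNat 0),(.negSucc 1),(.ofNat 1),(.ofNat 0),(.ofNat 0),(.ofNat 0),(.ofNat 0),(.ofNat 1)] .nil .nil))) (.node [(.ofNat 1),(.ofNat 0),(.ofNat 0),(.ofNat 1),(.negSucc 1),(.ofNat 1),(.ofNat 0),(.negSucc 0)] (.node [] .nil (.node [(.negSucc 0),(.ofNat 0),(.ofNat 1),(.negSucc 0),(.ofNat 1),(.negSucc 0),(.ofNat 0),(.ofNat 2)] .nil .nil)) (.node [(.ofNat 0),(.negSucc 0),(.negSucc 0),(.ofNat 2),(.negSucc 1),(.ofNat 1),(.ofNat 1),(.negSucc 0)] .nil (.node [(.ofNat 2),(.ofNat 0),(.negSucc 0),(.negSucc 0),(.ofNat 1),(.ofNat 0),(.ofNat 0),(.ofNat 0)] .nil .nil))))) (.node [(.ofNat 0),(.negSucc 0),(.negSucc 0),(.ofNat 1),(.ofNat 1),(.ofNat 0),(.negSucc 0),(.ofNat 0)] (.node [] (.node [] (.node [] (.node [] .nil (.node [(.ofNat 0),(.negSucc 0),(.ofNat 0),(.ofNat 1),(.negSucc 0),(.ofNat 0),(.ofNat 0),(.ofNat 0)] .nil .nil)) (.node [(.ofNat 1),(.negSucc 0),(.negSucc 0),(.ofNat 0),(.ofNat 0),(.ofNat 1),(.ofNat 1),(.negSucc 0)] .nil .nil)) (.node [(.ofNat 1),(.ofNat 1),(.ofNat 0),(.negSucc 1),(.ofNat 1),(.ofNat 1),(.negSucc 0),(.ofNat 1)] .nil (.node [(.negSucc 0),(.ofNat 1),(.ofNat 2),(.negSucc 1),(.ofNat 1),(.ofNat 0),(.negSucc 0),(.ofNat 0)] .nil .nil))) (.node [(.ofNat 2),(.ofNat 1),(.negSucc 0),(.negSucc 0),(.ofNat 1),(.negSucc 0),(.ofNat 1),(.ofNat 0)] (.node [] .nil (.node [(.negSucc 0),(.negSucc 0),(.ofNat 0),(.ofNat 1),(.negSucc 0),(.ofNat 1),(.ofNat 1),(.negSucc 1)] .nil .nil)) (.node [(.ofNat 0),(.ofNat 0),(.negSucc 1),(.ofNat 2),(.negSucc 0),(.ofNat 1),(.negSucc 0),(.ofNat 0)] .nil (.node [(.negSucc 0),(.negSucc 0),(.ofNat 1),(.ofNat 0),(.ofNat 0),(.negSucc 0),(.ofNat 1),(.ofNat 1)] .nil .nil)))) (.node [(.ofNat 0),(.ofNat 0),(.ofNat 0),(.ofNat 1),(.ofNat 0),(.negSucc 0),(.ofNat 0),(.negSucc 0)] (.node [] (.node [] .nil (.node [(.ofNat 1),(.negSucc 0),(.negSucc 0),(.ofNat 1),(.negSucc 0),(.ofNat 0),(.ofNat 2),(.negSucc 0)] .nil .nil)) (.node [(.ofNat 0),(.ofNat 1),(.ofNat 2),(.negSucc 1),(.ofNat 0),(.ofNat 0),(.ofNat 1),(.negSucc 0)] .nil (.node [(.ofNat 2),(.negSucc 0),(.negSucc 0),(.ofNat 1),(.ofNat 0),(.negSucc 0),(.ofNat 0),(.ofNat 0)] .nil .nil))) (.node [(.negSucc 1),(.ofNat 1),(.ofNat 1),(.negSucc 0),(.ofNat 1),(.ofNat 0),(.ofNat 0),(.negSucc 0)] (.node [] .nil (.node [(.negSucc 0),(.ofNat 0),(.ofNat 1),(.ofNat 0),(.ofNat 0),(.ofNat 0),(.ofNat 0),(.negSucc 1)] .nil .nil)) (.node [(.ofNat 0),(.ofNat 1),(.ofNat 1),(.negSucc 1),(.ofNat 0),(.ofNat 1),(.ofNat 1),(.negSucc 0)] .nil (.node [(.negSucc 1),(.ofNat 0),(.ofNat 1),(.ofNat 0),(.ofNat 0),(.negSucc 0),(.ofNat 1),(.ofNat 0)] .nil .nil))))))) (.node [(.ofNat 1),(.ofNat 0),(.negSucc 0),(.ofNat 1),(.negSucc 0),(.ofNat 1),(.negSucc 0),(.ofNat 1)] (.node [] (.node [] (.node [] (.node [] (.node [] (.node [] .nil (.node [(.ofNat 0),(.ofNat 0),(.ofNat 0),(.ofNat 1),(.negSucc 0),(.negSucc 0),(.ofNat 1),(.negSucc 0)] .nil .nil)) (.node [(.ofNat 1),(.ofNat 0),(.negSucc 1),(.ofNat 1),(.negSucc 0),(.ofNat 2),(.negSucc 0),(.ofNat 0)] .nil .nil)) (.node [(.ofNat 0),(.negSucc 0),(.ofNat 0),(.ofNat 0),(.ofNat 1),(.negSucc 0),(.ofNat 0),(.ofNat 2)] .nil (.node [(.ofNat 0),(.ofNat 1),(.ofNat 0),(.negSucc 1),(.ofNat 2),(.ofNat 0),(.ofNat 0),(.negSucc 0)] .nil .nil))) (.node [(.ofNat 1),(.ofNat 0),(.ofNat 0),(.ofNat 0),(.negSucc 0),(.ofNat 0),(.ofNat 1),(.ofNat 1)] (.node [] .nil (.node [(.ofNat 0),(.ofNat 1),(.ofNat 1),(.ofNat 0),(.negSucc 0),(.negSucc 0),(.ofNat 0),(.ofNat 1)] .nil .nil)) (.node [(.ofNat 1),(.ofNat 0),(.negSucc 0),(.ofNat 1),(.ofNat 0),(.negSucc 0),(.ofNat 1),(.negSucc 1)] .nil (.node [(.negSucc 0),(.ofNat 0),(.ofNat 0),(.ofNat 1),(.negSucc 0),(.negSucc 0),(.ofNat 1),(.ofNat 1)] .nil .nil)))) (.node [(.ofNat 0),(.ofNat 1),(.ofNat 1),(.negSucc 0),(.negSucc 0),(.ofNat 1),(.ofNat 1),(.negSucc 0)] (.node [] (.node [] .nil (.node [(.ofNat 1),(.negSucc 0),(.negSucc 0),(.ofNat 0),(.ofNat 0),(.ofNat 2),(.negSucc 0),(.ofNat 0)] .nil .nil)) (.node [(.ofNat 1),(.negSucc 0),(.negSucc 1),(.ofNat 2),(.ofNat 0),(.negSucc 0),(.ofNat 1),(.negSucc 0)] .nil (.node [(.ofNat 1),(.ofNat 0),(.negSucc 0),(.ofNat 0),(.ofNat 0),(.negSucc 0),(.ofNat 2),(.ofNat 0)] .nil .nil))) (.node [(.negSucc 0),(.ofNat 1),(.ofNat 2),(.negSucc 1),(.ofNat 1),(.ofNat 0),(.negSucc 0),(.ofNat 1)] (.node [] .nil (.node [(.negSucc 1),(.ofNat 0),(.ofNat 0),(.ofNat 0),(.ofNat 1),(.ofNat 0),(.negSucc 0),(.ofNat 1)] .nil .nil)) (.node [(.ofNat 0),(.ofNat 1),(.ofNat 2),(.negSucc 0),(.negSucc 0),(.ofNat 0),(.ofNat 0),(.ofNat 0)] .nil (.node [(.ofNat 0),(.ofNat 1),(.negSucc 0),(.ofNat 1),(.negSucc 1),(.ofNat 1),(.ofNat 0),(.ofNat 0)] .nil .nil))))) (.node [(.ofNat 1),(.negSucc 0),(.ofNat 0),(.ofNat 1),(.negSucc 0),(.ofNat 1),(.negSucc 0),(.ofNat 0)] (.node [] (.node [] (.node [] (.node [] .nil (.node [(.negSucc 0),(.ofNat 0),(.ofNat 1),(.ofNat 0),(.negSucc 0),(.ofNat 1),(.negSucc 0),(.ofNat 0)] .nil .nil)) (.node [(.negSucc 0),(.ofNat 0),(.negSucc 0),(.ofNat 1),(.negSucc 0),(.ofNat 2),(.negSucc 0),(.ofNat 0)] .nil .nil)) (.node [(.ofNat 2),(.ofNat 0),(.ofNat 0),(.negSucc 0),(.ofNat 1),(.negSucc 0),(.ofNat 0),(.ofNat 1)] .nil (.node [(.ofNat 2),(.negSucc 0),(.negSucc 0),(.ofNat 0),(.ofNat 1),(.negSucc 0),(.ofNat 1),(.negSucc 0)] .nil .nil))) (.node [(.ofNat 0),(.ofNat 1),(.ofNat 0),(.negSucc 1),(.ofNat 2),(.ofNat 0),(.ofNat 0),(.ofNat 0)] (.node [] .nil (.node [(.ofNat 2),(.ofNat 0),(.negSucc 1),(.ofNat 1),(.negSucc 0),(.ofNat 0),(.ofNat 1),(.ofNat 0)] .nil .nil)) (.node [(.ofNat 0),(.negSucc 1),(.ofNat 1),(.ofNat 1),(.ofNat 0),(.negSucc 0),(.ofNat 0),(.ofNat 0)] .nil (.node [(.ofNat 1),(.ofNat 0),(.negSucc 0),(.ofNat 1),(.negSucc 0),(.ofNat 1),(.negSucc 0),(.negSucc 0)] .nil .nil)))) (.node [(.ofNat 1),(.ofNat 1),(.negSucc 0),(.ofNat 0),(.ofNat 0),(.ofNat 0),(.negSucc 0),(.ofNat 2)] (.node [] (.node [] .nil (.node [(.ofNat 0),(.ofNat 1),(.ofNat 1),(.negSucc 1),(.ofNat 2),(.negSucc 0),(.ofNat 0),(.negSucc 0)] .nil .nil)) (.node [(.ofNat 1),(.negSucc 0),(.ofNat 0),(.negSucc 0),(.ofNat 2),(.negSucc 0),(.ofNat 0),(.ofNat 1)] .nil (.node [(.ofNat 0),(.negSucc 0),(.ofNat 0),(.ofNat 0),(.ofNat 0),(.ofNat 2),(.negSucc 1),(.ofNat 0)] .nil .nil))) (.node [(.ofNat 1),(.ofNat 0),(.ofNat 0),(.ofNat 1),(.negSucc 0),(.negSucc 0),(.ofNat 1),(.negSucc 0)] (.node [] .nil (.node [(.ofNat 1),(.ofNat 0),(.ofNat 0),(.negSucc 0),(.ofNat 2),(.negSucc 1),(.ofNat 1),(.negSucc 0)] .nil .nil)) (.node [(.ofNat 1),(.ofNat 2),(.ofNat 1),(.negSucc 1),(.ofNat 0),(.ofNat 0),(.ofNat 0),(.ofNat 0)] .nil (.node [(.ofNat 0),(.ofNat 0),(.ofNat 0),(.negSucc 0),(.ofNat 1),(.ofNat 0),(.ofNat 1),(.negSucc 1)] .nil .nil)))))) (.node [(.ofNat 0),(.negSucc 0),(.negSucc 0),(.ofNat 1),(.ofNat 0),(.ofNat 0),(.ofNat 1),(.ofNat 0)] (.node [] (.node [] (.node [] (.node [] (.node [] .nil (.node [(.negSucc 0),(.ofNat 1),(.ofNat 0),(.ofNat 0),(.ofNat 0),(.negSucc 0),(.ofNat 0),(.ofNat 1)] .nil .nil)) (.node [(.ofNat 0),(.ofNat 1),(.ofNat 1),(.negSucc 1),(.ofNat 1),(.ofNat 0),(.negSucc 0),(.ofNat 2)] .nil .nil)) (.node [(.ofNat 0),(.ofNat 0),(.ofNat 1),(.negSucc 1),(.ofNat 2),(.ofNat 0),(.ofNat 0),(.negSucc 0)] .nil (.node [(.ofNat 2),(.ofNat 1),(.negSucc 0),(.negSucc 0),(.ofNat 1),(.negSucc 0),(.ofNat 1),(.negSucc 0)] .nil .nil))) (.node [(.negSucc 0),(.ofNat 1),(.ofNat 0),(.ofNat 0),(.ofNat 0),(.ofNat 1),(.negSucc 0),(.negSucc 0)] (.node [] .nil (.node [(.ofNat 2),(.ofNat 1),(.ofNat 0),(.negSucc 0),(.ofNat 0),(.ofNat 0),(.ofNat 0),(.negSucc 0)] .nil .nil)) (.node [(.negSucc 0),(.negSucc 0),(.ofNat 1),(.ofNat 1),(.negSucc 1),(.ofNat 1),(.ofNat 0),(.ofNat 1)] .nil (.node [(.negSucc 0),(.negSucc 0),(.ofNat 1),(.negSucc 0),(.ofNat 1),(.ofNat 0),(.ofNat 1),(.negSucc 0)] .nil .nil)))) (.node [(.ofNat 1),(.negSucc 0),(.negSucc 0),(.ofNat 1),(.negSucc 0),(.ofNat 1),(.ofNat 0),(.ofNat 1)] (.node [] (.node [] .nil (.node [(.ofNat 0),(.ofNat 1),(.ofNat 1),(.negSucc 0),(.negSucc 0),(.ofNat 1),(.ofNat 1),(.negSucc 1)] .nil .nil)) (.node [(.negSucc 0),(.negSucc 0),(.negSucc 0),(.ofNat 2),(.ofNat 0),(.negSucc 0),(.ofNat 1),(.negSucc 0)] .nil (.node [(.ofNat 0),(.negSucc 0),(.ofNat 0),(.ofNat 1),(.ofNat 0),(.ofNat 0),(.negSucc 1),(.ofNat 1)] .nil .nil))) (.node [(.ofNat 0),(.ofNat 1),(.ofNat 0),(.negSucc 0),(.ofNat 0),(.ofNat 1),(.negSucc 0),(.ofNat 2)] (.node [] .nil (.node [(.negSucc 0),(.ofNat 2),(.ofNat 1),(.negSucc 0),(.ofNat 0),(.negSucc 0),(.ofNat 0),(.ofNat 1)] .nil .nil)) (.node [(.negSucc 0),(.ofNat 1),(.ofNat 1),(.ofNat 0),(.negSucc 0),(.ofNat 0),(.ofNat 1),(.negSucc 1)] .nil (.node [(.negSucc 0),(.ofNat 0),(.ofNat 2),(.negSucc 0),(.negSucc 0),(.ofNat 1),(.ofNat 0),(.ofNat 0)] .nil .nil))))) (.node [(.ofNat 0),(.ofNat 1),(.negSucc 0),(.ofNat 1),(.ofNat 0),(.negSucc 0),(.ofNat 0),(.ofNat 0)] (.node [] (.node [] (.node [] .nil (.node [(.ofNat 0),(.ofNat 1),(.ofNat 1),(.negSucc 1),(.ofNat 1),(.ofNat 0),(.ofNat 1),(.negSucc 1)] .nil .nil)) (.node [(.ofNat 0),(.ofNat 1),(.ofNat 0),(.ofNat 1),(.negSucc 1),(.ofNat 0),(.ofNat 1),(.negSucc 0)] .nil (.node [(.ofNat 0),(.ofNat 2),(.ofNat 1),(.negSucc 1),(.ofNat 0),(.ofNat 0),(.ofNat 0),(.ofNat 1)] .nil .nil))) (.node [(.negSucc 0),(.negSucc 1),(.ofNat 1),(.ofNat 1),(.ofNat 0),(.negSucc 0),(.ofNat 1),(.ofNat 0)] (.node [] .nil (.node [(.negSucc 0),(.ofNat 0),(.ofNat 1),(.ofNat 0),(.ofNat 0),(.negSucc 1),(.ofNat 2),(.ofNat 0)] .nil .nil)) (.node [(.negSucc 0),(.ofNat 1),(.ofNat 1),(.ofNat 0),(.negSucc 0),(.ofNat 0),(.negSucc 0),(.ofNat 2)] .nil (.node [(.ofNat 0),(.ofNat 1),(.negSucc 0),(.negSucc 0),(.ofNat 2),(.negSucc 0),(.ofNat 0),(.ofNat 0)] .nil .nil)))) (.node [(.negSucc 0),(.ofNat 1),(.ofNat 0),(.ofNat 0),(.ofNat 0),(.ofNat 0),(.negSucc 0),(.ofNat 2)] (.node [] (.node [] .nil (.node [(.ofNat 0),(.negSucc 0),(.ofNat 1),(.ofNat 0),(.negSucc 0),(.ofNat 1),(.ofNat 1),(.negSucc 1)] .nil .nil)) (.node [(.ofNat 0),(.ofNat 1),(.negSucc 0),(.negSucc 0),(.ofNat 1),(.ofNat 1),(.ofNat 0),(.negSucc 0)] .nil (.node [(.ofNat 1),(.ofNat 1),(.negSucc 1),(.ofNat 1),(.ofNat 0),(.negSucc 0),(.ofNat 0),(.ofNat 0)] .nil .nil))) (.node [(.ofNat 1),(.ofNat 1),(.ofNat 1),(.negSucc 0),(.ofNat 0),(.negSucc 0),(.ofNat 1),(.negSucc 0)] (.node [] .nil (.node [(.ofNat 1),(.negSucc 0),(.negSucc 1),(.ofNat 1),(.ofNat 0),(.ofNat 0),(.ofNat 1),(.ofNat 0)] .nil .nil)) (.node [(.ofNat 0),(.negSucc 0),(.ofNat 1),(.negSucc 0),(.ofNat 0),(.ofNat 1),(.ofNat 0),(.ofNat 1)] .nil (.node [(.ofNat 0),(.ofNat 0),(.ofNat 0),(.ofNat 1),(.negSucc 1),(.ofNat 1),(.negSucc 0),(.ofNat 1)] .nil .nil)))))))))) (.node [(.ofNat 0),(.ofNat 0),(.negSucc 0),(.ofNat 1),(.ofNat 0),(.ofNat 0),(.ofNat 0),(.ofNat 0)] (.node [] (.node [] (.node [] (.node [] (.node [] (.node [] (.node [] (.node [] (.node [] .nil (.node [(.ofNat 1),(.negSucc 0),(.negSucc 0),(.ofNat 0),(.ofNat 0),(.ofNat 1),(.ofNat 0),(.ofNat 0)] .nil .nil)) (.node [(.ofNat 0),(.ofNat 0),(.ofNat 0),(.ofNat 1),(.negSucc 1),(.ofNat 0),(.ofNat 1),(.ofNat 1)] .nil .nil)) (.node [(.ofNat 1),(.negSucc 0),(.ofNat 1),(.ofNat 0),(.ofNat 0),(.negSucc 0),(.ofNat 0),(.ofNat 1)] .nil (.node [(.negSucc 0),(.ofNat 1),(.ofNat 2),(.negSucc 1),(.ofNat 0),(.ofNat 1),(.ofNat 0),(.negSucc 0)] .nil .nil))) (.node [(.ofNat 0),(.ofNat 1),(.ofNat 1),(.ofNat 0),(.negSucc 0),(.ofNat 0),(.negSucc 0),(.ofNat 1)] (.node [] .nil (.node [(.negSucc 1),(.ofNat 1),(.ofNat 2),(.negSucc 0),(.ofNat 0),(.negSucc 0),(.ofNat 1),(.ofNat 0)] .nil .nil)) (.node [(.ofNat 0),(.ofNat 1),(.negSucc 0),(.negSucc 0),(.ofNat 2),(.negSucc 0),(.ofNat 0),(.ofNat 1)] .nil (.node [(.negSucc 0),(.negSucc 1),(.ofNat 0),(.ofNat 1),(.ofNat 0),(.ofNat 0),(.ofNat 0),(.ofNat 1)] .nil .nil)))) (.node [(.ofNat 1),(.ofNat 0),(.ofNat 1),(.negSucc 0),(.ofNat 1),(.negSucc 0),(.ofNat 0),(.ofNat 0)] (.node [] (.node [] .nil (.node [(.ofNat 0),(.ofNat 0),(.ofNat 0),(.ofNat 1),(.negSucc 0),(.negSucc 0),(.ofNat 0),(.ofNat 2)] .nil .nil)) (.node [(.ofNat 0),(.ofNat 0),(.ofNat 1),(.negSucc 0),(.ofNat 0),(.ofNat 0),(.ofNat 0),(.ofNat 2)] .nil (.node [(.ofNat 0),(.ofNat 1),(.ofNat 0),(.ofNat 0),(.ofNat 0),(.negSucc 0),(.negSucc 0),(.ofNat 2)] .nil .nil))) (.node [(.ofNat 1),(.ofNat 0),(.ofNat 0),(.ofNat 1),(.negSucc 1),(.ofNat 1),(.negSucc 0),(.ofNat 1)] (.node [] .nil (.node [(.ofNat 0),(.ofNat 2),(.negSucc 0),(.negSucc 0),(.ofNat 1),(.ofNat 0),(.negSucc 0),(.ofNat 1)] .nil .nil)) (.node [(.ofNat 0),(.ofNat 0),(.ofNat 0),(.negSucc 0),(.ofNat 0),(.ofNat 2),(.negSucc 0),(.ofNat 1)] .nil (.node [(.negSucc 0),(.ofNat 1),(.ofNat 1),(.negSucc 0),(.ofNat 0),(.ofNat 1),(.negSucc 1),(.ofNat 1)] .nil .nil))))) (.node [(.ofNat 0),(.ofNat 1),(.negSucc 0),(.ofNat 0),(.ofNat 0),(.ofNat 1),(.ofNat 0),(.negSucc 0)] (.node [] (.node [] (.node [] (.node [] .nil (.node [(.ofNat 1),(.ofNat 1),(.negSucc 0),(.ofNat 0),(.ofNat 0),(.ofNat 0),(.negSucc 0),(.ofNat 0)] .nil .nil)) (.node [(.ofNat 0),(.ofNat 0),(.ofNat 0),(.ofNat 1),(.negSucc 1),(.ofNat 1),(.negSucc 0),(.ofNat 2)] .nil .nil)) (.node [(.ofNat 0),(.ofNat 0),(.negSucc 0),(.ofNat 2),(.negSucc 0),(.negSucc 0),(.ofNat 1),(.negSucc 0)] .nil (.node [(.negSucc 1),(.ofNat 1),(.ofNat 1),(.negSucc 0),(.ofNat 1),(.negSucc 0),(.ofNat 0),(.ofNat 1)] .nil .nil))) (.node [(.ofNat 0),(.ofNat 0),(.negSucc 0),(.ofNat 0),(.ofNat 1),(.negSucc 0),(.ofNat 1),(.ofNat 1)] (.node [] .nil (.node [(.ofNat 0),(.ofNat 0),(.negSucc 0),(.negSucc 0),(.ofNat 2),(.ofNat 0),(.ofNat 0),(.ofNat 0)] .nil .nil)) (.node [(.ofNat 0),(.negSucc 0),(.negSucc 0),(.ofNat 1),(.negSucc 0),(.ofNat 2),(.negSucc 0),(.ofNat 1)] .nil (.node [(.ofNat 1),(.ofNat 0),(.negSucc 0),(.ofNat 1),(.negSucc 0),(.ofNat 0),(.ofNat 1),(.negSucc 1)] .nil .nil)))) (.node [(.ofNat 0),(.negSucc 1),(.ofNat 0),(.ofNat 2),(.negSucc 0),(.ofNat 0),(.ofNat 0),(.ofNat 0)] (.node [] (.node [] .nil (.node [(.ofNat 1),(.ofNat 0),(.ofNat 1),(.ofNat 0),(.negSucc 0),(.ofNat 0),(.ofNat 0),(.negSucc 0)] .nil .nil)) (.node [(.ofNat 2),(.ofNat 0),(.ofNat 0),(.negSucc 0),(.ofNat 1),(.ofNat 0),(.negSucc 0),(.ofNat 0)] .nil (.node [(.ofNat 0),(.ofNat 0),(.ofNat 1),(.ofNat 0),(.negSucc 0),(.negSucc 0),(.ofNat 1),(.ofNat 1)] .nil .nil))) (.node [(.ofNat 2),(.negSucc 0),(.negSucc 0),(.ofNat 0),(.ofNat 1),(.ofNat 0),(.negSucc 0),(.ofNat 1)] (.node [] .nil (.node [(.ofNat 0),(.negSucc 1),(.negSucc 0),(.ofNat 2),(.negSucc 0),(.ofNat 0),(.ofNat 1),(.ofNat 0)] .nil .nil)) (.node [(.ofNat 0),(.ofNat 0),(.ofNat 0),(.negSucc 0),(.ofNat 2),(.negSucc 1),(.ofNat 1),(.ofNat 1)] .nil (.node [(.ofNat 0),(.negSucc 1),(.ofNat 0),(.ofNat 0),(.ofNat 1),(.ofNat 0),(.ofNat 0),(.ofNat 0)] .nil .nil)))))) (.node [(.negSucc 0),(.ofNat 0),(.ofNat 0),(.ofNat 0),(.ofNat 1),(.ofNat 0),(.ofNat 0),(.negSucc 0)] (.node [] (.node [] (.node [] (.node [] (.node [] .nil (.node [(.ofNat 1),(.negSucc 0),(.negSucc 0),(.ofNat 1),(.negSucc 0),(.ofNat 0),(.ofNat 1),(.ofNat 0)] .nil .nil)) (.node [(.ofNat 0),(.ofNat 1),(.negSucc 0),(.ofNat 1),(.ofNat 0),(.negSucc 0),(.negSucc 0),(.ofNat 1)] .nil .nil)) (.node [(.negSucc 1),(.ofNat 1),(.ofNat 1),(.ofNat 0),(.ofNat 0),(.negSucc 0),(.ofNat 0),(.ofNat 1)] .nil (.node [(.ofNat 0),(.ofNat 2),(.negSucc 0),(.ofNat 0),(.ofNat 0),(.negSucc 0),(.ofNat 1),(.negSucc 0)] .nil .nil))) (.node [(.ofNat 0),(.negSucc 0),(.ofNat 1),(.ofNat 1),(.negSucc 0),(.ofNat 0),(.negSucc 0),(.ofNat 1)] (.node [] .nil (.node [(.negSucc 1),(.ofNat 0),(.ofNat 0),(.ofNat 0),(.ofNat 0),(.ofNat 1),(.ofNat 0),(.ofNat 0)] .nil .nil)) (.node [(.ofNat 0),(.negSucc 0),(.ofNat 2),(.negSucc 0),(.ofNat 0),(.ofNat 0),(.ofNat 1),(.negSucc 0)] .nil (.node [(.ofNat 1),(.ofNat 0),(.negSucc 0),(.ofNat 0),(.ofNat 1),(.negSucc 0),(.ofNat 1),(.negSucc 1)] .nil .nil)))) (.node [(.ofNat 1),(.negSucc 0),(.negSucc 0),(.ofNat 0),(.ofNat 1),(.ofNat 0),(.ofNat 0),(.ofNat 1)] (.node [] (.node [] .nil (.node [(.ofNat 0),(.ofNat 2),(.ofNat 0),(.ofNat 0),(.negSucc 0),(.ofNat 0),(.negSucc 0),(.ofNat 1)] .nil .nil)) (.node [(.ofNat 1),(.ofNat 1),(.ofNat 0),(.negSucc 1),(.ofNat 2),(.negSucc 0),(.ofNat 0),(.ofNat 1)] .nil (.node [(.negSucc 0),(.ofNat 1),(.negSucc 0),(.ofNat 0),(.ofNat 1),(.negSucc 0),(.ofNat 1),(.negSucc 0)] .nil .nil))) (.node [(.ofNat 1),(.negSucc 0),(.ofNat 1),(.ofNat 0),(.negSucc 0),(.ofNat 0),(.ofNat 1),(.ofNat 0)] (.node [] .nil (.node [(.negSucc 0),(.negSucc 0),(.ofNat 0),(.ofNat 1),(.ofNat 1),(.negSucc 1),(.ofNat 0),(.ofNat 1)] .nil .nil)) (.node [(.negSucc 0),(.ofNat 0),(.ofNat 2),(.negSucc 1),(.ofNat 1),(.ofNat 1),(.negSucc 0),(.ofNat 0)] .nil (.node [(.ofNat 0),(.ofNat 1),(.negSucc 0),(.ofNat 0),(.ofNat 0),(.ofNat 1),(.negSucc 1),(.ofNat 1)] .nil .nil))))) (.node [(.ofNat 0),(.ofNat 2),(.ofNat 0),(.negSucc 0),(.ofNat 0),(.ofNat 0),(.ofNat 0),(.ofNat 1)] (.node [] (.node [] (.node [] (.node [] .nil (.node [(.ofNat 0),(.ofNat 0),(.negSucc 0),(.ofNat 1),(.negSucc 0),(.ofNat 1),(.negSucc 0),(.ofNat 0)] .nil .nil)) (.node [(.ofNat 0),(.ofNat 1),(.negSucc 0),(.ofNat 1),(.ofNat 0),(.negSucc 0),(.ofNat 0),(.negSucc 0)] .nil .nil)) (.node [(.negSucc 0),(.ofNat 1),(.ofNat 2),(.negSucc 0),(.ofNat 0),(.ofNat 0),(.negSucc 0),(.ofNat 0)] .nil (.node [(.ofNat 1),(.ofNat 0),(.negSucc 0),(.negSucc 0),(.ofNat 1),(.ofNat 1),(.negSucc 0),(.ofNat 1)] .nil .nil))) (.node [(.ofNat 0),(.ofNat 0),(.negSucc 0),(.ofNat 0),(.ofNat 1),(.negSucc 0),(.ofNat 2),(.negSucc 0)] (.node [] .nil (.node [(.ofNat 1),(.ofNat 1),(.negSucc 0),(.ofNat 0),(.ofNat 1),(.negSucc 1),(.ofNat 1),(.negSucc 0)] .nil .nil)) (.node [(.negSucc 1),(.ofNat 1),(.ofNat 0),(.ofNat 0),(.ofNat 0),(.ofNat 0),(.ofNat 1),(.negSucc 0)] .nil (.node [(.negSucc 0),(.negSucc 0),(.ofNat 1),(.ofNat 0),(.negSucc 0),(.ofNat 1),(.ofNat 1),(.negSucc 0)] .nil .nil)))) (.node [(.ofNat 1),(.ofNat 1),(.negSucc 0),(.ofNat 1),(.negSucc 1),(.ofNat 1),(.ofNat 0),(.ofNat 0)] (.node [] (.node [] .nil (.node [(.ofNat 0),(.negSucc 1),(.ofNat 0),(.ofNat 2),(.negSucc 0),(.ofNat 0),(.negSucc 0),(.ofNat 1)] .nil .nil)) (.node [(.ofNat 1),(.ofNat 1),(.ofNat 0),(.negSucc 0),(.ofNat 0),(.ofNat 1),(.negSucc 1),(.ofNat 2)] .nil (.node [(.negSucc 0),(.negSucc 0),(.negSucc 0),(.ofNat 1),(.ofNat 1),(.ofNat 0),(.negSucc 0),(.ofNat 0)] .nil .nil))) (.node [(.ofNat 0),(.ofNat 0),(.negSucc 0),(.ofNat 1),(.negSucc 0),(.ofNat 2),(.negSucc 0),(.negSucc 0)] (.node [] .nil (.node [(.ofNat 0),(.ofNat 0),(.negSucc 0),(.ofNat 0),(.ofNat 0),(.ofNat 1),(.ofNat 1),(.negSucc 1)] .nil .nil)) (.node [(.negSucc 0),(.ofNat 1),(.ofNat 1),(.ofNat 0),(.ofNat 0),(.negSucc 0),(.negSucc 0),(.ofNat 1)] .nil (.node [(.ofNat 1),(.ofNat 0),(.ofNat 1),(.negSucc 0),(.ofNat 0),(.ofNat 0),(.ofNat 0),(.negSucc 0)] .nil .nil))))))) (.node [(.ofNat 1),(.ofNat 0),(.negSucc 0),(.ofNat 0),(.ofNat 1),(.negSucc 0),(.ofNat 1),(.ofNat 0)] (.node [] (.node [] (.node [] (.node [] (.node [] (.node [] .nil (.node [(.ofNat 1),(.negSucc 0),(.negSucc 0),(.ofNat 0),(.ofNat 1),(.negSucc 0),(.ofNat 1),(.ofNat 0)] .nil .nil)) (.node [(.negSucc 1),(.ofNat 0),(.ofNat 1),(.ofNat 0),(.ofNat 0),(.negSucc 0),(.ofNat 1),(.ofNat 1)] .nil .nil)) (.node [(.ofNat 0),(.ofNat 1),(.ofNat 0),(.ofNat 0),(.ofNat 0),(.ofNat 0),(.ofNat 0),(.negSucc 1)] .nil (.node [(.ofNat 0),(.ofNat 0),(.negSucc 0),(.ofNat 0),(.ofNat 0),(.ofNat 2),(.negSucc 0),(.negSucc 0)] .nil .nil))) (.node [(.ofNat 1),(.negSucc 0),(.negSucc 0),(.ofNat 1),(.ofNat 0),(.ofNat 1),(.negSucc 1),(.ofNat 1)] (.node [] .nil (.node [(.negSucc 0),(.ofNat 0),(.negSucc 0),(.ofNat 1),(.ofNat 1),(.negSucc 0),(.ofNat 0),(.negSucc 0)] .nil .nil)) (.node [(.ofNat 1),(.negSucc 0),(.ofNat 0),(.negSucc 0),(.ofNat 2),(.negSucc 0),(.ofNat 1),(.negSucc 0)] .nil (.node [(.ofNat 1),(.negSucc 0),(.ofNat 0),(.negSucc 0),(.ofNat 1),(.ofNat 0),(.ofNat 1),(.negSucc 0)] .nil .nil)))) (.node [(.ofNat 0),(.negSucc 0),(.negSucc 0),(.ofNat 2),(.ofNat 0),(.negSucc 0),(.ofNat 0),(.ofNat 0)] (.node [] (.node [] .nil (.node [(.ofNat 1),(.negSucc 1),(.negSucc 1),(.ofNat 2),(.ofNat 0),(.ofNat 0),(.ofNat 0),(.ofNat 0)] .nil .nil)) (.node [(.negSucc 0),(.ofNat 0),(.ofNat 0),(.ofNat 1),(.negSucc 1),(.ofNat 2),(.negSucc 0),(.ofNat 1)] .nil (.node [(.ofNat 1),(.ofNat 0),(.negSucc 0),(.negSucc 0),(.ofNat 2),(.negSucc 0),(.ofNat 0),(.ofNat 1)] .nil .nil))) (.node [(.ofNat 2),(.ofNat 0),(.negSucc 1),(.ofNat 1),(.ofNat 0),(.ofNat 0),(.ofNat 0),(.negSucc 0)] (.node [] .nil (.node [(.ofNat 1),(.ofNat 1),(.ofNat 1),(.negSucc 1),(.ofNat 0),(.ofNat 1),(.negSucc 0),(.ofNat 1)] .nil .nil)) (.node [(.ofNat 1),(.ofNat 1),(.ofNat 0),(.negSucc 0),(.ofNat 1),(.ofNat 0),(.negSucc 0),(.negSucc 0)] .nil (.node [(.negSucc 0),(.ofNat 0),(.ofNat 0),(.ofNat 1),(.ofNat 0),(.negSucc 0),(.ofNat 0),(.negSucc 0)] .nil .nil))))) (.node [(.ofNat 0),(.ofNat 1),(.negSucc 0),(.ofNat 1),(.negSucc 0),(.ofNat 0),(.ofNat 0),(.ofNat 1)] (.node [] (.node [] (.node [] (.node [] .nil (.node [(.negSucc 0),(.ofNat 0),(.ofNat 1),(.negSucc 0),(.ofNat 1),(.negSucc 0),(.ofNat 1),(.negSucc 0)] .nil .nil)) (.node [(.ofNat 2),(.ofNat 1),(.ofNat 0),(.negSucc 1),(.ofNat 1),(.ofNat 0),(.ofNat 0),(.ofNat 0)] .nil .nil)) (.node [(.negSucc 0),(.negSucc 0),(.negSucc 0),(.ofNat 1),(.ofNat 1),(.ofNat 0),(.ofNat 0),(.negSucc 0)] .nil (.node [(.ofNat 0),(.ofNat 1),(.ofNat 0),(.negSucc 0),(.ofNat 1),(.ofNat 0),(.ofNat 0),(.negSucc 1)] .nil .nil))) (.node [(.ofNat 0),(.ofNat 2),(.negSucc 0),(.ofNat 0),(.negSucc 0),(.ofNat 1),(.ofNat 0),(.ofNat 0)] (.node [] .nil (.node [(.negSucc 0),(.ofNat 1),(.ofNat 0),(.ofNat 1),(.negSucc 1),(.ofNat 1),(.negSucc 0),(.ofNat 1)] .nil .nil)) (.node [(.ofNat 1),(.negSucc 0),(.ofNat 0),(.ofNat 0),(.ofNat 1),(.negSucc 1),(.ofNat 2),(.negSucc 0)] .nil (.node [(.ofNat 1),(.ofNat 0),(.negSucc 0),(.ofNat 1),(.ofNat 0),(.negSucc 0),(.negSucc 0),(.ofNat 1)] .nil .nil)))) (.node [(.negSucc 0),(.negSucc 0),(.ofNat 0),(.ofNat 0),(.ofNat 1),(.ofNat 0),(.ofNat 1),(.negSucc 0)] (.node [] (.node [] .nil (.node [(.ofNat 1),(.ofNat 2),(.ofNat 0),(.negSucc 1),(.ofNat 1),(.negSucc 0),(.ofNat 1),(.ofNat 0)] .nil .nil)) (.node [(.negSucc 0),(.ofNat 0),(.ofNat 0),(.ofNat 0),(.ofNat 1),(.ofNat 0),(.ofNat 0),(.negSucc 1)] .nil (.node [(.negSucc 0),(.ofNat 1),(.negSucc 0),(.ofNat 1),(.negSucc 0),(.ofNat 0),(.ofNat 1),(.negSucc 0)] .nil .nil))) (.node [(.ofNat 1),(.negSucc 0),(.negSucc 1),(.ofNat 1),(.ofNat 1),(.negSucc 0),(.ofNat 1),(.ofNat 0)] (.node [] .nil (.node [(.ofNat 0),(.negSucc 0),(.ofNat 1),(.ofNat 1),(.negSucc 0),(.ofNat 0),(.negSucc 0),(.ofNat 0)] .nil .nil)) (.node [(.ofNat 1),(.ofNat 0),(.ofNat 1),(.negSucc 0),(.ofNat 0),(.ofNat 0),(.negSucc 0),(.ofNat 2)] .nil (.node [(.negSucc 0),(.ofNat 0),(.ofNat 2),(.negSucc 0),(.ofNat 0),(.negSucc 0),(.ofNat 1),(.ofNat 0)] .nil .nil)))))) (.node [(.ofNat 1),(.ofNat 0),(.negSucc 0),(.ofNat 1),(.ofNat 0),(.ofNat 0),(.negSucc 0),(.ofNat 0)] (.node [] (.node [] (.node [] (.node [] (.node [] .nil (.node [(.ofNat 1),(.ofNat 0),(.ofNat 0),(.negSucc 0),(.ofNat 0),(.ofNat 0),(.ofNat 1),(.ofNat 0)] .nil .nil)) (.node [(.ofNat 0),(.negSucc 0),(.negSucc 0),(.ofNat 1),(.ofNat 1),(.ofNat 0),(.negSucc 0),(.negSucc 0)] .nil .nil)) (.node [(.ofNat 1),(.negSucc 0),(.ofNat 1),(.ofNat 0),(.ofNat 0),(.negSucc 0),(.ofNat 1),(.negSucc 0)] .nil (.node [(.ofNat 0),(.ofNat 0),(.ofNat 1),(.negSucc 0),(.negSucc 0),(.ofNat 1),(.ofNat 1),(.ofNat 0)] .nil .nil))) (.node [(.negSucc 0),(.ofNat 0),(.ofNat 1),(.negSucc 0),(.ofNat 0),(.ofNat 2),(.negSucc 0),(.ofNat 0)] (.node [] .nil (.node [(.ofNat 1),(.ofNat 1),(.negSucc 0),(.ofNat 0),(.ofNat 0),(.negSucc 0),(.ofNat 2),(.negSucc 1)] .nil .nil)) (.node [(.negSucc 0),(.ofNat 1),(.ofNat 1),(.ofNat 0),(.negSucc 1),(.ofNat 1),(.ofNat 1),(.negSucc 0)] .nil (.node [(.ofNat 1),(.ofNat 1),(.ofNat 0),(.negSucc 1),(.ofNat 2),(.negSucc 0),(.ofNat 0),(.ofNat 0)] .nil .nil)))) (.node [(.ofNat 2),(.ofNat 0),(.negSucc 0),(.ofNat 1),(.negSucc 0),(.ofNat 0),(.ofNat 0),(.ofNat 0)] (.node [] (.node [] .nil (.node [(.ofNat 0),(.ofNat 0),(.ofNat 0),(.ofNat 1),(.negSucc 1),(.ofNat 2),(.negSucc 0),(.negSucc 0)] .nil .nil)) (.node [(.ofNat 0),(.negSucc 0),(.ofNat 0),(.ofNat 0),(.ofNat 2),(.negSucc 0),(.negSucc 0),(.ofNat 0)] .nil (.node [(.ofNat 0),(.ofNat 0),(.ofNat 1),(.negSucc 1),(.ofNat 2),(.ofNat 0),(.negSucc 0),(.ofNat 0)] .nil .nil))) (.node [(.negSucc 0),(.ofNat 0),(.ofNat 1),(.ofNat 0),(.negSucc 0),(.ofNat 2),(.negSucc 0),(.negSucc 0)] (.node [] .nil (.node [(.ofNat 0),(.ofNat 1),(.ofNat 0),(.negSucc 1),(.ofNat 2),(.negSucc 0),(.ofNat 1),(.ofNat 0)] .nil .nil)) (.node [(.ofNat 0),(.negSucc 0),(.negSucc 0),(.ofNat 1),(.ofNat 1),(.negSucc 1),(.ofNat 2),(.negSucc 0)] .nil (.node [(.ofNat 0),(.ofNat 1),(.negSucc 0),(.ofNat 0),(.ofNat 1),(.negSucc 0),(.negSucc 0),(.ofNat 1)] .nil .nil))))) (.node [(.ofNat 0),(.ofNat 0),(.ofNat 0),(.negSucc 0),(.ofNat 2),(.negSucc 0),(.ofNat 1),(.negSucc 0)] (.node [] (.node [] (.node [] .nil (.node [(.ofNat 0),(.negSucc 1),(.ofNat 0),(.ofNat 1),(.ofNat 0),(.ofNat 1),(.negSucc 1),(.ofNat 1)] .nil .nil)) (.node [(.ofNat 0),(.ofNat 0),(.ofNat 1),(.ofNat 0),(.negSucc 1),(.ofNat 2),(.ofNat 0),(.negSucc 0)] .nil (.node [(.ofNat 2),(.ofNat 1),(.negSucc 0),(.ofNat 0),(.negSucc 0),(.ofNat 0),(.ofNat 1),(.negSucc 0)] .nil .nil))) (.node [(.negSucc 0),(.ofNat 1),(.ofNat 2),(.negSucc 1),(.ofNat 1),(.negSucc 0),(.ofNat 1),(.ofNat 0)] (.node [] .nil (.node [(.ofNat 1),(.ofNat 0),(.ofNat 0),(.negSucc 0),(.ofNat 1),(.negSucc 0),(.ofNat 0),(.ofNat 2)] .nil .nil)) (.node [(.ofNat 0),(.ofNat 2),(.ofNat 0),(.negSucc 1),(.ofNat 1),(.ofNat 0),(.ofNat 1),(.negSucc 0)] .nil (.node [(.ofNat 2),(.ofNat 1),(.negSucc 1),(.ofNat 0),(.ofNat 0),(.ofNat 0),(.ofNat 0),(.ofNat 0)] .nil .nil)))) (.node [(.ofNat 1),(.ofNat 0),(.ofNat 0),(.negSucc 0),(.ofNat 0),(.ofNat 1),(.ofNat 1),(.negSucc 0)] (.node [] (.node [] .nil (.node [(.negSucc 0),(.ofNat 1),(.ofNat 0),(.negSucc 0),(.ofNat 1),(.ofNat 0),(.ofNat 1),(.negSucc 1)] .nil .nil)) (.node [(.negSucc 0),(.ofNat 2),(.ofNat 0),(.negSucc 0),(.ofNat 1),(.ofNat 0),(.negSucc 0),(.ofNat 0)] .nil (.node [(.negSucc 0),(.ofNat 0),(.ofNat 0),(.ofNat 1),(.negSucc 1),(.ofNat 1),(.ofNat 0),(.ofNat 1)] .nil .nil))) (.node [(.ofNat 2),(.ofNat 1),(.negSucc 0),(.ofNat 0),(.ofNat 0),(.negSucc 0),(.ofNat 0),(.ofNat 1)] (.node [] .nil (.node [(.ofNat 1),(.negSucc 1),(.ofNat 0),(.ofNat 1),(.ofNat 0),(.negSucc 0),(.ofNat 1),(.negSucc 0)] .nil .nil)) (.node [(.ofNat 0),(.negSucc 0),(.negSucc 0),(.ofNat 1),(.ofNat 1),(.ofNat 0),(.negSucc 1),(.ofNat 1)] .nil (.node [(.ofNat 0),(.ofNat 0),(.ofNat 0),(.ofNat 0),(.negSucc 0),(.ofNat 1),(.ofNat 1),(.negSucc 1)] .nil .nil)))))))) (.node [(.ofNat 0),(.ofNat 0),(.ofNat 1),(.negSucc 0),(.ofNat 0),(.ofNat 1),(.ofNat 0),(.ofNat 0)] (.node [] (.node [] (.node [] (.node [] (.node [] (.node [] (.node [] .nil (.node [(.ofNat 0),(.ofNat 0),(.ofNat 0),(.ofNat 1),(.negSucc 1),(.ofNat 1),(.ofNat 0),(.negSucc 0)] .nil .nil)) (.node [(.ofNat 1),(.negSucc 0),(.ofNat 0),(.ofNat 1),(.ofNat 0),(.negSucc 0),(.negSucc 0),(.ofNat 1)] .nil .nil)) (.node [(.ofNat 0),(.ofNat 0),(.ofNat 1),(.negSucc 0),(.ofNat 1),(.negSucc 1),(.ofNat 2),(.ofNat 0)] .nil (.node [(.negSucc 1),(.ofNat 1),(.ofNat 1),(.negSucc 0),(.ofNat 0),(.ofNat 1),(.negSucc 0),(.ofNat 1)] .nil .nil))) (.node [(.negSucc 0),(.negSucc 0),(.ofNat 0),(.ofNat 1),(.negSucc 0),(.ofNat 2),(.negSucc 0),(.ofNat 0)] (.node [] .nil (.node [(.ofNat 1),(.ofNat 0),(.negSucc 1),(.ofNat 2),(.negSucc 0),(.ofNat 0),(.ofNat 0),(.negSucc 0)] .nil .nil)) (.node [(.ofNat 0),(.negSucc 0),(.negSucc 0),(.ofNat 1),(.negSucc 0),(.ofNat 1),(.ofNat 1),(.ofNat 0)] .nil (.node [(.ofNat 1),(.negSucc 0),(.negSucc 1),(.ofNat 2),(.ofNat 0),(.negSucc 0),(.ofNat 0),(.ofNat 0)] .nil .nil)))) (.node [(.ofNat 0),(.negSucc 0),(.ofNat 1),(.negSucc 0),(.ofNat 1),(.ofNat 0),(.ofNat 0),(.ofNat 1)] (.node [] (.node [] .nil (.node [(.negSucc 1),(.ofNat 0),(.ofNat 1),(.ofNat 0),(.ofNat 1),(.negSucc 1),(.ofNat 1),(.ofNat 0)] .nil .nil)) (.node [(.ofNat 2),(.negSucc 0),(.negSucc 0),(.ofNat 1),(.ofNat 0),(.ofNat 0),(.negSucc 0),(.ofNat 0)] .nil (.node [(.ofNat 1),(.ofNat 0),(.negSucc 0),(.negSucc 0),(.ofNat 1),(.ofNat 1),(.ofNat 0),(.negSucc 0)] .nil .nil))) (.node [(.ofNat 1),(.ofNat 0),(.ofNat 0),(.ofNat 0),(.ofNat 1),(.negSucc 1),(.ofNat 0),(.ofNat 1)] (.node [] .nil (.node [(.ofNat 0),(.negSucc 0),(.ofNat 0),(.negSucc 0),(.ofNat 1),(.ofNat 1),(.ofNat 0),(.ofNat 0)] .nil .nil)) (.node [(.ofNat 1),(.ofNat 0),(.ofNat 1),(.negSucc 1),(.ofNat 1),(.ofNat 1),(.negSucc 0),(.ofNat 0)] .nil (.node [(.ofNat 0),(.ofNat 1),(.negSucc 0),(.ofNat 0),(.ofNat 0),(.ofNat 0),(.negSucc 0),(.ofNat 2)] .nil .nil))))) (.node [(.negSucc 0),(.ofNat 1),(.ofNat 1),(.negSucc 0),(.ofNat 1),(.ofNat 0),(.negSucc 0),(.ofNat 0)] (.node [] (.node [] (.node [] (.node [] .nil (.node [(.ofNat 1),(.ofNat 0),(.ofNat 0),(.negSucc 0),(.ofNat 1),(.negSucc 0),(.ofNat 1),(.negSucc 0)] .nil .nil)) (.node [(.negSucc 1),(.ofNat 0),(.ofNat 1),(.ofNat 0),(.negSucc 0),(.ofNat 2),(.negSucc 0),(.ofNat 0)] .nil .nil)) (.node [(.ofNat 0),(.negSucc 0),(.ofNat 0),(.ofNat 0),(.ofNat 2),(.negSucc 1),(.ofNat 0),(.ofNat 1)] .nil (.node [(.negSucc 0),(.ofNat 0),(.ofNat 1),(.ofNat 0),(.negSucc 0),(.ofNat 2),(.negSucc 1),(.ofNat 0)] .nil .nil))) (.node [(.ofNat 1),(.ofNat 1),(.ofNat 1),(.negSucc 1),(.ofNat 1),(.negSucc 0),(.ofNat 1),(.ofNat 0)] (.node [] .nil (.node [(.negSucc 0),(.ofNat 2),(.ofNat 1),(.negSucc 0),(.negSucc 0),(.ofNat 0),(.ofNat 1),(.ofNat 0)] .nil .nil)) (.node [(.ofNat 0),(.ofNat 1),(.negSucc 0),(.ofNat 0),(.ofNat 0),(.ofNat 1),(.negSucc 1),(.ofNat 2)] .nil (.node [(.negSucc 0),(.ofNat 0),(.ofNat 0),(.ofNat 0),(.ofNat 1),(.negSucc 0),(.ofNat 1),(.negSucc 1)] .nil .nil)))) (.node [(.ofNat 0),(.ofNat 1),(.ofNat 1),(.negSucc 0),(.ofNat 1),(.negSucc 1),(.ofNat 1),(.ofNat 0)] (.node [] (.node [] .nil (.node [(.negSucc 1),(.ofNat 0),(.ofNat 1),(.ofNat 0),(.ofNat 0),(.ofNat 1),(.negSucc 0),(.negSucc 0)] .nil .nil)) (.node [(.negSucc 0),(.ofNat 1),(.ofNat 1),(.negSucc 0),(.negSucc 0),(.ofNat 2),(.negSucc 0),(.ofNat 1)] .nil (.node [(.ofNat 0),(.negSucc 0),(.ofNat 0),(.ofNat 1),(.ofNat 0),(.negSucc 0),(.ofNat 1),(.negSucc 1)] .nil .nil))) (.node [(.ofNat 1),(.negSucc 0),(.ofNat 1),(.negSucc 0),(.ofNat 1),(.ofNat 0),(.ofNat 0),(.negSucc 0)] (.node [] .nil (.node [(.ofNat 1),(.negSucc 0),(.negSucc 0),(.ofNat 2),(.negSucc 0),(.negSucc 0),(.ofNat 1),(.negSucc 0)] .nil .nil)) (.node [(.ofNat 1),(.negSucc 0),(.ofNat 0),(.ofNat 1),(.ofNat 0),(.negSucc 1),(.ofNat 1),(.ofNat 0)] .nil (.node [(.negSucc 0),(.negSucc 0),(.ofNat 1),(.ofNat 0),(.ofNat 1),(.negSucc 0),(.ofNat 0),(.negSucc 0)] .nil .nil)))))) (.node [(.negSucc 0),(.ofNat 0),(.ofNat 0),(.ofNat 1),(.negSucc 0),(.ofNat 1),(.ofNat 0),(.negSucc 0)] (.node [] (.node [] (.node [] (.node [] (.node [] .nil (.node [(.negSucc 0),(.ofNat 1),(.ofNat 0),(.negSucc 0),(.ofNat 1),(.ofNat 0),(.ofNat 0),(.negSucc 0)] .nil .nil)) (.node [(.ofNat 1),(.ofNat 1),(.negSucc 0),(.negSucc 0),(.ofNat 0),(.ofNat 1),(.ofNat 1),(.negSucc 0)] .nil .nil)) (.node [(.negSucc 1),(.ofNat 0),(.ofNat 2),(.negSucc 0),(.ofNat 0),(.ofNat 0),(.ofNat 1),(.ofNat 0)] .nil (.node [(.ofNat 0),(.negSucc 1),(.negSucc 0),(.ofNat 2),(.ofNat 0),(.negSucc 0),(.ofNat 0),(.ofNat 1)] .nil .nil))) (.node [(.negSucc 0),(.ofNat 2),(.ofNat 1),(.negSucc 0),(.negSucc 0),(.ofNat 1),(.ofNat 0),(.ofNat 0)] (.node [] .nil (.node [(.negSucc 0),(.negSucc 0),(.ofNat 0),(.ofNat 1),(.negSucc 0),(.ofNat 0),(.ofNat 2),(.negSucc 0)] .nil .nil)) (.node [(.negSucc 0),(.ofNat 0),(.ofNat 0),(.ofNat 0),(.ofNat 0),(.ofNat 0),(.ofNat 2),(.negSucc 1)] .nil (.node [(.ofNat 0),(.ofNat 2),(.ofNat 1),(.negSucc 0),(.negSucc 0),(.ofNat 0),(.ofNat 0),(.ofNat 0)] .nil .nil)))) (.node [(.ofNat 0),(.ofNat 1),(.ofNat 1),(.negSucc 1),(.ofNat 2),(.negSucc 0),(.ofNat 0),(.ofNat 0)] (.node [] (.node [] .nil (.node [(.ofNat 1),(.ofNat 1),(.negSucc 0),(.ofNat 0),(.negSucc 0),(.ofNat 0),(.ofNat 2),(.negSucc 0)] .nil .nil)) (.node [(.ofNat 0),(.ofNat 0),(.ofNat 1),(.ofNat 0),(.ofNat 0),(.negSucc 1),(.ofNat 2),(.negSucc 0)] .nil (.node [(.ofNat 0),(.ofNat 0),(.negSucc 0),(.ofNat 2),(.negSucc 1),(.ofNat 1),(.negSucc 0),(.ofNat 0)] .nil .nil))) (.node [(.ofNat 0),(.negSucc 0),(.ofNat 0),(.ofNat 1),(.negSucc 1),(.ofNat 2),(.ofNat 0),(.ofNat 0)] (.node [] .nil (.node [(.ofNat 1),(.negSucc 0),(.negSucc 0),(.ofNat 1),(.ofNat 0),(.ofNat 1),(.negSucc 1),(.ofNat 0)] .nil .nil)) (.node [(.ofNat 1),(.ofNat 0),(.negSucc 1),(.ofNat 0),(.ofNat 1),(.ofNat 0),(.ofNat 1),(.negSucc 0)] .nil (.node [(.ofNat 0),(.ofNat 0),(.ofNat 0),(.negSucc 0),(.ofNat 1),(.negSucc 0),(.ofNat 1),(.ofNat 1)] .nil .nil))))) (.node [(.ofNat 0),(.ofNat 1),(.negSucc 0),(.ofNat 1),(.negSucc 0),(.ofNat 1),(.negSucc 0),(.ofNat 0)] (.node [] (.node [] (.node [] (.node [] .nil (.node [(.ofNat 0),(.ofNat 1),(.ofNat 0),(.ofNat 0),(.negSucc 0),(.ofNat 0),(.ofNat 0),(.ofNat 0)] .nil .nil)) (.node [(.ofNat 1),(.ofNat 1),(.negSucc 0),(.negSucc 0),(.ofNat 1),(.negSucc 0),(.ofNat 2),(.negSucc 0)] .nil .nil)) (.node [(.ofNat 1),(.negSucc 0),(.negSucc 1),(.ofNat 2),(.ofNat 0),(.negSucc 0),(.ofNat 0),(.ofNat 1)] .nil (.node [(.ofNat 0),(.negSucc 0),(.ofNat 0),(.ofNat 1),(.negSucc 0),(.ofNat 1),(.negSucc 1),(.ofNat 2)] .nil .nil))) (.node [(.ofNat 2),(.ofNat 0),(.negSucc 1),(.ofNat 1),(.ofNat 0),(.ofNat 0),(.negSucc 0),(.ofNat 1)] (.node [] .nil (.node [(.ofNat 0),(.negSucc 0),(.ofNat 1),(.ofNat 0),(.ofNat 1),(.negSucc 1),(.ofNat 1),(.negSucc 0)] .nil .nil)) (.node [(.ofNat 0),(.ofNat 1),(.negSucc 0),(.negSucc 0),(.ofNat 2),(.ofNat 0),(.negSucc 0),(.ofNat 0)] .nil (.node [(.ofNat 1),(.negSucc 0),(.ofNat 0),(.ofNat 0),(.ofNat 0),(.ofNat 0),(.negSucc 0),(.ofNat 2)] .nil .nil)))) (.node [(.ofNat 1),(.ofNat 1),(.negSucc 0),(.ofNat 0),(.ofNat 1),(.negSucc 1),(.ofNat 1),(.ofNat 0)] (.node [] (.node [] .nil (.node [(.negSucc 0),(.ofNat 1),(.ofNat 0),(.ofNat 0),(.negSucc 0),(.ofNat 0),(.ofNat 2),(.negSucc 0)] .nil .nil)) (.node [(.ofNat 0),(.ofNat 1),(.ofNat 0),(.ofNat 1),(.negSucc 0),(.negSucc 0),(.ofNat 0),(.ofNat 0)] .nil (.node [(.negSucc 0),(.ofNat 0),(.ofNat 0),(.ofNat 0),(.negSucc 0),(.ofNat 2),(.ofNat 0),(.negSucc 0)] .nil .nil))) (.node [(.ofNat 0),(.ofNat 1),(.ofNat 0),(.negSucc 0),(.ofNat 1),(.negSucc 0),(.ofNat 0),(.ofNat 2)] (.node [] .nil (.node [(.ofNat 0),(.ofNat 1),(.ofNat 0),(.negSucc 0),(.ofNat 1),(.negSucc 1),(.ofNat 2),(.ofNat 0)] .nil .nil)) (.node [(.negSucc 0),(.negSucc 0),(.ofNat 1),(.ofNat 1),(.negSucc 0),(.ofNat 1),(.negSucc 1),(.ofNat 1)] .nil (.node [(.ofNat 1),(.ofNat 0),(.negSucc 1),(.ofNat 1),(.ofNat 0),(.negSucc 0),(.ofNat 1),(.ofNat 0)] .nil .nil))))))) (.node [(.ofNat 1),(.ofNat 0),(.negSucc 0),(.ofNat 0),(.ofNat 1),(.ofNat 0),(.ofNat 0),(.negSucc 0)] (.node [] (.node [] (.node [] (.node [] (.node [] (.node [] .nil (.node [(.ofNat 1),(.ofNat 1),(.negSucc 0),(.negSucc 0),(.ofNat 1),(.ofNat 0),(.ofNat 0),(.negSucc 0)] .nil .nil)) (.node [(.ofNat 1),(.ofNat 0),(.negSucc 1),(.ofNat 0),(.ofNat 2),(.negSucc 0),(.ofNat 0),(.ofNat 0)] .nil .nil)) (.node [(.ofNat 0),(.negSucc 0),(.ofNat 0),(.ofNat 0),(.ofNat 0),(.ofNat 1),(.ofNat 1),(.negSucc 1)] .nil (.node [(.ofNat 1),(.ofNat 0),(.ofNat 0),(.ofNat 0),(.negSucc 0),(.ofNat 2),(.negSucc 1),(.ofNat 0)] .nil .nil))) (.node [(.ofNat 1),(.ofNat 0),(.ofNat 0),(.negSucc 0),(.ofNat 1),(.ofNat 0),(.negSucc 0),(.ofNat 2)] (.node [] .nil (.node [(.ofNat 0),(.ofNat 1),(.ofNat 1),(.ofNat 0),(.negSucc 1),(.ofNat 1),(.ofNat 0),(.negSucc 0)] .nil .nil)) (.node [(.ofNat 1),(.negSucc 0),(.ofNat 0),(.ofNat 0),(.ofNat 1),(.negSucc 1),(.ofNat 1),(.ofNat 1)] .nil (.node [(.ofNat 0),(.ofNat 0),(.ofNat 1),(.ofNat 0),(.negSucc 0),(.ofNat 0),(.ofNat 1),(.negSucc 1)] .nil .nil)))) (.node [(.negSucc 1),(.ofNat 0),(.ofNat 1),(.ofNat 0),(.ofNat 0),(.ofNat 1),(.negSucc 0),(.ofNat 0)] (.node [] (.node [] .nil (.node [(.ofNat 1),(.ofNat 1),(.negSucc 0),(.negSucc 0),(.ofNat 2),(.negSucc 1),(.ofNat 1),(.ofNat 0)] .nil .nil)) (.node [(.negSucc 0),(.negSucc 0),(.ofNat 2),(.ofNat 0),(.ofNat 0),(.ofNat 0),(.negSucc 0),(.ofNat 0)] .nil (.node [(.ofNat 2),(.ofNat 0),(.ofNat 0),(.negSucc 0),(.ofNat 0),(.ofNat 0),(.ofNat 0),(.ofNat 1)] .nil .nil))) (.node [(.negSucc 0),(.negSucc 0),(.ofNat 0),(.ofNat 2),(.negSucc 0),(.ofNat 0),(.ofNat 0),(.negSucc 0)] (.node [] .nil (.node [(.negSucc 1),(.ofNat 0),(.ofNat 0),(.ofNat 1),(.negSucc 0),(.ofNat 0),(.ofNat 1),(.ofNat 0)] .nil .nil)) (.node [(.ofNat 2),(.negSucc 0),(.negSucc 1),(.ofNat 1),(.ofNat 0),(.ofNat 1),(.negSucc 0),(.ofNat 0)] .nil (.node [(.ofNat 1),(.negSucc 0),(.ofNat 0),(.ofNat 1),(.negSucc 0),(.negSucc 0),(.ofNat 1),(.ofNat 0)] .nil .nil))))) (.node [(.negSucc 0),(.negSucc 0),(.ofNat 1),(.ofNat 0),(.ofNat 1),(.ofNat 0),(.negSucc 0),(.ofNat 0)] (.node [] (.node [] (.node [] (.node [] .nil (.node [(.ofNat 0),(.ofNat 0),(.negSucc 0),(.ofNat 0),(.ofNat 1),(.negSucc 0),(.ofNat 1),(.negSucc 0)] .nil .nil)) (.node [(.negSucc 0),(.ofNat 0),(.ofNat 2),(.negSucc 0),(.ofNat 1),(.negSucc 0),(.negSucc 0),(.ofNat 1)] .nil .nil)) (.node [(.negSucc 1),(.ofNat 0),(.ofNat 2),(.negSucc 0),(.ofNat 0),(.ofNat 1),(.negSucc 0),(.ofNat 1)] .nil (.node [(.ofNat 1),(.negSucc 0),(.ofNat 1),(.negSucc 0),(.ofNat 1),(.ofNat 0),(.negSucc 0),(.ofNat 0)] .nil .nil))) (.node [(.ofNat 0),(.ofNat 0),(.negSucc 0),(.ofNat 0),(.ofNat 0),(.ofNat 2),(.negSucc 0),(.ofNat 0)] (.node [] .nil (.node [(.ofNat 0),(.negSucc 0),(.ofNat 1),(.ofNat 1),(.negSucc 0),(.negSucc 0),(.ofNat 0),(.ofNat 1)] .nil .nil)) (.node [(.ofNat 1),(.ofNat 1),(.ofNat 0),(.negSucc 0),(.ofNat 1),(.negSucc 0),(.ofNat 1),(.negSucc 1)] .nil (.node [(.ofNat 0),(.ofNat 1),(.negSucc 0),(.negSucc 0),(.ofNat 1),(.ofNat 1),(.negSucc 0),(.ofNat 0)] .nil .nil)))) (.node [(.ofNat 1),(.ofNat 0),(.ofNat 0),(.negSucc 0),(.ofNat 0),(.ofNat 1),(.ofNat 0),(.ofNat 1)] (.node [] (.node [] .nil (.node [(.ofNat 1),(.negSucc 0),(.negSucc 0),(.ofNat 0),(.ofNat 2),(.negSucc 1),(.ofNat 1),(.ofNat 0)] .nil .nil)) (.node [(.ofNat 1),(.ofNat 0),(.negSucc 0),(.ofNat 1),(.ofNat 0),(.negSucc 1),(.ofNat 2),(.negSucc 0)] .nil (.node [(.ofNat 0),(.negSucc 1),(.ofNat 1),(.ofNat 0),(.ofNat 0),(.ofNat 0),(.ofNat 1),(.negSucc 0)] .nil .nil))) (.node [(.negSucc 0),(.ofNat 0),(.ofNat 1),(.ofNat 1),(.negSucc 1),(.ofNat 1),(.ofNat 0),(.negSucc 0)] (.node [] .nil (.node [(.negSucc 0),(.ofNat 0),(.ofNat 1),(.negSucc 0),(.ofNat 0),(.ofNat 2),(.negSucc 0),(.negSucc 0)] .nil .nil)) (.node [(.negSucc 1),(.ofNat 1),(.ofNat 0),(.ofNat 0),(.ofNat 1),(.negSucc 0),(.ofNat 0),(.ofNat 0)] .nil (.node [(.ofNat 0),(.ofNat 0),(.ofNat 0),(.negSucc 0),(.ofNat 1),(.ofNat 1),(.negSucc 1),(.ofNat 1)] .nil .nil)))))) (.node [(.ofNat 0),(.ofNat 1),(.negSucc 0),(.ofNat 0),(.ofNat 0),(.ofNat 1),(.negSucc 0),(.ofNat 1)] (.node [] (.node [] (.node [] (.node [] (.node [] .nil (.node [(.negSucc 0),(.negSucc 0),(.ofNat 0),(.ofNat 1),(.negSucc 0),(.ofNat 1),(.negSucc 0),(.ofNat 1)] .nil .nil)) (.node [(.ofNat 1),(.negSucc 0),(.negSucc 0),(.ofNat 0),(.ofNat 0),(.ofNat 1),(.ofNat 0),(.ofNat 1)] .nil .nil)) (.node [(.ofNat 1),(.ofNat 0),(.negSucc 0),(.ofNat 1),(.negSucc 1),(.ofNat 1),(.ofNat 1),(.ofNat 0)] .nil (.node [(.ofNat 1),(.ofNat 1),(.ofNat 1),(.negSucc 1),(.ofNat 1),(.ofNat 0),(.negSucc 0),(.ofNat 0)] .nil .nil))) (.node [(.ofNat 1),(.ofNat 0),(.ofNat 0),(.ofNat 0),(.negSucc 0),(.ofNat 0),(.ofNat 2),(.negSucc 0)] (.node [] .nil (.node [(.ofNat 0),(.negSucc 0),(.ofNat 1),(.ofNat 0),(.ofNat 0),(.negSucc 0),(.ofNat 2),(.negSucc 1)] .nil .nil)) (.node [(.ofNat 2),(.ofNat 0),(.ofNat 0),(.ofNat 0),(.ofNat 0),(.negSucc 0),(.ofNat 0),(.ofNat 0)] .nil (.node [(.ofNat 1),(.negSucc 0),(.ofNat 0),(.ofNat 0),(.negSucc 0),(.ofNat 1),(.ofNat 1),(.negSucc 0)] .nil .nil)))) (.node [(.ofNat 0),(.ofNat 0),(.ofNat 0),(.ofNat 0),(.ofNat 1),(.ofNat 0),(.negSucc 0),(.negSucc 0)] (.node [] (.node [] .nil (.node [(.negSucc 0),(.negSucc 0),(.ofNat 0),(.ofNat 0),(.ofNat 1),(.negSucc 0),(.ofNat 1),(.ofNat 1)] .nil .nil)) (.node [(.negSucc 1),(.negSucc 0),(.ofNat 1),(.ofNat 1),(.ofNat 0),(.ofNat 0),(.negSucc 0),(.ofNat 0)] .nil (.node [(.ofNat 1),(.ofNat 0),(.negSucc 0),(.ofNat 0),(.negSucc 0),(.ofNat 2),(.ofNat 0),(.negSucc 0)] .nil .nil))) (.node [(.ofNat 1),(.ofNat 0),(.ofNat 0),(.ofNat 0),(.ofNat 0),(.ofNat 1),(.negSucc 1),(.ofNat 0)] (.node [] .nil (.node [(.ofNat 1),(.ofNat 2),(.ofNat 0),(.negSucc 0),(.ofNat 0),(.negSucc 0),(.ofNat 1),(.negSucc 0)] .nil .nil)) (.node [(.ofNat 0),(.negSucc 0),(.negSucc 0),(.ofNat 2),(.negSucc 0),(.negSucc 0),(.ofNat 1),(.ofNat 1)] .nil (.node [(.ofNat 0),(.ofNat 2),(.ofNat 0),(.negSucc 0),(.negSucc 0),(.ofNat 1),(.ofNat 0),(.ofNat 0)] .nil .nil))))) (.node [(.ofNat 0),(.ofNat 0),(.ofNat 0),(.ofNat 0),(.ofNat 1),(.negSucc 1),(.ofNat 1),(.ofNat 1)] (.node [] (.node [] (.node [] .nil (.node [(.ofNat 1),(.negSucc 0),(.negSucc 0),(.ofNat 0),(.ofNat 1),(.negSucc 0),(.ofNat 1),(.ofNat 1)] .nil .nil)) (.node [(.ofNat 0),(.negSucc 1),(.ofNat 1),(.ofNat 0),(.ofNat 1),(.negSucc 0),(.ofNat 0),(.ofNat 1)] .nil (.node [(.ofNat 0),(.ofNat 0),(.negSucc 0),(.ofNat 2),(.negSucc 1),(.ofNat 0),(.ofNat 1),(.negSucc 0)] .nil .nil))) (.node [(.ofNat 1),(.negSucc 1),(.ofNat 0),(.ofNat 1),(.ofNat 0),(.ofNat 0),(.negSucc 0),(.ofNat 1)] (.node [] .nil (.node [(.ofNat 0),(.ofNat 1),(.ofNat 0),(.negSucc 1),(.ofNat 1),(.ofNat 1),(.ofNat 0),(.ofNat 0)] .nil .nil)) (.node [(.negSucc 0),(.negSucc 0),(.ofNat 1),(.ofNat 1),(.negSucc 0),(.negSucc 0),(.ofNat 1),(.ofNat 1)] .nil (.node [(.negSucc 0),(.negSucc 0),(.ofNat 1),(.ofNat 0),(.negSucc 0),(.ofNat 2),(.negSucc 0),(.ofNat 0)] .nil .nil)))) (.node [(.negSucc 0),(.ofNat 0),(.ofNat 1),(.negSucc 0),(.ofNat 0),(.ofNat 1),(.ofNat 0),(.ofNat 1)] (.node [] (.node [] .nil (.node [(.ofNat 1),(.ofNat 0),(.ofNat 0),(.negSucc 0),(.ofNat 0),(.ofNat 0),(.ofNat 1),(.ofNat 1)] .nil .nil)) (.node [(.negSucc 0),(.negSucc 0),(.ofNat 1),(.negSucc 0),(.ofNat 1),(.ofNat 1),(.ofNat 0),(.negSucc 0)] .nil (.node [(.ofNat 1),(.ofNat 0),(.negSucc 0),(.ofNat 0),(.ofNat 0),(.ofNat 1),(.ofNat 0),(.negSucc 1)] .nil .nil))) (.node [(.ofNat 1),(.ofNat 1),(.negSucc 1),(.ofNat 0),(.ofNat 1),(.ofNat 0),(.ofNat 0),(.negSucc 0)] (.node [] .nil (.node [(.ofNat 2),(.negSucc 0),(.negSucc 0),(.ofNat 0),(.ofNat 0),(.ofNat 1),(.negSucc 0),(.ofNat 1)] .nil .nil)) (.node [(.ofNat 0),(.negSucc 0),(.negSucc 0),(.ofNat 2),(.negSucc 0),(.ofNat 0),(.negSucc 0),(.ofNat 2)] .nil (.node [(.ofNat 0),(.ofNat 1),(.ofNat 1),(.negSucc 1),(.ofNat 1),(.ofNat 0),(.negSucc 0),(.ofNat 1)] .nil .nil))))))))) (.node [(.ofNat 0),(.ofNat 1),(.ofNat 0),(.ofNat 0),(.ofNat 0),(.negSucc 0),(.ofNat 1),(.ofNat 0)] (.node [] (.node [] (.node [] (.node [] (.node [] (.node [] (.node [] (.node [] .nil (.node [(.ofNat 0),(.ofNat 0),(.ofNat 0),(.ofNat 0),(.ofNat 0),(.negSucc 0),(.ofNat 2),(.negSucc 1)] .nil .nil)) (.node [(.ofNat 2),(.ofNat 0),(.negSucc 0),(.negSucc 0),(.ofNat 2),(.negSucc 0),(.ofNat 0),(.ofNat 0)] .nil .nil)) (.node [(.ofNat 1),(.ofNat 0),(.negSucc 0),(.ofNat 0),(.negSucc 0),(.ofNat 2),(.ofNat 0),(.ofNat 0)] .nil (.node [(.negSucc 0),(.ofNat 1),(.ofNat 2),(.negSucc 1),(.ofNat 1),(.negSucc 0),(.ofNat 0),(.ofNat 1)] .nil .nil))) (.node [(.negSucc 0),(.ofNat 2),(.ofNat 1),(.negSucc 1),(.ofNat 1),(.ofNat 0),(.ofNat 0),(.ofNat 0)] (.node [] .nil (.node [(.negSucc 1),(.ofNat 0),(.ofNat 1),(.ofNat 0),(.ofNat 1),(.negSucc 0),(.ofNat 0),(.negSucc 0)] .nil .nil)) (.node [(.negSucc 0),(.ofNat 1),(.ofNat 1),(.negSucc 0),(.ofNat 1),(.negSucc 1),(.ofNat 1),(.ofNat 1)] .nil (.node [(.ofNat 0),(.negSucc 0),(.ofNat 0),(.ofNat 0),(.ofNat 2),(.negSucc 1),(.ofNat 0),(.ofNat 0)] .nil .nil)))) (.node [(.ofNat 1),(.ofNat 0),(.negSucc 1),(.ofNat 1),(.ofNat 0),(.ofNat 0),(.ofNat 1),(.negSucc 0)] (.node [] (.node [] .nil (.node [(.negSucc 1),(.ofNat 0),(.ofNat 1),(.ofNat 1),(.negSucc 1),(.ofNat 1),(.ofNat 0),(.ofNat 0)] .nil .nil)) (.node [(.negSucc 0),(.ofNat 2),(.ofNat 0),(.negSucc 0),(.ofNat 0),(.ofNat 1),(.ofNat 0),(.negSucc 0)] .nil (.node [(.ofNat 0),(.ofNat 0),(.ofNat 1),(.negSucc 1),(.ofNat 2),(.negSucc 0),(.ofNat 1),(.negSucc 0)] .nil .nil))) (.node [(.negSucc 0),(.ofNat 0),(.ofNat 1),(.negSucc 0),(.ofNat 1),(.ofNat 1),(.negSucc 0),(.negSucc 0)] (.node [] .nil (.node [(.ofNat 0),(.ofNat 2),(.negSucc 0),(.ofNat 0),(.negSucc 0),(.ofNat 0),(.ofNat 1),(.ofNat 0)] .nil .nil)) (.node [(.ofNat 0),(.negSucc 0),(.negSucc 0),(.ofNat 1),(.ofNat 0),(.ofNat 1),(.negSucc 1),(.ofNat 2)] .nil (.node [(.ofNat 0),(.negSucc 0),(.negSucc 0),(.ofNat 1),(.negSucc 0),(.ofNat 1),(.ofNat 1),(.negSucc 0)] .nil .nil))))) (.node [(.negSucc 0),(.negSucc 0),(.ofNat 1),(.ofNat 0),(.ofNat 1),(.negSucc 0),(.ofNat 0),(.ofNat 1)] (.node [] (.node [] (.node [] (.node [] .nil (.node [(.negSucc 0),(.ofNat 0),(.ofNat 1),(.negSucc 0),(.ofNat 0),(.ofNat 1),(.negSucc 0),(.ofNat 1)] .nil .nil)) (.node [(.ofNat 2),(.ofNat 0),(.negSucc 0),(.ofNat 1),(.negSucc 1),(.ofNat 1),(.ofNat 0),(.ofNat 0)] .nil .nil)) (.node [(.ofNat 0),(.ofNat 0),(.negSucc 0),(.ofNat 1),(.ofNat 1),(.negSucc 0),(.negSucc 0),(.ofNat 0)] .nil (.node [(.negSucc 0),(.ofNat 0),(.ofNat 1),(.ofNat 1),(.negSucc 1),(.ofNat 0),(.ofNat 1),(.negSucc 0)] .nil .nil))) (.node [(.ofNat 2),(.ofNat 1),(.negSucc 0),(.negSucc 0),(.ofNat 0),(.ofNat 1),(.ofNat 0),(.ofNat 0)] (.node [] .nil (.node [(.ofNat 1),(.ofNat 2),(.ofNat 0),(.negSucc 1),(.ofNat 1),(.ofNat 0),(.ofNat 0),(.negSucc 0)] .nil .nil)) (.node [(.negSucc 0),(.negSucc 0),(.ofNat 1),(.ofNat 0),(.ofNat 0),(.ofNat 1),(.negSucc 1),(.ofNat 2)] .nil (.node [(.ofNat 1),(.negSucc 0),(.ofNat 0),(.ofNat 0),(.ofNat 0),(.negSucc 0),(.ofNat 1),(.ofNat 1)] .nil .nil)))) (.node [(.ofNat 1),(.ofNat 0),(.negSucc 1),(.ofNat 2),(.negSucc 0),(.ofNat 0),(.ofNat 0),(.ofNat 0)] (.node [] (.node [] .nil (.node [(.negSucc 1),(.ofNat 1),(.ofNat 2),(.negSucc 0),(.negSucc 0),(.ofNat 1),(.ofNat 0),(.ofNat 0)] .nil .nil)) (.node [(.negSucc 0),(.ofNat 1),(.ofNat 1),(.negSucc 1),(.ofNat 2),(.negSucc 0),(.ofNat 0),(.ofNat 1)] .nil (.node [(.ofNat 1),(.ofNat 1),(.ofNat 0),(.negSucc 1),(.ofNat 1),(.ofNat 0),(.ofNat 0),(.ofNat 1)] .nil .nil))) (.node [(.ofNat 2),(.negSucc 0),(.negSucc 0),(.ofNat 1),(.negSucc 0),(.ofNat 0),(.ofNat 1),(.ofNat 0)] (.node [] .nil (.node [(.ofNat 0),(.negSucc 0),(.ofNat 0),(.ofNat 0),(.negSucc 0),(.ofNat 2),(.ofNat 0),(.ofNat 0)] .nil .nil)) (.node [(.ofNat 0),(.ofNat 0),(.ofNat 0),(.ofNat 0),(.negSucc 0),(.ofNat 0),(.ofNat 2),(.ofNat 0)] .nil (.node [(.ofNat 1),(.ofNat 0),(.negSucc 1),(.ofNat 0),(.ofNat 1),(.ofNat 0),(.ofNat 0),(.ofNat 0)] .nil .nil)))))) (.node [(.negSucc 0),(.ofNat 1),(.ofNat 1),(.negSucc 0),(.ofNat 0),(.ofNat 0),(.ofNat 1),(.ofNat 0)] (.node [] (.node [] (.node [] (.node [] (.node [] .nil (.node [(.ofNat 0),(.negSucc 0),(.ofNat 1),(.ofNat 0),(.negSucc 0),(.ofNat 1),(.ofNat 0),(.negSucc 0)] .nil .nil)) (.node [(.ofNat 0),(.negSucc 1),(.ofNat 0),(.ofNat 0),(.ofNat 2),(.negSucc 0),(.ofNat 0),(.ofNat 0)] .nil .nil)) (.node [(.ofNat 2),(.negSucc 0),(.negSucc 0),(.ofNat 1),(.ofNat 0),(.negSucc 0),(.ofNat 0),(.ofNat 1)] .nil (.node [(.ofNat 0),(.negSucc 0),(.ofNat 0),(.negSucc 0),(.ofNat 2),(.ofNat 0),(.ofNat 0),(.negSucc 0)] .nil .nil))) (.node [(.ofNat 0),(.ofNat 1),(.ofNat 1),(.ofNat 0),(.negSucc 0),(.ofNat 0),(.ofNat 0),(.negSucc 0)] (.node [] .nil (.node [(.negSucc 0),(.ofNat 1),(.ofNat 0),(.ofNat 0),(.negSucc 0),(.ofNat 2),(.negSucc 1),(.ofNat 1)] .nil .nil)) (.node [(.ofNat 2),(.ofNat 1),(.negSucc 1),(.ofNat 0),(.ofNat 0),(.ofNat 0),(.ofNat 1),(.negSucc 0)] .nil (.node [(.ofNat 1),(.ofNat 2),(.negSucc 0),(.negSucc 0),(.ofNat 1),(.negSucc 0),(.ofNat 0),(.ofNat 0)] .nil .nil)))) (.node [(.ofNat 0),(.ofNat 0),(.ofNat 0),(.ofNat 1),(.negSucc 0),(.ofNat 0),(.negSucc 0),(.ofNat 2)] (.node [] (.node [] .nil (.node [(.ofNat 1),(.ofNat 0),(.negSucc 1),(.ofNat 1),(.ofNat 0),(.ofNat 1),(.negSucc 0),(.negSucc 0)] .nil .nil)) (.node [(.ofNat 1),(.negSucc 0),(.ofNat 0),(.ofNat 0),(.negSucc 0),(.ofNat 1),(.ofNat 1),(.ofNat 0)] .nil (.node [(.negSucc 1),(.ofNat 1),(.ofNat 1),(.ofNat 0),(.negSucc 0),(.ofNat 0),(.ofNat 1),(.negSucc 0)] .nil .nil))) (.node [(.ofNat 0),(.ofNat 2),(.negSucc 0),(.ofNat 0),(.ofNat 0),(.ofNat 0),(.negSucc 0),(.ofNat 1)] (.node [] .nil (.node [(.ofNat 0),(.negSucc 0),(.ofNat 1),(.ofNat 0),(.ofNat 1),(.negSucc 0),(.negSucc 0),(.ofNat 0)] .nil .nil)) (.node [(.ofNat 0),(.ofNat 1),(.negSucc 0),(.ofNat 1),(.negSucc 1),(.ofNat 2),(.negSucc 0),(.ofNat 0)] .nil (.node [(.ofNat 0),(.ofNat 2),(.ofNat 0),(.negSucc 1),(.ofNat 1),(.ofNat 0),(.ofNat 0),(.ofNat 0)] .nil .nil))))) (.node [(.ofNat 2),(.ofNat 0),(.negSucc 0),(.ofNat 0),(.ofNat 0),(.ofNat 0),(.ofNat 0),(.ofNat 1)] (.node [] (.node [] (.node [] (.node [] .nil (.node [(.ofNat 0),(.ofNat 1),(.ofNat 0),(.negSucc 0),(.ofNat 0),(.ofNat 1),(.negSucc 0),(.ofNat 0)] .nil .nil)) (.node [(.ofNat 0),(.negSucc 1),(.ofNat 0),(.ofNat 2),(.negSucc 1),(.ofNat 1),(.ofNat 0),(.ofNat 0)] .nil .nil)) (.node [(.ofNat 1),(.negSucc 0),(.negSucc 1),(.ofNat 2),(.negSucc 0),(.ofNat 1),(.ofNat 0),(.negSucc 0)] .nil (.node [(.negSucc 1),(.negSucc 0),(.ofNat 1),(.ofNat 0),(.ofNat 1),(.negSucc 0),(.ofNat 0),(.ofNat 1)] .nil .nil))) (.node [(.ofNat 0),(.ofNat 0),(.negSucc 0),(.ofNat 0),(.ofNat 1),(.ofNat 0),(.negSucc 0),(.ofNat 2)] (.node [] .nil (.node [(.ofNat 1),(.negSucc 0),(.negSucc 0),(.ofNat 1),(.ofNat 1),(.negSucc 1),(.ofNat 0),(.ofNat 1)] .nil .nil)) (.node [(.negSucc 0),(.ofNat 2),(.ofNat 0),(.ofNat 0),(.ofNat 0),(.negSucc 0),(.ofNat 0),(.ofNat 0)] .nil (.node [(.ofNat 0),(.ofNat 0),(.negSucc 1),(.ofNat 1),(.ofNat 1),(.negSucc 0),(.ofNat 0),(.ofNat 0)] .nil .nil)))) (.node [(.ofNat 0),(.negSucc 0),(.ofNat 1),(.ofNat 0),(.ofNat 1),(.negSucc 1),(.ofNat 1),(.ofNat 0)] (.node [] (.node [] .nil (.node [(.ofNat 1),(.ofNat 1),(.negSucc 0),(.negSucc 0),(.ofNat 1),(.ofNat 1),(.negSucc 0),(.negSucc 0)] .nil .nil)) (.node [(.ofNat 0),(.ofNat 2),(.ofNat 1),(.negSucc 0),(.negSucc 0),(.ofNat 1),(.negSucc 0),(.ofNat 0)] .nil (.node [(.negSucc 0),(.negSucc 0),(.negSucc 0),(.ofNat 2),(.negSucc 0),(.ofNat 0),(.ofNat 1),(.negSucc 0)] .nil .nil))) (.node [(.ofNat 0),(.negSucc 0),(.ofNat 0),(.ofNat 0),(.ofNat 0),(.ofNat 0),(.ofNat 2),(.negSucc 0)] (.node [] .nil (.node [(.ofNat 0),(.ofNat 0),(.negSucc 0),(.ofNat 0),(.ofNat 1),(.negSucc 0),(.ofNat 0),(.ofNat 2)] .nil .nil)) (.node [(.ofNat 0),(.negSucc 1),(.ofNat 0),(.ofNat 0),(.ofNat 1),(.ofNat 1),(.negSucc 0),(.ofNat 0)] .nil (.node [(.ofNat 0),(.ofNat 0),(.ofNat 0),(.negSucc 0),(.ofNat 2),(.negSucc 0),(.negSucc 0),(.ofNat 1)] .nil .nil))))))) (.node [(.ofNat 1),(.ofNat 0),(.negSucc 0),(.ofNat 0),(.ofNat 1),(.ofNat 0),(.negSucc 0),(.ofNat 1)] (.node [] (.node [] (.node [] (.node [] (.node [] (.node [] .nil (.node [(.ofNat 0),(.ofNat 0),(.ofNat 0),(.ofNat 0),(.ofNat 1),(.negSucc 1),(.ofNat 1),(.negSucc 0)] .nil .nil)) (.node [(.ofNat 2),(.ofNat 2),(.negSucc 0),(.negSucc 0),(.ofNat 0),(.ofNat 0),(.ofNat 0),(.ofNat 0)] .nil .nil)) (.node [(.ofNat 0),(.ofNat 1),(.ofNat 0),(.negSucc 0),(.ofNat 2),(.negSucc 1),(.ofNat 0),(.ofNat 1)] .nil (.node [(.ofNat 0),(.ofNat 0),(.negSucc 0),(.ofNat 0),(.ofNat 2),(.negSucc 1),(.ofNat 0),(.ofNat 1)] .nil .nil))) (.node [(.ofNat 1),(.ofNat 1),(.negSucc 0),(.ofNat 0),(.ofNat 0),(.ofNat 1),(.negSucc 0),(.negSucc 0)] (.node [] .nil (.node [(.ofNat 1),(.negSucc 0),(.negSucc 0),(.ofNat 0),(.ofNat 2),(.negSucc 0),(.negSucc 0),(.ofNat 1)] .nil .nil)) (.node [(.ofNat 1),(.ofNat 0),(.negSucc 0),(.ofNat 1),(.ofNat 0),(.ofNat 0),(.negSucc 1),(.ofNat 1)] .nil (.node [(.negSucc 1),(.negSucc 0),(.ofNat 1),(.ofNat 1),(.ofNat 0),(.negSucc 0),(.ofNat 0),(.ofNat 0)] .nil .nil)))) (.node [(.ofNat 1),(.ofNat 0),(.negSucc 1),(.ofNat 1),(.ofNat 0),(.ofNat 1),(.negSucc 0),(.ofNat 0)] (.node [] (.node [] .nil (.node [(.ofNat 1),(.ofNat 2),(.ofNat 0),(.negSucc 1),(.ofNat 0),(.ofNat 1),(.ofNat 0),(.ofNat 0)] .nil .nil)) (.node [(.ofNat 0),(.ofNat 1),(.negSucc 0),(.negSucc 0),(.ofNat 1),(.ofNat 0),(.ofNat 1),(.ofNat 0)] .nil (.node [(.ofNat 1),(.ofNat 0),(.negSucc 0),(.ofNat 0),(.negSucc 0),(.ofNat 2),(.negSucc 0),(.ofNat 1)] .nil .nil))) (.node [(.ofNat 2),(.ofNat 1),(.negSucc 0),(.ofNat 0),(.negSucc 0),(.ofNat 0),(.ofNat 1),(.ofNat 0)] (.node [] .nil (.node [(.ofNat 0),(.negSucc 0),(.ofNat 1),(.ofNat 1),(.negSucc 0),(.negSucc 0),(.ofNat 1),(.negSucc 0)] .nil .nil)) (.node [(.ofNat 1),(.negSucc 0),(.ofNat 0),(.ofNat 1),(.negSucc 0),(.ofNat 0),(.negSucc 0),(.ofNat 2)] .nil (.node [(.ofNat 1),(.negSucc 0),(.ofNat 0),(.ofNat 0),(.ofNat 1),(.negSucc 0),(.negSucc 0),(.ofNat 1)] .nil .nil))))) (.node [(.ofNat 0),(.ofNat 0),(.ofNat 0),(.negSucc 0),(.ofNat 1),(.ofNat 1),(.negSucc 0),(.ofNat 1)] (.node [] (.node [] (.node [] (.node [] .nil (.node [(.ofNat 0),(.ofNat 0),(.negSucc 0),(.ofNat 0),(.ofNat 1),(.negSucc 0),(.ofNat 0),(.ofNat 1)] .nil .nil)) (.node [(.negSucc 0),(.negSucc 1),(.ofNat 2),(.ofNat 0),(.ofNat 0),(.ofNat 0),(.ofNat 0),(.ofNat 0)] .nil .nil)) (.node [(.negSucc 0),(.ofNat 1),(.negSucc 0),(.ofNat 1),(.ofNat 0),(.negSucc 0),(.ofNat 0),(.ofNat 1)] .nil (.node [(.negSucc 0),(.negSucc 0),(.ofNat 2),(.negSucc 0),(.ofNat 1),(.negSucc 0),(.ofNat 1),(.negSucc 0)] .nil .nil))) (.node [(.negSucc 0),(.negSucc 0),(.ofNat 0),(.ofNat 1),(.ofNat 1),(.negSucc 0),(.negSucc 0),(.ofNat 1)] (.node [] .nil (.node [(.negSucc 0),(.negSucc 0),(.ofNat 0),(.ofNat 2),(.negSucc 1),(.ofNat 0),(.ofNat 1),(.ofNat 0)] .nil .nil)) (.node [(.ofNat 2),(.ofNat 0),(.negSucc 0),(.negSucc 0),(.ofNat 1),(.ofNat 0),(.ofNat 0),(.ofNat 1)] .nil (.node [(.ofNat 1),(.negSucc 0),(.ofNat 0),(.ofNat 0),(.negSucc 0),(.ofNat 2),(.negSucc 0),(.ofNat 0)] .nil .nil)))) (.node [(.ofNat 0),(.ofNat 0),(.ofNat 0),(.ofNat 1),(.negSucc 0),(.ofNat 1),(.negSucc 0),(.negSucc 0)] (.node [] (.node [] .nil (.node [(.negSucc 0),(.ofNat 0),(.negSucc 0),(.ofNat 1),(.ofNat 1),(.negSucc 0),(.negSucc 0),(.ofNat 1)] .nil .nil)) (.node [(.ofNat 1),(.negSucc 1),(.negSucc 0),(.ofNat 1),(.ofNat 1),(.negSucc 0),(.ofNat 1),(.negSucc 0)] .nil (.node [(.negSucc 0),(.ofNat 2),(.ofNat 0),(.negSucc 0),(.ofNat 0),(.ofNat 0),(.ofNat 0),(.ofNat 1)] .nil .nil))) (.node [(.ofNat 0),(.negSucc 1),(.negSucc 0),(.ofNat 2),(.ofNat 0),(.ofNat 0),(.negSucc 0),(.ofNat 1)] (.node [] .nil (.node [(.negSucc 1),(.ofNat 0),(.ofNat 0),(.ofNat 1),(.negSucc 0),(.ofNat 1),(.negSucc 0),(.ofNat 1)] .nil .nil)) (.node [(.ofNat 0),(.negSucc 0),(.ofNat 2),(.ofNat 0),(.negSucc 0),(.ofNat 0),(.ofNat 0),(.ofNat 0)] .nil (.node [(.ofNat 0),(.ofNat 1),(.ofNat 1),(.negSucc 1),(.ofNat 0),(.ofNat 1),(.ofNat 0),(.ofNat 0)] .nil .nil)))))) (.node [(.ofNat 1),(.negSucc 0),(.ofNat 0),(.ofNat 0),(.ofNat 0),(.ofNat 1),(.ofNat 0),(.negSucc 0)] (.node [] (.node [] (.node [] (.node [] (.node [] .nil (.node [(.ofNat 0),(.ofNat 1),(.ofNat 1),(.negSucc 0),(.ofNat 0),(.ofNat 0),(.negSucc 0),(.ofNat 0)] .nil .nil)) (.node [(.ofNat 1),(.ofNat 0),(.negSucc 1),(.ofNat 1),(.ofNat 0),(.ofNat 0),(.negSucc 0),(.ofNat 2)] .nil .nil)) (.node [(.ofNat 1),(.negSucc 0),(.negSucc 1),(.ofNat 2),(.negSucc 0),(.ofNat 1),(.negSucc 0),(.ofNat 1)] .nil (.node [(.ofNat 0),(.negSucc 0),(.ofNat 0),(.ofNat 0),(.ofNat 1),(.ofNat 0),(.negSucc 1),(.ofNat 2)] .nil .nil))) (.node [(.ofNat 1),(.negSucc 0),(.negSucc 0),(.ofNat 1),(.ofNat 0),(.ofNat 1),(.negSucc 0),(.negSucc 0)] (.node [] .nil (.node [(.ofNat 1),(.negSucc 0),(.negSucc 0),(.ofNat 1),(.ofNat 0),(.negSucc 0),(.ofNat 0),(.ofNat 2)] .nil .nil)) (.node [(.ofNat 0),(.negSucc 0),(.negSucc 0),(.ofNat 0),(.ofNat 1),(.ofNat 1),(.ofNat 0),(.negSucc 0)] .nil (.node [(.ofNat 1),(.ofNat 0),(.negSucc 0),(.ofNat 1),(.negSucc 0),(.ofNat 1),(.negSucc 1),(.ofNat 1)] .nil .nil)))) (.node [(.ofNat 0),(.ofNat 1),(.ofNat 1),(.negSucc 0),(.ofNat 0),(.negSucc 0),(.ofNat 2),(.negSucc 0)] (.node [] (.node [] .nil (.node [(.negSucc 0),(.ofNat 1),(.ofNat 0),(.negSucc 0),(.ofNat 1),(.ofNat 0),(.negSucc 0),(.ofNat 2)] .nil .nil)) (.node [(.ofNat 0),(.negSucc 0),(.ofNat 0),(.ofNat 1),(.negSucc 0),(.ofNat 2),(.negSucc 1),(.ofNat 0)] .nil (.node [(.ofNat 1),(.ofNat 0),(.negSucc 0),(.negSucc 0),(.ofNat 2),(.negSucc 0),(.ofNat 1),(.negSucc 0)] .nil .nil))) (.node [(.ofNat 0),(.ofNat 0),(.negSucc 0),(.ofNat 1),(.negSucc 0),(.ofNat 2),(.negSucc 1),(.ofNat 1)] (.node [] .nil (.node [(.ofNat 1),(.ofNat 0),(.ofNat 0),(.ofNat 0),(.ofNat 0),(.ofNat 0),(.ofNat 0),(.negSucc 1)] .nil .nil)) (.node [(.negSucc 0),(.ofNat 0),(.ofNat 2),(.negSucc 0),(.ofNat 0),(.negSucc 0),(.ofNat 1),(.ofNat 1)] .nil (.node [(.negSucc 0),(.negSucc 0),(.ofNat 1),(.ofNat 1),(.negSucc 0),(.negSucc 0),(.ofNat 1),(.ofNat 0)] .nil .nil))))) (.node [(.ofNat 0),(.ofNat 1),(.ofNat 1),(.negSucc 1),(.ofNat 1),(.ofNat 0),(.ofNat 0),(.ofNat 1)] (.node [] (.node [] (.node [] .nil (.node [(.negSucc 0),(.ofNat 0),(.negSucc 0),(.ofNat 1),(.ofNat 0),(.ofNat 0),(.negSucc 0),(.ofNat 2)] .nil .nil)) (.node [(.ofNat 0),(.ofNat 0),(.negSucc 0),(.ofNat 2),(.negSucc 0),(.ofNat 0),(.negSucc 0),(.ofNat 0)] .nil (.node [(.negSucc 1),(.ofNat 1),(.ofNat 1),(.ofNat 0),(.negSucc 0),(.ofNat 0),(.ofNat 0),(.ofNat 1)] .nil .nil))) (.node [(.negSucc 0),(.negSucc 0),(.ofNat 2),(.negSucc 0),(.ofNat 0),(.ofNat 1),(.ofNat 0),(.ofNat 0)] (.node [] .nil (.node [(.ofNat 2),(.negSucc 0),(.ofNat 0),(.ofNat 0),(.ofNat 0),(.ofNat 0),(.ofNat 0),(.negSucc 0)] .nil .nil)) (.node [(.ofNat 0),(.ofNat 1),(.negSucc 0),(.ofNat 0),(.ofNat 1),(.negSucc 1),(.ofNat 2),(.negSucc 0)] .nil (.node [(.negSucc 0),(.ofNat 1),(.ofNat 1),(.negSucc 0),(.ofNat 1),(.negSucc 1),(.ofNat 1),(.ofNat 0)] .nil .nil)))) (.node [(.ofNat 0),(.negSucc 0),(.ofNat 1),(.ofNat 0),(.ofNat 0),(.ofNat 0),(.ofNat 1),(.negSucc 1)] (.node [] (.node [] .nil (.node [(.negSucc 0),(.negSucc 0),(.ofNat 0),(.ofNat 0),(.ofNat 1),(.ofNat 0),(.negSucc 0),(.ofNat 2)] .nil .nil)) (.node [(.negSucc 0),(.negSucc 1),(.ofNat 0),(.ofNat 1),(.ofNat 1),(.negSucc 0),(.ofNat 1),(.negSucc 0)] .nil (.node [(.ofNat 0),(.ofNat 0),(.ofNat 1),(.negSucc 0),(.ofNat 1),(.negSucc 0),(.ofNat 1),(.negSucc 1)] .nil .nil))) (.node [(.negSucc 0),(.negSucc 0),(.negSucc 0),(.ofNat 1),(.ofNat 1),(.negSucc 0),(.ofNat 1),(.ofNat 0)] (.node [] .nil (.node [(.ofNat 0),(.negSucc 1),(.negSucc 0),(.ofNat 2),(.negSucc 0),(.ofNat 1),(.negSucc 0),(.ofNat 1)] .nil .nil)) (.node [(.ofNat 1),(.ofNat 0),(.negSucc 1),(.ofNat 1),(.ofNat 0),(.negSucc 0),(.ofNat 1),(.ofNat 1)] .nil (.node [(.negSucc 0),(.ofNat 0),(.ofNat 2),(.negSucc 0),(.ofNat 0),(.ofNat 0),(.ofNat 0),(.negSucc 0)] .nil .nil)))))))) (.node [(.ofNat 1),(.ofNat 0),(.negSucc 0),(.ofNat 0),(.ofNat 0),(.ofNat 1),(.ofNat 0),(.ofNat 0)] (.node [] (.node [] (.node [] (.node [] (.node [] (.node [] (.node [] .nil (.node [(.ofNat 1),(.ofNat 1),(.negSucc 0),(.negSucc 0),(.ofNat 1),(.ofNat 0),(.negSucc 0),(.ofNat 1)] .nil .nil)) (.node [(.negSucc 1),(.ofNat 0),(.ofNat 1),(.ofNat 0),(.negSucc 0),(.ofNat 1),(.ofNat 1),(.negSucc 0)] .nil .nil)) (.node [(.ofNat 1),(.ofNat 0),(.ofNat 0),(.ofNat 1),(.negSucc 0),(.ofNat 0),(.negSucc 0),(.ofNat 0)] .nil (.node [(.negSucc 1),(.ofNat 0),(.ofNat 0),(.ofNat 1),(.negSucc 0),(.ofNat 1),(.ofNat 0),(.negSucc 0)] .nil .nil))) (.node [(.negSucc 0),(.ofNat 1),(.ofNat 0),(.ofNat 0),(.ofNat 1),(.negSucc 1),(.ofNat 1),(.ofNat 0)] (.node [] .nil (.node [(.ofNat 1),(.ofNat 2),(.ofNat 0),(.negSucc 0),(.negSucc 0),(.ofNat 0),(.ofNat 1),(.ofNat 0)] .nil .nil)) (.node [(.ofNat 1),(.ofNat 2),(.negSucc 0),(.ofNat 0),(.negSucc 0),(.ofNat 1),(.negSucc 0),(.ofNat 0)] .nil (.node [(.ofNat 1),(.ofNat 0),(.negSucc 0),(.ofNat 1),(.negSucc 0),(.negSucc 0),(.ofNat 2),(.negSucc 0)] .nil .nil)))) (.node [(.ofNat 0),(.ofNat 0),(.ofNat 0),(.ofNat 1),(.negSucc 0),(.negSucc 0),(.ofNat 1),(.ofNat 1)] (.node [] (.node [] .nil (.node [(.negSucc 1),(.ofNat 1),(.ofNat 2),(.negSucc 1),(.ofNat 1),(.ofNat 0),(.ofNat 0),(.ofNat 0)] .nil .nil)) (.node [(.negSucc 1),(.ofNat 0),(.ofNat 2),(.negSucc 0),(.ofNat 1),(.negSucc 0),(.ofNat 0),(.ofNat 1)] .nil (.node [(.ofNat 2),(.negSucc 0),(.negSucc 0),(.ofNat 0),(.ofNat 1),(.ofNat 0),(.negSucc 0),(.ofNat 0)] .nil .nil))) (.node [(.ofNat 1),(.ofNat 0),(.ofNat 0),(.ofNat 0),(.ofNat 0),(.negSucc 0),(.ofNat 2),(.negSucc 1)] (.node [] .nil (.node [(.ofNat 1),(.negSucc 0),(.negSucc 0),(.ofNat 2),(.negSucc 1),(.ofNat 1),(.ofNat 0),(.negSucc 0)] .nil .nil)) (.node [(.ofNat 2),(.ofNat 0),(.negSucc 0),(.negSucc 0),(.ofNat 1),(.ofNat 0),(.ofNat 1),(.negSucc 0)] .nil (.node [(.negSucc 0),(.negSucc 1),(.ofNat 0),(.ofNat 2),(.negSucc 0),(.ofNat 0),(.ofNat 0),(.ofNat 0)] .nil .nil))))) (.node [(.ofNat 0),(.ofNat 1),(.negSucc 0),(.ofNat 0),(.ofNat 1),(.negSucc 0),(.ofNat 1),(.negSucc 0)] (.node [] (.node [] (.node [] (.node [] .nil (.node [(.ofNat 1),(.ofNat 0),(.ofNat 0),(.ofNat 0),(.negSucc 0),(.ofNat 0),(.ofNat 0),(.ofNat 1)] .nil .nil)) (.node [(.negSucc 1),(.ofNat 0),(.ofNat 1),(.ofNat 0),(.ofNat 0),(.negSucc 0),(.ofNat 2),(.negSucc 0)] .nil .nil)) (.node [(.ofNat 0),(.negSucc 0),(.ofNat 0),(.ofNat 1),(.negSucc 0),(.ofNat 0),(.ofNat 0),(.ofNat 2)] .nil (.node [(.ofNat 0),(.ofNat 1),(.ofNat 0),(.negSucc 0),(.ofNat 0),(.ofNat 0),(.ofNat 0),(.ofNat 2)] .nil .nil))) (.node [(.negSucc 0),(.ofNat 1),(.ofNat 0),(.ofNat 1),(.negSucc 0),(.ofNat 0),(.negSucc 0),(.ofNat 1)] (.node [] .nil (.node [(.ofNat 0),(.negSucc 1),(.negSucc 0),(.ofNat 1),(.ofNat 0),(.ofNat 1),(.ofNat 0),(.ofNat 0)] .nil .nil)) (.node [(.ofNat 1),(.ofNat 1),(.ofNat 0),(.ofNat 0),(.negSucc 1),(.ofNat 2),(.negSucc 0),(.ofNat 0)] .nil (.node [(.negSucc 0),(.negSucc 1),(.ofNat 0),(.ofNat 1),(.ofNat 0),(.ofNat 1),(.negSucc 0),(.ofNat 0)] .nil .nil)))) (.node [(.negSucc 1),(.ofNat 0),(.ofNat 1),(.ofNat 1),(.negSucc 0),(.ofNat 0),(.ofNat 0),(.ofNat 0)] (.node [] (.node [] .nil (.node [(.ofNat 1),(.ofNat 0),(.ofNat 0),(.negSucc 1),(.ofNat 2),(.ofNat 0),(.ofNat 0),(.ofNat 0)] .nil .nil)) (.node [(.ofNat 0),(.negSucc 0),(.negSucc 0),(.ofNat 0),(.ofNat 1),(.ofNat 0),(.ofNat 1),(.ofNat 0)] .nil (.node [(.negSucc 0),(.ofNat 0),(.ofNat 0),(.ofNat 0),(.ofNat 0),(.negSucc 0),(.ofNat 2),(.ofNat 0)] .nil .nil))) (.node [(.ofNat 1),(.ofNat 1),(.ofNat 1),(.negSucc 0),(.ofNat 0),(.negSucc 0),(.ofNat 0),(.ofNat 1)] (.node [] .nil (.node [(.ofNat 1),(.ofNat 1),(.ofNat 1),(.negSucc 1),(.ofNat 1),(.negSucc 0),(.ofNat 0),(.ofNat 1)] .nil .nil)) (.node [(.negSucc 1),(.ofNat 0),(.ofNat 1),(.negSucc 0),(.ofNat 1),(.ofNat 0),(.ofNat 1),(.negSucc 0)] .nil (.node [(.ofNat 0),(.negSucc 0),(.negSucc 0),(.ofNat 1),(.ofNat 1),(.negSucc 0),(.negSucc 0),(.ofNat 1)] .nil .nil)))))) (.node [(.negSucc 0),(.ofNat 1),(.ofNat 1),(.negSucc 0),(.ofNat 0),(.ofNat 1),(.negSucc 0),(.ofNat 1)] (.node [] (.node [] (.node [] (.node [] (.node [] .nil (.node [(.negSucc 0),(.negSucc 0),(.ofNat 0),(.ofNat 0),(.ofNat 1),(.ofNat 0),(.negSucc 0),(.ofNat 1)] .nil .nil)) (.node [(.ofNat 0),(.negSucc 0),(.ofNat 1),(.negSucc 0),(.ofNat 0),(.ofNat 1),(.ofNat 1),(.negSucc 0)] .nil .nil)) (.node [(.ofNat 1),(.ofNat 1),(.negSucc 1),(.ofNat 1),(.negSucc 0),(.ofNat 1),(.ofNat 0),(.negSucc 0)] .nil (.node [(.ofNat 0),(.negSucc 0),(.ofNat 0),(.ofNat 1),(.negSucc 1),(.ofNat 2),(.negSucc 0),(.ofNat 1)] .nil .nil))) (.node [(.ofNat 0),(.negSucc 0),(.ofNat 1),(.ofNat 0),(.ofNat 1),(.negSucc 0),(.ofNat 0),(.negSucc 0)] (.node [] .nil (.node [(.ofNat 0),(.negSucc 0),(.ofNat 1),(.ofNat 0),(.ofNat 1),(.negSucc 1),(.ofNat 0),(.ofNat 1)] .nil .nil)) (.node [(.negSucc 1),(.ofNat 0),(.ofNat 2),(.ofNat 0),(.negSucc 0),(.ofNat 1),(.negSucc 0),(.ofNat 0)] .nil (.node [(.ofNat 1),(.ofNat 0),(.negSucc 0),(.ofNat 1),(.ofNat 0),(.negSucc 1),(.ofNat 1),(.ofNat 0)] .nil .nil)))) (.node [(.ofNat 0),(.ofNat 1),(.ofNat 1),(.negSucc 0),(.negSucc 0),(.ofNat 2),(.negSucc 0),(.ofNat 0)] (.node [] (.node [] .nil (.node [(.ofNat 0),(.ofNat 1),(.ofNat 1),(.negSucc 0),(.negSucc 0),(.ofNat 2),(.negSucc 1),(.ofNat 1)] .nil .nil)) (.node [(.ofNat 0),(.ofNat 2),(.ofNat 1),(.negSucc 0),(.negSucc 0),(.ofNat 0),(.ofNat 1),(.negSucc 0)] .nil (.node [(.ofNat 0),(.ofNat 1),(.ofNat 0),(.negSucc 0),(.ofNat 0),(.ofNat 2),(.negSucc 1),(.ofNat 0)] .nil .nil))) (.node [(.ofNat 0),(.ofNat 0),(.negSucc 0),(.ofNat 0),(.ofNat 2),(.negSucc 0),(.negSucc 0),(.ofNat 1)] (.node [] .nil (.node [(.ofNat 1),(.ofNat 0),(.ofNat 0),(.ofNat 0),(.negSucc 0),(.ofNat 0),(.ofNat 0),(.ofNat 2)] .nil .nil)) (.node [(.ofNat 0),(.ofNat 1),(.negSucc 0),(.ofNat 1),(.negSucc 0),(.negSucc 0),(.ofNat 2),(.negSucc 0)] .nil (.node [(.negSucc 0),(.ofNat 1),(.ofNat 1),(.negSucc 0),(.ofNat 1),(.negSucc 0),(.ofNat 0),(.negSucc 0)] .nil .nil))))) (.node [(.ofNat 1),(.ofNat 0),(.ofNat 1),(.negSucc 0),(.ofNat 0),(.ofNat 1),(.negSucc 0),(.ofNat 0)] (.node [] (.node [] (.node [] (.node [] .nil (.node [(.ofNat 1),(.ofNat 0),(.negSucc 0),(.ofNat 0),(.ofNat 0),(.ofNat 0),(.ofNat 0),(.ofNat 0)] .nil .nil)) (.node [(.ofNat 0),(.ofNat 1),(.ofNat 1),(.negSucc 1),(.ofNat 1),(.ofNat 1),(.negSucc 1),(.ofNat 1)] .nil .nil)) (.node [(.ofNat 1),(.negSucc 0),(.ofNat 0),(.negSucc 0),(.ofNat 1),(.ofNat 0),(.ofNat 1),(.ofNat 0)] .nil (.node [(.ofNat 1),(.ofNat 1),(.negSucc 1),(.ofNat 0),(.ofNat 1),(.negSucc 0),(.ofNat 1),(.negSucc 0)] .nil .nil))) (.node [(.ofNat 2),(.negSucc 0),(.negSucc 0),(.ofNat 0),(.ofNat 0),(.ofNat 1),(.ofNat 0),(.ofNat 0)] (.node [] .nil (.node [(.ofNat 1),(.negSucc 0),(.negSucc 0),(.ofNat 1),(.ofNat 0),(.negSucc 0),(.ofNat 2),(.negSucc 1)] .nil .nil)) (.node [(.negSucc 0),(.negSucc 0),(.ofNat 1),(.ofNat 1),(.negSucc 1),(.ofNat 1),(.ofNat 1),(.negSucc 0)] .nil (.node [(.negSucc 0),(.ofNat 2),(.ofNat 0),(.ofNat 0),(.negSucc 0),(.ofNat 0),(.ofNat 0),(.ofNat 0)] .nil .nil)))) (.node [(.ofNat 2),(.negSucc 0),(.ofNat 0),(.ofNat 0),(.ofNat 0),(.ofNat 0),(.ofNat 0),(.ofNat 0)] (.node [] (.node [] .nil (.node [(.ofNat 0),(.negSucc 0),(.ofNat 1),(.negSucc 0),(.ofNat 1),(.ofNat 1),(.negSucc 0),(.negSucc 0)] .nil .nil)) (.node [(.ofNat 0),(.negSucc 0),(.ofNat 0),(.ofNat 1),(.ofNat 1),(.negSucc 1),(.ofNat 0),(.ofNat 0)] .nil (.node [(.ofNat 2),(.ofNat 0),(.ofNat 0),(.negSucc 0),(.ofNat 0),(.ofNat 1),(.negSucc 0),(.ofNat 0)] .nil .nil))) (.node [(.ofNat 2),(.negSucc 0),(.negSucc 0),(.ofNat 0),(.ofNat 1),(.ofNat 0),(.ofNat 0),(.negSucc 0)] (.node [] .nil (.node [(.ofNat 0),(.ofNat 2),(.negSucc 0),(.ofNat 0),(.negSucc 0),(.ofNat 1),(.ofNat 0),(.negSucc 0)] .nil .nil)) (.node [(.ofNat 0),(.ofNat 1),(.negSucc 0),(.ofNat 1),(.negSucc 0),(.ofNat 1),(.negSucc 1),(.ofNat 1)] .nil (.node [(.ofNat 1),(.ofNat 1),(.negSucc 0),(.negSucc 0),(.ofNat 0),(.ofNat 1),(.ofNat 0),(.ofNat 0)] .nil .nil))))))) (.node [(.negSucc 0),(.ofNat 0),(.ofNat 0),(.ofNat 1),(.negSucc 0),(.ofNat 0),(.ofNat 1),(.ofNat 0)] (.node [] (.node [] (.node [] (.node [] (.node [] (.node [] .nil (.node [(.ofNat 1),(.negSucc 0),(.negSucc 0),(.ofNat 0),(.ofNat 1),(.ofNat 0),(.negSucc 0),(.ofNat 1)] .nil .nil)) (.node [(.negSucc 0),(.negSucc 0),(.ofNat 1),(.ofNat 1),(.ofNat 0),(.negSucc 0),(.negSucc 0),(.ofNat 1)] .nil .nil)) (.node [(.negSucc 0),(.ofNat 1),(.negSucc 0),(.ofNat 0),(.ofNat 1),(.ofNat 0),(.ofNat 0),(.negSucc 0)] .nil (.node [(.ofNat 0),(.ofNat 1),(.ofNat 0),(.ofNat 0),(.negSucc 0),(.negSucc 0),(.ofNat 2),(.ofNat 0)] .nil .nil))) (.node [(.negSucc 0),(.ofNat 1),(.ofNat 0),(.ofNat 0),(.ofNat 0),(.ofNat 0),(.ofNat 1),(.negSucc 1)] (.node [] .nil (.node [(.ofNat 0),(.ofNat 0),(.ofNat 2),(.negSucc 0),(.negSucc 0),(.ofNat 0),(.ofNat 1),(.ofNat 0)] .nil .nil)) (.node [(.ofNat 1),(.ofNat 1),(.ofNat 0),(.negSucc 0),(.ofNat 0),(.ofNat 1),(.ofNat 0),(.negSucc 1)] .nil (.node [(.negSucc 0),(.ofNat 1),(.ofNat 1),(.negSucc 0),(.negSucc 0),(.ofNat 1),(.ofNat 0),(.ofNat 1)] .nil .nil)))) (.node [(.negSucc 0),(.ofNat 0),(.negSucc 0),(.ofNat 1),(.ofNat 0),(.ofNat 0),(.ofNat 1),(.negSucc 0)] (.node [] (.node [] .nil (.node [(.ofNat 0),(.ofNat 1),(.ofNat 1),(.negSucc 1),(.ofNat 2),(.negSucc 0),(.negSucc 0),(.ofNat 1)] .nil .nil)) (.node [(.ofNat 1),(.ofNat 1),(.ofNat 0),(.negSucc 1),(.ofNat 1),(.ofNat 1),(.ofNat 0),(.negSucc 0)] .nil (.node [(.ofNat 0),(.negSucc 0),(.ofNat 0),(.ofNat 1),(.negSucc 0),(.ofNat 1),(.ofNat 0),(.negSucc 1)] .nil .nil))) (.node [(.ofNat 1),(.negSucc 0),(.ofNat 1),(.negSucc 0),(.ofNat 1),(.ofNat 0),(.negSucc 0),(.ofNat 1)] (.node [] .nil (.node [(.negSucc 0),(.negSucc 0),(.ofNat 0),(.ofNat 1),(.negSucc 0),(.ofNat 2),(.negSucc 0),(.negSucc 0)] .nil .nil)) (.node [(.negSucc 1),(.ofNat 1),(.ofNat 0),(.ofNat 0),(.ofNat 0),(.ofNat 1),(.negSucc 0),(.ofNat 0)] .nil (.node [(.ofNat 0),(.negSucc 0),(.negSucc 0),(.ofNat 0),(.ofNat 2),(.negSucc 0),(.ofNat 0),(.ofNat 0)] .nil .nil))))) (.node [(.negSucc 0),(.negSucc 0),(.ofNat 1),(.ofNat 1),(.negSucc 0),(.ofNat 0),(.ofNat 1),(.negSucc 0)] (.node [] (.node [] (.node [] (.node [] .nil (.node [(.ofNat 1),(.ofNat 0),(.ofNat 0),(.ofNat 0),(.ofNat 0),(.negSucc 0),(.ofNat 0),(.ofNat 0)] .nil .nil)) (.node [(.negSucc 0),(.negSucc 0),(.ofNat 1),(.ofNat 1),(.ofNat 0),(.negSucc 0),(.ofNat 0),(.negSucc 0)] .nil .nil)) (.node [(.negSucc 0),(.ofNat 1),(.ofNat 1),(.negSucc 1),(.ofNat 1),(.ofNat 0),(.ofNat 1),(.ofNat 0)] .nil (.node [(.ofNat 0),(.ofNat 0),(.ofNat 1),(.negSucc 1),(.ofNat 2),(.negSucc 0),(.ofNat 0),(.ofNat 1)] .nil .nil))) (.node [(.ofNat 1),(.ofNat 0),(.ofNat 0),(.negSucc 0),(.ofNat 1),(.ofNat 1),(.negSucc 0),(.negSucc 0)] (.node [] .nil (.node [(.ofNat 2),(.ofNat 0),(.negSucc 1),(.ofNat 0),(.ofNat 1),(.ofNat 0),(.negSucc 0),(.ofNat 1)] .nil .nil)) (.node [(.ofNat 2),(.negSucc 0),(.negSucc 1),(.ofNat 1),(.ofNat 0),(.ofNat 0),(.ofNat 1),(.negSucc 0)] .nil (.node [(.ofNat 1),(.ofNat 1),(.ofNat 0),(.negSucc 0),(.ofNat 0),(.ofNat 1),(.negSucc 1),(.ofNat 1)] .nil .nil)))) (.node [(.ofNat 0),(.ofNat 0),(.ofNat 2),(.negSucc 1),(.ofNat 1),(.ofNat 0),(.ofNat 0),(.ofNat 0)] (.node [] (.node [] .nil (.node [(.ofNat 0),(.negSucc 0),(.ofNat 1),(.negSucc 0),(.ofNat 2),(.negSucc 0),(.negSucc 0),(.ofNat 1)] .nil .nil)) (.node [(.ofNat 1),(.negSucc 0),(.ofNat 0),(.ofNat 0),(.negSucc 0),(.ofNat 2),(.negSucc 0),(.ofNat 1)] .nil (.node [(.ofNat 0),(.ofNat 0),(.ofNat 1),(.ofNat 0),(.negSucc 1),(.ofNat 2),(.negSucc 0),(.ofNat 0)] .nil .nil))) (.node [(.ofNat 0),(.ofNat 0),(.negSucc 0),(.ofNat 2),(.negSucc 1),(.ofNat 1),(.negSucc 0),(.ofNat 1)] (.node [] .nil (.node [(.ofNat 0),(.ofNat 0),(.negSucc 0),(.ofNat 0),(.ofNat 0),(.ofNat 2),(.negSucc 1),(.ofNat 1)] .nil .nil)) (.node [(.negSucc 0),(.ofNat 0),(.ofNat 2),(.negSucc 0),(.negSucc 0),(.ofNat 2),(.negSucc 0),(.ofNat 0)] .nil (.node [(.negSucc 0),(.ofNat 0),(.negSucc 0),(.ofNat 0),(.ofNat 1),(.ofNat 0),(.ofNat 0),(.ofNat 0)] .nil .nil)))))) (.node [(.ofNat 1),(.ofNat 1),(.ofNat 0),(.negSucc 0),(.ofNat 1),(.ofNat 0),(.negSucc 0),(.ofNat 0)] (.node [] (.node [] (.node [] (.node [] (.node [] .nil (.node [(.ofNat 0),(.negSucc 0),(.ofNat 1),(.ofNat 0),(.ofNat 0),(.ofNat 0),(.negSucc 0),(.ofNat 0)] .nil .nil)) (.node [(.ofNat 0),(.negSucc 0),(.ofNat 1),(.negSucc 0),(.ofNat 1),(.negSucc 0),(.ofNat 1),(.ofNat 1)] .nil .nil)) (.node [(.ofNat 0),(.ofNat 0),(.ofNat 1),(.ofNat 0),(.negSucc 0),(.negSucc 0),(.ofNat 2),(.ofNat 0)] .nil (.node [(.negSucc 0),(.ofNat 1),(.ofNat 2),(.negSucc 0),(.negSucc 0),(.ofNat 0),(.ofNat 0),(.ofNat 1)] .nil .nil))) (.node [(.ofNat 1),(.ofNat 0),(.ofNat 0),(.negSucc 0),(.ofNat 1),(.ofNat 0),(.ofNat 1),(.negSucc 1)] (.node [] .nil (.node [(.ofNat 2),(.negSucc 0),(.ofNat 0),(.ofNat 0),(.ofNat 0),(.ofNat 0),(.negSucc 0),(.ofNat 1)] .nil .nil)) (.node [(.negSucc 0),(.ofNat 1),(.ofNat 1),(.ofNat 0),(.negSucc 0),(.negSucc 0),(.ofNat 1),(.ofNat 1)] .nil (.node [(.negSucc 0),(.ofNat 0),(.ofNat 0),(.ofNat 0),(.ofNat 1),(.ofNat 0),(.negSucc 1),(.ofNat 1)] .nil .nil)))) (.node [(.ofNat 0),(.ofNat 1),(.ofNat 1),(.negSucc 0),(.ofNat 0),(.ofNat 0),(.negSucc 0),(.ofNat 2)] (.node [] (.node [] .nil (.node [(.ofNat 0),(.ofNat 1),(.ofNat 1),(.negSucc 0),(.ofNat 0),(.negSucc 0),(.ofNat 0),(.ofNat 2)] .nil .nil)) (.node [(.negSucc 0),(.negSucc 1),(.ofNat 0),(.ofNat 1),(.ofNat 0),(.ofNat 1),(.ofNat 0),(.negSucc 0)] .nil (.node [(.ofNat 2),(.negSucc 0),(.negSucc 0),(.ofNat 1),(.negSucc 0),(.ofNat 1),(.negSucc 0),(.ofNat 0)] .nil .nil))) (.node [(.negSucc 1),(.ofNat 0),(.ofNat 0),(.ofNat 1),(.ofNat 0),(.ofNat 0),(.ofNat 0),(.negSucc 0)] (.node [] .nil (.node [(.negSucc 0),(.negSucc 1),(.ofNat 1),(.ofNat 1),(.negSucc 0),(.ofNat 1),(.negSucc 0),(.ofNat 1)] .nil .nil)) (.node [(.ofNat 0),(.ofNat 2),(.ofNat 0),(.negSucc 0),(.ofNat 0),(.negSucc 0),(.ofNat 1),(.ofNat 1)] .nil (.node [(.ofNat 0),(.ofNat 1),(.negSucc 0),(.ofNat 0),(.ofNat 0),(.ofNat 1),(.negSucc 0),(.negSucc 0)] .nil .nil))))) (.node [(.ofNat 0),(.ofNat 2),(.ofNat 0),(.negSucc 0),(.ofNat 0),(.ofNat 1),(.negSucc 0),(.ofNat 0)] (.node [] (.node [] (.node [] .nil (.node [(.ofNat 0),(.negSucc 0),(.ofNat 1),(.negSucc 0),(.ofNat 1),(.ofNat 0),(.negSucc 0),(.ofNat 2)] .nil .nil)) (.node [(.ofNat 0),(.negSucc 0),(.ofNat 0),(.ofNat 2),(.negSucc 1),(.ofNat 0),(.ofNat 0),(.ofNat 1)] .nil (.node [(.ofNat 0),(.ofNat 0),(.negSucc 0),(.ofNat 1),(.negSucc 0),(.ofNat 2),(.negSucc 1),(.ofNat 0)] .nil .nil))) (.node [(.ofNat 0),(.negSucc 0),(.ofNat 0),(.negSucc 0),(.ofNat 2),(.ofNat 0),(.ofNat 0),(.ofNat 0)] (.node [] .nil (.node [(.negSucc 0),(.ofNat 2),(.ofNat 1),(.negSucc 1),(.ofNat 1),(.ofNat 0),(.ofNat 0),(.negSucc 0)] .nil .nil)) (.node [(.ofNat 0),(.ofNat 2),(.ofNat 0),(.negSucc 0),(.negSucc 0),(.ofNat 1),(.ofNat 0),(.ofNat 1)] .nil (.node [(.ofNat 1),(.negSucc 0),(.ofNat 0),(.ofNat 1),(.negSucc 1),(.ofNat 1),(.ofNat 0),(.ofNat 0)] .nil .nil)))) (.node [(.ofNat 2),(.ofNat 0),(.negSucc 1),(.ofNat 0),(.ofNat 1),(.ofNat 0),(.ofNat 0),(.ofNat 0)] (.node [] (.node [] .nil (.node [(.ofNat 0),(.ofNat 0),(.ofNat 0),(.ofNat 1),(.negSucc 0),(.ofNat 1),(.negSucc 1),(.ofNat 0)] .nil .nil)) (.node [(.ofNat 2),(.ofNat 0),(.ofNat 0),(.ofNat 0),(.negSucc 0),(.ofNat 1),(.negSucc 0),(.ofNat 0)] .nil (.node [(.ofNat 1),(.ofNat 2),(.negSucc 0),(.negSucc 0),(.ofNat 0),(.ofNat 1),(.negSucc 0),(.ofNat 0)] .nil .nil))) (.node [(.negSucc 0),(.ofNat 1),(.ofNat 2),(.negSucc 0),(.ofNat 0),(.negSucc 0),(.ofNat 0),(.ofNat 1)] (.node [] .nil (.node [(.negSucc 1),(.negSucc 0),(.ofNat 1),(.ofNat 0),(.ofNat 0),(.ofNat 0),(.ofNat 1),(.ofNat 0)] .nil .nil)) (.node [(.ofNat 0),(.ofNat 2),(.ofNat 0),(.negSucc 0),(.ofNat 0),(.ofNat 0),(.negSucc 0),(.ofNat 2)] .nil (.node [(.ofNat 0),(.negSucc 0),(.ofNat 1),(.negSucc 0),(.ofNat 1),(.negSucc 0),(.ofNat 1),(.ofNat 0)] .nil .nil))))))))))) (.node [(.negSucc 0),(.ofNat 0),(.ofNat 1),(.ofNat 0),(.ofNat 0),(.ofNat 0),(.ofNat 0),(.ofNat 0)] (.node [] (.node [] (.node [] (.node [] (.node [] (.node [] (.node [] (.node [] (.node [] (.node [] .nil (.node [(.negSucc 0),(.ofNat 0),(.negSucc 0),(.ofNat 1),(.ofNat 0),(.negSucc 0),(.ofNat 1),(.ofNat 0)] .nil .nil)) (.node [(.ofNat 0),(.ofNat 0),(.ofNat 0),(.negSucc 0),(.ofNat 2),(.negSucc 0),(.negSucc 0),(.ofNat 2)] .nil .nil)) (.node [(.ofNat 1),(.negSucc 0),(.negSucc 1),(.ofNat 1),(.ofNat 1),(.ofNat 0),(.negSucc 0),(.ofNat 1)] .nil (.node [(.negSucc 0),(.negSucc 0),(.ofNat 0),(.ofNat 2),(.negSucc 0),(.negSucc 0),(.ofNat 1),(.negSucc 0)] .nil .nil))) (.node [(.negSucc 0),(.negSucc 0),(.ofNat 0),(.ofNat 0),(.ofNat 2),(.negSucc 0),(.ofNat 0),(.ofNat 0)] (.node [] .nil (.node [(.ofNat 2),(.ofNat 1),(.ofNat 0),(.negSucc 0),(.ofNat 0),(.ofNat 0),(.negSucc 0),(.ofNat 1)] .nil .nil)) (.node [(.negSucc 0),(.ofNat 1),(.ofNat 1),(.ofNat 0),(.negSucc 1),(.ofNat 1),(.ofNat 0),(.ofNat 1)] .nil (.node [(.negSucc 1),(.ofNat 1),(.ofNat 1),(.ofNat 0),(.ofNat 0),(.negSucc 0),(.ofNat 0),(.ofNat 0)] .nil .nil)))) (.node [(.ofNat 0),(.ofNat 0),(.ofNat 0),(.negSucc 0),(.ofNat 2),(.ofNat 0),(.negSucc 0),(.ofNat 0)] (.node [] (.node [] .nil (.node [(.ofNat 0),(.ofNat 0),(.ofNat 0),(.ofNat 1),(.negSucc 1),(.ofNat 1),(.ofNat 1),(.negSucc 1)] .nil .nil)) (.node [(.ofNat 0),(.negSucc 0),(.ofNat 0),(.ofNat 1),(.negSucc 0),(.ofNat 0),(.ofNat 2),(.negSucc 1)] .nil (.node [(.ofNat 0),(.ofNat 1),(.ofNat 0),(.ofNat 0),(.ofNat 0),(.negSucc 1),(.ofNat 2),(.negSucc 0)] .nil .nil))) (.node [(.negSucc 0),(.ofNat 0),(.ofNat 1),(.negSucc 0),(.ofNat 2),(.negSucc 0),(.negSucc 0),(.ofNat 1)] (.node [] .nil (.node [(.negSucc 0),(.ofNat 2),(.ofNat 1),(.negSucc 0),(.negSucc 0),(.ofNat 1),(.negSucc 0),(.ofNat 1)] .nil .nil)) (.node [(.ofNat 0),(.negSucc 0),(.negSucc 0),(.ofNat 1),(.ofNat 1),(.negSucc 1),(.ofNat 1),(.ofNat 1)] .nil (.node [(.ofNat 1),(.ofNat 1),(.ofNat 0),(.negSucc 0),(.ofNat 0),(.ofNat 1),(.negSucc 0),(.negSucc 0)] .nil .nil))))) (.node [(.ofNat 1),(.negSucc 0),(.ofNat 0),(.ofNat 0),(.ofNat 1),(.negSucc 0),(.ofNat 1),(.negSucc 0)] (.node [] (.node [] (.node [] (.node [] .nil (.node [(.ofNat 1),(.ofNat 0),(.ofNat 0),(.negSucc 0),(.ofNat 0),(.ofNat 1),(.ofNat 0),(.negSucc 0)] .nil .nil)) (.node [(.ofNat 0),(.ofNat 0),(.ofNat 0),(.negSucc 0),(.ofNat 2),(.negSucc 0),(.ofNat 1),(.negSucc 1)] .nil .nil)) (.node [(.negSucc 0),(.ofNat 0),(.ofNat 1),(.ofNat 1),(.negSucc 0),(.ofNat 0),(.negSucc 0),(.ofNat 0)] .nil (.node [(.ofNat 2),(.ofNat 1),(.negSucc 0),(.ofNat 0),(.negSucc 0),(.ofNat 0),(.ofNat 0),(.ofNat 1)] .nil .nil))) (.node [(.negSucc 0),(.ofNat 0),(.ofNat 1),(.ofNat 0),(.negSucc 0),(.ofNat 0),(.ofNat 1),(.ofNat 1)] (.node [] .nil (.node [(.ofNat 0),(.negSucc 0),(.negSucc 1),(.ofNat 2),(.negSucc 0),(.ofNat 1),(.ofNat 0),(.ofNat 0)] .nil .nil)) (.node [(.negSucc 0),(.negSucc 0),(.ofNat 1),(.ofNat 0),(.ofNat 1),(.negSucc 1),(.ofNat 1),(.ofNat 1)] .nil (.node [(.ofNat 0),(.ofNat 0),(.negSucc 1),(.ofNat 1),(.ofNat 0),(.ofNat 1),(.negSucc 0),(.ofNat 0)] .nil .nil)))) (.node [(.ofNat 0),(.ofNat 0),(.ofNat 0),(.ofNat 1),(.negSucc 0),(.ofNat 0),(.ofNat 1),(.negSucc 1)] (.node [] (.node [] .nil (.node [(.ofNat 0),(.ofNat 0),(.ofNat 0),(.ofNat 0),(.ofNat 1),(.ofNat 0),(.negSucc 1),(.ofNat 0)] .nil .nil)) (.node [(.negSucc 0),(.ofNat 0),(.ofNat 0),(.ofNat 1),(.negSucc 1),(.ofNat 2),(.ofNat 0),(.negSucc 0)] .nil (.node [(.ofNat 2),(.ofNat 0),(.ofNat 0),(.negSucc 0),(.ofNat 0),(.ofNat 0),(.ofNat 1),(.negSucc 0)] .nil .nil))) (.node [(.ofNat 2),(.ofNat 1),(.negSucc 0),(.ofNat 0),(.negSucc 0),(.ofNat 1),(.negSucc 0),(.ofNat 1)] (.node [] .nil (.node [(.ofNat 1),(.negSucc 0),(.ofNat 1),(.negSucc 0),(.ofNat 0),(.ofNat 1),(.negSucc 0),(.ofNat 1)] .nil .nil)) (.node [(.ofNat 0),(.negSucc 0),(.negSucc 0),(.ofNat 1),(.ofNat 1),(.negSucc 0),(.negSucc 0),(.ofNat 2)] .nil (.node [(.ofNat 0),(.ofNat 0),(.ofNat 0),(.negSucc 0),(.ofNat 1),(.negSucc 0),(.ofNat 2),(.negSucc 0)] .nil .nil)))))) (.node [(.ofNat 1),(.ofNat 0),(.negSucc 0),(.ofNat 1),(.negSucc 0),(.ofNat 1),(.ofNat 0),(.negSucc 0)] (.node [] (.node [] (.node [] (.node [] (.node [] .nil (.node [(.negSucc 0),(.ofNat 1),(.ofNat 0),(.negSucc 0),(.ofNat 1),(.ofNat 0),(.negSucc 0),(.ofNat 1)] .nil .nil)) (.node [(.negSucc 0),(.ofNat 1),(.ofNat 1),(.ofNat 0),(.ofNat 0),(.negSucc 0),(.ofNat 0),(.negSucc 0)] .nil .nil)) (.node [(.ofNat 2),(.negSucc 0),(.negSucc 0),(.ofNat 1),(.negSucc 0),(.ofNat 1),(.ofNat 0),(.negSucc 0)] .nil (.node [(.negSucc 0),(.ofNat 2),(.ofNat 1),(.negSucc 0),(.ofNat 0),(.ofNat 0),(.negSucc 0),(.ofNat 0)] .nil .nil))) (.node [(.negSucc 1),(.ofNat 0),(.ofNat 0),(.ofNat 0),(.ofNat 1),(.ofNat 0),(.ofNat 0),(.ofNat 0)] (.node [] .nil (.node [(.ofNat 2),(.ofNat 0),(.negSucc 1),(.ofNat 0),(.ofNat 1),(.negSucc 0),(.ofNat 1),(.ofNat 0)] .nil .nil)) (.node [(.ofNat 0),(.negSucc 1),(.ofNat 1),(.ofNat 1),(.negSucc 0),(.ofNat 1),(.negSucc 0),(.ofNat 0)] .nil (.node [(.negSucc 0),(.negSucc 0),(.ofNat 1),(.negSucc 0),(.ofNat 1),(.ofNat 0),(.ofNat 0),(.ofNat 1)] .nil .nil)))) (.node [(.ofNat 0),(.negSucc 0),(.ofNat 1),(.ofNat 0),(.negSucc 0),(.ofNat 1),(.ofNat 0),(.ofNat 1)] (.node [] (.node [] .nil (.node [(.ofNat 0),(.ofNat 2),(.ofNat 0),(.negSucc 0),(.ofNat 1),(.negSucc 0),(.ofNat 0),(.negSucc 0)] .nil .nil)) (.node [(.ofNat 1),(.negSucc 1),(.negSucc 0),(.ofNat 1),(.ofNat 1),(.negSucc 0),(.ofNat 0),(.ofNat 1)] .nil (.node [(.ofNat 1),(.ofNat 1),(.negSucc 1),(.ofNat 1),(.negSucc 0),(.ofNat 0),(.ofNat 1),(.negSucc 0)] .nil .nil))) (.node [(.negSucc 0),(.negSucc 0),(.ofNat 2),(.negSucc 0),(.ofNat 1),(.negSucc 0),(.ofNat 1),(.ofNat 0)] (.node [] .nil (.node [(.ofNat 1),(.ofNat 0),(.ofNat 0),(.negSucc 0),(.ofNat 0),(.ofNat 2),(.negSucc 0),(.negSucc 0)] .nil .nil)) (.node [(.negSucc 0),(.negSucc 1),(.ofNat 0),(.ofNat 2),(.ofNat 0),(.negSucc 0),(.ofNat 0),(.ofNat 0)] .nil (.node [(.ofNat 1),(.negSucc 0),(.ofNat 0),(.ofNat 0),(.ofNat 0),(.ofNat 1),(.negSucc 0),(.negSucc 0)] .nil .nil))))) (.node [(.ofNat 0),(.ofNat 0),(.ofNat 0),(.negSucc 0),(.ofNat 1),(.ofNat 1),(.ofNat 0),(.negSucc 0)] (.node [] (.node [] (.node [] (.node [] .nil (.node [(.negSucc 0),(.ofNat 0),(.ofNat 1),(.ofNat 0),(.ofNat 0),(.negSucc 0),(.ofNat 0),(.ofNat 0)] .nil .nil)) (.node [(.ofNat 0),(.negSucc 0),(.ofNat 1),(.negSucc 0),(.ofNat 0),(.ofNat 2),(.negSucc 0),(.ofNat 0)] .nil .nil)) (.node [(.negSucc 0),(.ofNat 0),(.ofNat 0),(.ofNat 0),(.ofNat 1),(.negSucc 1),(.ofNat 2),(.ofNat 0)] .nil (.node [(.ofNat 0),(.ofNat 0),(.ofNat 1),(.negSucc 0),(.negSucc 0),(.ofNat 2),(.negSucc 0),(.ofNat 1)] .nil .nil))) (.node [(.negSucc 0),(.ofNat 0),(.ofNat 1),(.ofNat 0),(.negSucc 0),(.ofNat 0),(.ofNat 2),(.negSucc 0)] (.node [] .nil (.node [(.negSucc 0),(.negSucc 0),(.ofNat 0),(.ofNat 0),(.ofNat 1),(.ofNat 1),(.negSucc 0),(.negSucc 0)] .nil .nil)) (.node [(.ofNat 2),(.ofNat 1),(.negSucc 1),(.ofNat 0),(.ofNat 0),(.ofNat 1),(.negSucc 0),(.ofNat 0)] .nil (.node [(.ofNat 0),(.ofNat 1),(.negSucc 0),(.ofNat 0),(.negSucc 0),(.ofNat 1),(.ofNat 1),(.negSucc 0)] .nil .nil)))) (.node [(.ofNat 0),(.ofNat 1),(.ofNat 1),(.ofNat 0),(.negSucc 0),(.negSucc 0),(.ofNat 1),(.ofNat 0)] (.node [] (.node [] .nil (.node [(.ofNat 0),(.negSucc 1),(.ofNat 0),(.ofNat 1),(.ofNat 1),(.negSucc 0),(.ofNat 0),(.negSucc 0)] .nil .nil)) (.node [(.ofNat 1),(.negSucc 0),(.ofNat 0),(.ofNat 0),(.ofNat 0),(.negSucc 0),(.ofNat 2),(.ofNat 0)] .nil (.node [(.ofNat 1),(.negSucc 0),(.negSucc 1),(.ofNat 2),(.negSucc 0),(.ofNat 1),(.negSucc 0),(.ofNat 0)] .nil .nil))) (.node [(.negSucc 0),(.ofNat 0),(.ofNat 1),(.ofNat 0),(.ofNat 1),(.negSucc 1),(.ofNat 1),(.negSucc 0)] (.node [] .nil (.node [(.negSucc 0),(.ofNat 0),(.ofNat 1),(.negSucc 0),(.ofNat 1),(.negSucc 0),(.ofNat 2),(.negSucc 1)] .nil .nil)) (.node [(.ofNat 0),(.negSucc 0),(.negSucc 0),(.ofNat 2),(.negSucc 1),(.ofNat 2),(.negSucc 0),(.ofNat 0)] .nil (.node [(.ofNat 0),(.negSucc 0),(.negSucc 0),(.ofNat 1),(.ofNat 1),(.negSucc 0),(.ofNat 0),(.negSucc 0)] .nil .nil))))))) (.node [(.ofNat 0),(.ofNat 0),(.ofNat 1),(.ofNat 0),(.negSucc 0),(.ofNat 0),(.ofNat 1),(.ofNat 0)] (.node [] (.node [] (.node [] (.node [] (.node [] (.node [] .nil (.node [(.ofNat 0),(.negSucc 0),(.ofNat 1),(.ofNat 0),(.negSucc 0),(.ofNat 0),(.ofNat 1),(.ofNat 0)] .nil .nil)) (.node [(.ofNat 2),(.ofNat 0),(.negSucc 0),(.ofNat 0),(.ofNat 0),(.ofNat 0),(.negSucc 0),(.ofNat 2)] .nil .nil)) (.node [(.ofNat 0),(.negSucc 1),(.ofNat 1),(.ofNat 0),(.ofNat 0),(.ofNat 0),(.ofNat 1),(.ofNat 0)] .nil (.node [(.negSucc 0),(.ofNat 0),(.ofNat 1),(.negSucc 0),(.ofNat 2),(.negSucc 1),(.ofNat 1),(.negSucc 0)] .nil .nil))) (.node [(.ofNat 0),(.negSucc 0),(.ofNat 1),(.ofNat 0),(.ofNat 0),(.ofNat 1),(.negSucc 0),(.negSucc 0)] (.node [] .nil (.node [(.negSucc 0),(.negSucc 1),(.ofNat 1),(.ofNat 0),(.ofNat 0),(.ofNat 1),(.ofNat 0),(.ofNat 0)] .nil .nil)) (.node [(.ofNat 1),(.negSucc 1),(.negSucc 0),(.ofNat 2),(.negSucc 0),(.ofNat 0),(.ofNat 1),(.negSucc 0)] .nil (.node [(.negSucc 0),(.ofNat 1),(.ofNat 1),(.negSucc 1),(.ofNat 1),(.ofNat 0),(.ofNat 1),(.negSucc 0)] .nil .nil)))) (.node [(.ofNat 0),(.ofNat 2),(.ofNat 0),(.negSucc 0),(.ofNat 1),(.negSucc 0),(.ofNat 0),(.ofNat 0)] (.node [] (.node [] .nil (.node [(.negSucc 1),(.negSucc 1),(.ofNat 1),(.ofNat 1),(.ofNat 0),(.ofNat 0),(.ofNat 0),(.ofNat 0)] .nil .nil)) (.node [(.ofNat 0),(.ofNat 0),(.negSucc 1),(.ofNat 1),(.ofNat 0),(.ofNat 1),(.negSucc 0),(.ofNat 1)] .nil (.node [(.ofNat 0),(.ofNat 0),(.ofNat 1),(.ofNat 0),(.negSucc 1),(.ofNat 1),(.ofNat 0),(.ofNat 1)] .nil .nil))) (.node [(.ofNat 0),(.ofNat 1),(.ofNat 0),(.negSucc 0),(.ofNat 0),(.ofNat 0),(.ofNat 1),(.ofNat 1)] (.node [] .nil (.node [(.ofNat 1),(.negSucc 0),(.negSucc 0),(.ofNat 2),(.negSucc 0),(.negSucc 0),(.ofNat 0),(.ofNat 1)] .nil .nil)) (.node [(.ofNat 1),(.negSucc 0),(.ofNat 0),(.ofNat 0),(.ofNat 1),(.ofNat 0),(.negSucc 1),(.ofNat 1)] .nil (.node [(.negSucc 1),(.ofNat 1),(.ofNat 0),(.ofNat 0),(.ofNat 0),(.ofNat 0),(.ofNat 0),(.ofNat 0)] .nil .nil))))) (.node [(.ofNat 0),(.negSucc 0),(.negSucc 0),(.ofNat 1),(.ofNat 0),(.ofNat 1),(.ofNat 0),(.negSucc 0)] (.node [] (.node [] (.node [] (.node [] .nil (.node [(.ofNat 1),(.ofNat 0),(.ofNat 0),(.negSucc 0),(.ofNat 1),(.ofNat 0),(.negSucc 0),(.ofNat 0)] .nil .nil)) (.node [(.negSucc 1),(.negSucc 0),(.ofNat 0),(.ofNat 2),(.negSucc 0),(.ofNat 0),(.ofNat 0),(.ofNat 0)] .nil .nil)) (.node [(.negSucc 1),(.negSucc 0),(.ofNat 1),(.ofNat 1),(.negSucc 0),(.ofNat 1),(.ofNat 0),(.negSucc 0)] .nil (.node [(.ofNat 0),(.ofNat 1),(.ofNat 0),(.ofNat 0),(.negSucc 0),(.ofNat 1),(.negSucc 1),(.ofNat 2)] .nil .nil))) (.node [(.ofNat 1),(.negSucc 1),(.ofNat 0),(.ofNat 1),(.ofNat 0),(.negSucc 0),(.ofNat 1),(.ofNat 0)] (.node [] .nil (.node [(.ofNat 1),(.negSucc 0),(.negSucc 0),(.ofNat 0),(.ofNat 2),(.negSucc 0),(.ofNat 0),(.negSucc 0)] .nil .nil)) (.node [(.ofNat 1),(.ofNat 1),(.ofNat 0),(.ofNat 0),(.negSucc 0),(.negSucc 0),(.ofNat 2),(.negSucc 0)] .nil (.node [(.ofNat 0),(.ofNat 0),(.ofNat 1),(.ofNat 0),(.ofNat 0),(.negSucc 0),(.ofNat 0),(.negSucc 0)] .nil .nil)))) (.node [(.ofNat 1),(.negSucc 0),(.negSucc 0),(.ofNat 1),(.negSucc 0),(.ofNat 1),(.ofNat 1),(.negSucc 0)] (.node [] (.node [] .nil (.node [(.negSucc 0),(.ofNat 0),(.negSucc 0),(.ofNat 2),(.negSucc 0),(.negSucc 0),(.ofNat 1),(.ofNat 0)] .nil .nil)) (.node [(.negSucc 0),(.ofNat 0),(.ofNat 0),(.ofNat 1),(.negSucc 0),(.ofNat 1),(.negSucc 1),(.ofNat 2)] .nil (.node [(.negSucc 0),(.ofNat 1),(.negSucc 0),(.ofNat 0),(.ofNat 1),(.ofNat 0),(.negSucc 0),(.ofNat 0)] .nil .nil))) (.node [(.negSucc 0),(.negSucc 0),(.ofNat 2),(.ofNat 0),(.negSucc 0),(.ofNat 0),(.ofNat 1),(.ofNat 0)] (.node [] .nil (.node [(.negSucc 1),(.ofNat 1),(.ofNat 1),(.negSucc 0),(.ofNat 0),(.ofNat 0),(.ofNat 1),(.ofNat 0)] .nil .nil)) (.node [(.ofNat 1),(.negSucc 0),(.ofNat 0),(.ofNat 0),(.ofNat 1),(.ofNat 0),(.negSucc 0),(.negSucc 0)] .nil (.node [(.ofNat 0),(.negSucc 0),(.negSucc 0),(.ofNat 2),(.negSucc 0),(.negSucc 0),(.ofNat 1),(.ofNat 0)] .nil .nil)))))) (.node [(.negSucc 0),(.negSucc 0),(.ofNat 1),(.ofNat 0),(.ofNat 0),(.ofNat 0),(.ofNat 1),(.ofNat 0)] (.node [] (.node [] (.node [] (.node [] (.node [] .nil (.node [(.negSucc 0),(.negSucc 0),(.ofNat 0),(.ofNat 1),(.negSucc 0),(.ofNat 0),(.ofNat 1),(.ofNat 0)] .nil .nil)) (.node [(.ofNat 0),(.negSucc 1),(.ofNat 0),(.ofNat 1),(.ofNat 0),(.negSucc 0),(.ofNat 2),(.negSucc 0)] .nil .nil)) (.node [(.ofNat 1),(.ofNat 1),(.ofNat 1),(.negSucc 0),(.ofNat 0),(.ofNat 0),(.negSucc 0),(.ofNat 0)] .nil (.node [(.negSucc 1),(.negSucc 0),(.ofNat 1),(.ofNat 0),(.ofNat 0),(.ofNat 1),(.negSucc 0),(.ofNat 1)] .nil .nil))) (.node [(.ofNat 1),(.ofNat 0),(.ofNat 0),(.negSucc 0),(.ofNat 2),(.negSucc 1),(.ofNat 1),(.ofNat 0)] (.node [] .nil (.node [(.negSucc 0),(.negSucc 0),(.ofNat 0),(.ofNat 0),(.ofNat 1),(.ofNat 0),(.ofNat 1),(.negSucc 1)] .nil .nil)) (.node [(.negSucc 0),(.negSucc 0),(.ofNat 1),(.negSucc 0),(.ofNat 2),(.negSucc 0),(.ofNat 1),(.negSucc 0)] .nil (.node [(.negSucc 0),(.negSucc 0),(.negSucc 0),(.ofNat 2),(.ofNat 0),(.negSucc 0),(.ofNat 0),(.ofNat 0)] .nil .nil)))) (.node [(.ofNat 0),(.ofNat 0),(.ofNat 0),(.ofNat 1),(.ofNat 0),(.negSucc 1),(.ofNat 1),(.ofNat 0)] (.node [] (.node [] .nil (.node [(.ofNat 0),(.negSucc 1),(.ofNat 0),(.ofNat 1),(.ofNat 0),(.ofNat 1),(.negSucc 0),(.negSucc 0)] .nil .nil)) (.node [(.ofNat 0),(.ofNat 1),(.ofNat 0),(.ofNat 1),(.negSucc 1),(.ofNat 1),(.negSucc 0),(.ofNat 0)] .nil (.node [(.ofNat 0),(.ofNat 1),(.ofNat 0),(.ofNat 0),(.ofNat 0),(.negSucc 0),(.ofNat 1),(.negSucc 1)] .nil .nil))) (.node [(.ofNat 0),(.ofNat 1),(.ofNat 0),(.ofNat 0),(.ofNat 0),(.negSucc 1),(.ofNat 2),(.ofNat 0)] (.node [] .nil (.node [(.ofNat 0),(.negSucc 0),(.negSucc 1),(.ofNat 2),(.ofNat 0),(.ofNat 0),(.negSucc 0),(.ofNat 1)] .nil .nil)) (.node [(.negSucc 0),(.negSucc 0),(.ofNat 1),(.ofNat 0),(.ofNat 1),(.ofNat 0),(.negSucc 1),(.ofNat 1)] .nil (.node [(.negSucc 0),(.ofNat 1),(.ofNat 1),(.ofNat 0),(.negSucc 0),(.ofNat 0),(.negSucc 0),(.ofNat 1)] .nil .nil))))) (.node [(.negSucc 0),(.ofNat 0),(.ofNat 2),(.negSucc 0),(.ofNat 0),(.ofNat 0),(.ofNat 1),(.negSucc 0)] (.node [] (.node [] (.node [] .nil (.node [(.ofNat 0),(.ofNat 2),(.ofNat 0),(.negSucc 0),(.ofNat 0),(.ofNat 1),(.negSucc 0),(.negSucc 0)] .nil .nil)) (.node [(.ofNat 1),(.ofNat 0),(.negSucc 0),(.ofNat 0),(.ofNat 1),(.ofNat 0),(.negSucc 1),(.ofNat 2)] .nil (.node [(.ofNat 2),(.ofNat 1),(.negSucc 0),(.negSucc 0),(.ofNat 1),(.ofNat 0),(.negSucc 0),(.ofNat 0)] .nil .nil))) (.node [(.ofNat 1),(.ofNat 1),(.ofNat 1),(.negSucc 1),(.ofNat 1),(.ofNat 0),(.negSucc 0),(.ofNat 1)] (.node [] .nil (.node [(.negSucc 0),(.ofNat 0),(.ofNat 1),(.negSucc 0),(.ofNat 0),(.ofNat 1),(.negSucc 0),(.ofNat 2)] .nil .nil)) (.node [(.ofNat 0),(.ofNat 1),(.negSucc 0),(.ofNat 1),(.negSucc 1),(.ofNat 1),(.ofNat 1),(.negSucc 0)] .nil (.node [(.ofNat 0),(.negSucc 0),(.ofNat 2),(.negSucc 0),(.ofNat 0),(.ofNat 0),(.ofNat 0),(.ofNat 0)] .nil .nil)))) (.node [(.negSucc 0),(.negSucc 0),(.ofNat 0),(.ofNat 1),(.negSucc 0),(.ofNat 1),(.ofNat 1),(.negSucc 0)] (.node [] (.node [] .nil (.node [(.ofNat 0),(.ofNat 0),(.ofNat 0),(.ofNat 1),(.ofNat 0),(.negSucc 1),(.ofNat 1),(.negSucc 0)] .nil .nil)) (.node [(.negSucc 0),(.ofNat 0),(.ofNat 0),(.ofNat 0),(.ofNat 0),(.ofNat 0),(.ofNat 0),(.ofNat 2)] .nil (.node [(.ofNat 1),(.ofNat 0),(.negSucc 0),(.ofNat 1),(.negSucc 0),(.negSucc 0),(.ofNat 1),(.ofNat 1)] .nil .nil))) (.node [(.negSucc 1),(.negSucc 0),(.ofNat 1),(.ofNat 0),(.ofNat 1),(.ofNat 0),(.negSucc 0),(.ofNat 1)] (.node [] .nil (.node [(.ofNat 1),(.ofNat 2),(.ofNat 0),(.negSucc 0),(.ofNat 0),(.ofNat 0),(.negSucc 0),(.ofNat 0)] .nil .nil)) (.node [(.negSucc 0),(.negSucc 0),(.ofNat 1),(.ofNat 0),(.ofNat 1),(.ofNat 0),(.negSucc 0),(.negSucc 0)] .nil (.node [(.ofNat 0),(.ofNat 0),(.ofNat 0),(.ofNat 0),(.negSucc 0),(.ofNat 2),(.negSucc 1),(.ofNat 1)] .nil .nil)))))))) (.node [(.ofNat 0),(.negSucc 0),(.ofNat 0),(.ofNat 1),(.ofNat 0),(.negSucc 0),(.ofNat 1),(.ofNat 0)] (.node [] (.node [] (.node [] (.node [] (.node [] (.node [] (.node [] .nil (.node [(.ofNat 1),(.ofNat 0),(.negSucc 1),(.ofNat 1),(.ofNat 0),(.ofNat 0),(.ofNat 0),(.negSucc 0)] .nil .nil)) (.node [(.negSucc 1),(.ofNat 0),(.ofNat 1),(.negSucc 0),(.ofNat 1),(.ofNat 1),(.negSucc 0),(.ofNat 0)] .nil .nil)) (.node [(.ofNat 0),(.ofNat 0),(.ofNat 1),(.ofNat 0),(.negSucc 1),(.ofNat 1),(.ofNat 1),(.ofNat 0)] .nil (.node [(.ofNat 2),(.ofNat 1),(.negSucc 0),(.negSucc 0),(.ofNat 1),(.negSucc 0),(.ofNat 0),(.ofNat 1)] .nil .nil))) (.node [(.ofNat 1),(.negSucc 0),(.negSucc 0),(.ofNat 1),(.ofNat 1),(.negSucc 1),(.ofNat 1),(.ofNat 0)] (.node [] .nil (.node [(.ofNat 1),(.ofNat 0),(.ofNat 0),(.ofNat 0),(.negSucc 1),(.ofNat 2),(.ofNat 0),(.ofNat 0)] .nil .nil)) (.node [(.negSucc 0),(.negSucc 0),(.ofNat 1),(.ofNat 0),(.ofNat 0),(.negSucc 0),(.ofNat 2),(.ofNat 0)] .nil (.node [(.negSucc 0),(.ofNat 0),(.ofNat 0),(.negSucc 0),(.ofNat 2),(.ofNat 0),(.negSucc 0),(.ofNat 0)] .nil .nil)))) (.node [(.ofNat 0),(.ofNat 0),(.ofNat 0),(.ofNat 0),(.ofNat 1),(.negSucc 1),(.ofNat 2),(.negSucc 0)] (.node [] (.node [] .nil (.node [(.ofNat 2),(.ofNat 0),(.negSucc 0),(.ofNat 0),(.ofNat 1),(.negSucc 0),(.negSucc 0),(.ofNat 1)] .nil .nil)) (.node [(.negSucc 0),(.ofNat 0),(.ofNat 0),(.negSucc 0),(.ofNat 2),(.ofNat 0),(.ofNat 0),(.negSucc 0)] .nil (.node [(.ofNat 0),(.ofNat 0),(.ofNat 1),(.negSucc 0),(.negSucc 0),(.ofNat 2),(.ofNat 0),(.negSucc 0)] .nil .nil))) (.node [(.ofNat 0),(.ofNat 0),(.negSucc 0),(.ofNat 0),(.ofNat 1),(.ofNat 1),(.negSucc 1),(.ofNat 1)] (.node [] .nil (.node [(.ofNat 1),(.negSucc 0),(.ofNat 1),(.negSucc 0),(.ofNat 0),(.ofNat 0),(.ofNat 1),(.ofNat 0)] .nil .nil)) (.node [(.ofNat 1),(.negSucc 1),(.negSucc 0),(.ofNat 2),(.ofNat 0),(.negSucc 0),(.ofNat 0),(.ofNat 0)] .nil (.node [(.ofNat 1),(.negSucc 0),(.ofNat 0),(.ofNat 0),(.ofNat 0),(.ofNat 0),(.ofNat 1),(.negSucc 1)] .nil .nil))))) (.node [(.ofNat 0),(.ofNat 0),(.ofNat 0),(.negSucc 0),(.ofNat 1),(.ofNat 0),(.ofNat 1),(.ofNat 0)] (.node [] (.node [] (.node [] (.node [] .nil (.node [(.negSucc 0),(.negSucc 0),(.ofNat 0),(.ofNat 1),(.ofNat 0),(.negSucc 0),(.ofNat 1),(.negSucc 0)] .nil .nil)) (.node [(.ofNat 2),(.ofNat 0),(.negSucc 0),(.ofNat 0),(.ofNat 1),(.negSucc 1),(.ofNat 1),(.ofNat 0)] .nil .nil)) (.node [(.ofNat 0),(.ofNat 1),(.ofNat 0),(.ofNat 1),(.negSucc 1),(.ofNat 0),(.ofNat 0),(.ofNat 1)] .nil (.node [(.ofNat 0),(.ofNat 0),(.negSucc 0),(.ofNat 2),(.negSucc 1),(.ofNat 0),(.ofNat 0),(.ofNat 1)] .nil .nil))) (.node [(.negSucc 0),(.negSucc 0),(.ofNat 0),(.ofNat 2),(.negSucc 0),(.negSucc 0),(.ofNat 1),(.ofNat 0)] (.node [] .nil (.node [(.ofNat 1),(.negSucc 1),(.ofNat 0),(.ofNat 0),(.ofNat 1),(.ofNat 0),(.negSucc 0),(.ofNat 1)] .nil .nil)) (.node [(.negSucc 0),(.ofNat 1),(.ofNat 1),(.negSucc 0),(.ofNat 0),(.ofNat 1),(.ofNat 0),(.negSucc 1)] .nil (.node [(.ofNat 0),(.negSucc 0),(.negSucc 0),(.ofNat 0),(.ofNat 1),(.ofNat 0),(.ofNat 0),(.ofNat 1)] .nil .nil)))) (.node [(.ofNat 1),(.negSucc 0),(.negSucc 0),(.ofNat 0),(.ofNat 1),(.ofNat 1),(.negSucc 0),(.ofNat 0)] (.node [] (.node [] .nil (.node [(.negSucc 1),(.ofNat 0),(.ofNat 1),(.ofNat 0),(.ofNat 1),(.negSucc 0),(.negSucc 0),(.ofNat 1)] .nil .nil)) (.node [(.negSucc 0),(.negSucc 0),(.ofNat 1),(.negSucc 0),(.ofNat 1),(.ofNat 1),(.negSucc 0),(.ofNat 1)] .nil (.node [(.negSucc 0),(.ofNat 0),(.ofNat 0),(.ofNat 0),(.negSucc 0),(.ofNat 2),(.negSucc 0),(.ofNat 1)] .nil .nil))) (.node [(.ofNat 1),(.ofNat 1),(.ofNat 1),(.negSucc 0),(.negSucc 0),(.ofNat 1),(.ofNat 0),(.negSucc 0)] (.node [] .nil (.node [(.ofNat 1),(.ofNat 1),(.negSucc 0),(.ofNat 1),(.negSucc 0),(.ofNat 0),(.negSucc 0),(.ofNat 0)] .nil .nil)) (.node [(.ofNat 2),(.ofNat 0),(.negSucc 0),(.negSucc 0),(.ofNat 1),(.ofNat 1),(.negSucc 0),(.ofNat 0)] .nil (.node [(.ofNat 0),(.ofNat 1),(.negSucc 0),(.ofNat 0),(.ofNat 1),(.negSucc 0),(.ofNat 0),(.negSucc 0)] .nil .nil)))))) (.node [(.ofNat 1),(.ofNat 0),(.negSucc 0),(.ofNat 1),(.ofNat 0),(.negSucc 0),(.ofNat 1),(.negSucc 0)] (.node [] (.node [] (.node [] (.node [] (.node [] .nil (.node [(.ofNat 1),(.ofNat 1),(.negSucc 0),(.ofNat 0),(.negSucc 0),(.ofNat 1),(.ofNat 0),(.negSucc 0)] .nil .nil)) (.node [(.negSucc 0),(.ofNat 0),(.negSucc 0),(.ofNat 1),(.negSucc 0),(.ofNat 1),(.ofNat 1),(.negSucc 0)] .nil .nil)) (.node [(.negSucc 0),(.negSucc 0),(.negSucc 0),(.ofNat 2),(.negSucc 0),(.ofNat 0),(.ofNat 1),(.ofNat 0)] .nil (.node [(.ofNat 2),(.negSucc 0),(.negSucc 0),(.ofNat 0),(.ofNat 0),(.ofNat 1),(.ofNat 0),(.negSucc 0)] .nil .nil))) (.node [(.ofNat 1),(.ofNat 2),(.ofNat 0),(.negSucc 0),(.ofNat 0),(.negSucc 0),(.ofNat 1),(.ofNat 0)] (.node [] .nil (.node [(.ofNat 1),(.negSucc 0),(.negSucc 0),(.ofNat 1),(.negSucc 0),(.ofNat 2),(.negSucc 1),(.ofNat 1)] .nil .nil)) (.node [(.ofNat 1),(.ofNat 0),(.negSucc 0),(.ofNat 0),(.ofNat 0),(.ofNat 2),(.negSucc 1),(.ofNat 0)] .nil (.node [(.negSucc 0),(.negSucc 1),(.ofNat 0),(.ofNat 1),(.ofNat 0),(.ofNat 0),(.ofNat 1),(.negSucc 0)] .nil .nil)))) (.node [(.ofNat 0),(.negSucc 1),(.ofNat 0),(.ofNat 1),(.ofNat 1),(.negSucc 0),(.ofNat 0),(.ofNat 0)] (.node [] (.node [] .nil (.node [(.negSucc 0),(.ofNat 1),(.ofNat 0),(.negSucc 0),(.ofNat 1),(.negSucc 0),(.ofNat 2),(.negSucc 0)] .nil .nil)) (.node [(.ofNat 1),(.ofNat 0),(.negSucc 0),(.ofNat 0),(.ofNat 1),(.ofNat 0),(.ofNat 0),(.negSucc 1)] .nil (.node [(.negSucc 0),(.ofNat 0),(.ofNat 1),(.ofNat 1),(.negSucc 0),(.negSucc 0),(.ofNat 0),(.ofNat 0)] .nil .nil))) (.node [(.ofNat 0),(.ofNat 0),(.ofNat 1),(.negSucc 1),(.ofNat 1),(.ofNat 1),(.ofNat 0),(.ofNat 0)] (.node [] .nil (.node [(.negSucc 0),(.ofNat 0),(.ofNat 1),(.negSucc 0),(.ofNat 0),(.ofNat 1),(.ofNat 1),(.negSucc 1)] .nil .nil)) (.node [(.negSucc 0),(.ofNat 0),(.ofNat 2),(.negSucc 0),(.negSucc 0),(.ofNat 1),(.ofNat 1),(.negSucc 0)] .nil (.node [(.ofNat 0),(.negSucc 0),(.negSucc 0),(.ofNat 1),(.ofNat 0),(.ofNat 0),(.negSucc 0),(.ofNat 2)] .nil .nil))))) (.node [(.negSucc 0),(.ofNat 1),(.ofNat 1),(.ofNat 0),(.ofNat 0),(.negSucc 0),(.ofNat 0),(.ofNat 0)] (.node [] (.node [] (.node [] (.node [] .nil (.node [(.ofNat 0),(.negSucc 0),(.ofNat 0),(.ofNat 0),(.ofNat 0),(.ofNat 1),(.negSucc 0),(.ofNat 0)] .nil .nil)) (.node [(.negSucc 0),(.ofNat 0),(.negSucc 0),(.ofNat 1),(.ofNat 0),(.negSucc 0),(.ofNat 2),(.negSucc 0)] .nil .nil)) (.node [(.ofNat 1),(.ofNat 2),(.negSucc 0),(.negSucc 0),(.ofNat 1),(.negSucc 0),(.ofNat 0),(.ofNat 1)] .nil (.node [(.negSucc 0),(.ofNat 0),(.ofNat 0),(.negSucc 0),(.ofNat 1),(.ofNat 0),(.ofNat 1),(.ofNat 0)] .nil .nil))) (.node [(.ofNat 0),(.ofNat 0),(.ofNat 2),(.negSucc 0),(.ofNat 0),(.ofNat 0),(.ofNat 0),(.negSucc 0)] (.node [] .nil (.node [(.ofNat 0),(.ofNat 1),(.ofNat 1),(.negSucc 0),(.ofNat 1),(.negSucc 0),(.negSucc 0),(.ofNat 0)] .nil .nil)) (.node [(.negSucc 0),(.ofNat 1),(.ofNat 1),(.ofNat 0),(.negSucc 1),(.ofNat 2),(.negSucc 0),(.ofNat 0)] .nil (.node [(.negSucc 0),(.ofNat 1),(.ofNat 1),(.negSucc 0),(.ofNat 0),(.ofNat 0),(.negSucc 0),(.ofNat 2)] .nil .nil)))) (.node [(.ofNat 0),(.ofNat 1),(.ofNat 1),(.negSucc 0),(.ofNat 1),(.negSucc 0),(.negSucc 0),(.ofNat 1)] (.node [] (.node [] .nil (.node [(.ofNat 1),(.negSucc 0),(.negSucc 0),(.ofNat 0),(.ofNat 1),(.ofNat 1),(.negSucc 1),(.ofNat 1)] .nil .nil)) (.node [(.ofNat 0),(.negSucc 0),(.ofNat 2),(.negSucc 0),(.ofNat 0),(.ofNat 0),(.ofNat 0),(.ofNat 1)] .nil (.node [(.ofNat 1),(.ofNat 0),(.negSucc 0),(.ofNat 0),(.ofNat 1),(.negSucc 1),(.ofNat 2),(.negSucc 0)] .nil .nil))) (.node [(.ofNat 0),(.ofNat 1),(.ofNat 0),(.negSucc 0),(.ofNat 0),(.ofNat 1),(.ofNat 1),(.negSucc 1)] (.node [] .nil (.node [(.ofNat 0),(.ofNat 1),(.ofNat 0),(.ofNat 0),(.negSucc 1),(.ofNat 1),(.ofNat 1),(.ofNat 0)] .nil .nil)) (.node [(.negSucc 0),(.ofNat 0),(.negSucc 0),(.ofNat 0),(.ofNat 1),(.ofNat 0),(.ofNat 1),(.negSucc 0)] .nil (.node [(.ofNat 0),(.ofNat 1),(.ofNat 1),(.negSucc 1),(.ofNat 1),(.negSucc 0),(.ofNat 1),(.ofNat 0)] .nil .nil))))))) (.node [(.ofNat 0),(.ofNat 0),(.ofNat 1),(.ofNat 0),(.negSucc 0),(.ofNat 1),(.ofNat 0),(.negSucc 0)] (.node [] (.node [] (.node [] (.node [] (.node [] (.node [] .nil (.node [(.ofNat 0),(.ofNat 1),(.ofNat 1),(.negSucc 0),(.negSucc 0),(.ofNat 1),(.ofNat 0),(.negSucc 0)] .nil .nil)) (.node [(.negSucc 0),(.ofNat 0),(.ofNat 2),(.ofNat 0),(.negSucc 1),(.ofNat 1),(.ofNat 0),(.ofNat 0)] .nil .nil)) (.node [(.ofNat 0),(.ofNat 1),(.ofNat 0),(.negSucc 0),(.ofNat 1),(.negSucc 0),(.ofNat 2),(.negSucc 1)] .nil (.node [(.ofNat 0),(.ofNat 0),(.negSucc 0),(.ofNat 0),(.ofNat 1),(.negSucc 0),(.ofNat 2),(.negSucc 1)] .nil .nil))) (.node [(.negSucc 0),(.negSucc 0),(.ofNat 0),(.ofNat 1),(.ofNat 0),(.ofNat 0),(.negSucc 0),(.ofNat 2)] (.node [] .nil (.node [(.ofNat 1),(.negSucc 0),(.negSucc 0),(.ofNat 2),(.negSucc 1),(.ofNat 0),(.ofNat 1),(.ofNat 0)] .nil .nil)) (.node [(.ofNat 1),(.ofNat 1),(.ofNat 0),(.ofNat 0),(.negSucc 0),(.negSucc 0),(.ofNat 1),(.ofNat 1)] .nil (.node [(.ofNat 0),(.ofNat 0),(.negSucc 1),(.ofNat 1),(.ofNat 0),(.ofNat 0),(.ofNat 1),(.negSucc 0)] .nil .nil)))) (.node [(.ofNat 2),(.ofNat 0),(.negSucc 0),(.ofNat 0),(.ofNat 1),(.negSucc 0),(.ofNat 0),(.ofNat 0)] (.node [] (.node [] .nil (.node [(.negSucc 0),(.ofNat 0),(.negSucc 0),(.ofNat 1),(.ofNat 1),(.negSucc 1),(.ofNat 1),(.ofNat 0)] .nil .nil)) (.node [(.ofNat 1),(.ofNat 1),(.negSucc 1),(.ofNat 1),(.ofNat 0),(.ofNat 0),(.negSucc 0),(.ofNat 0)] .nil (.node [(.negSucc 1),(.negSucc 0),(.ofNat 1),(.ofNat 1),(.negSucc 0),(.ofNat 0),(.ofNat 0),(.ofNat 1)] .nil .nil))) (.node [(.negSucc 1),(.negSucc 0),(.ofNat 1),(.ofNat 0),(.ofNat 0),(.ofNat 1),(.ofNat 0),(.ofNat 0)] (.node [] .nil (.node [(.ofNat 2),(.ofNat 0),(.negSucc 1),(.ofNat 1),(.negSucc 0),(.ofNat 1),(.negSucc 0),(.ofNat 1)] .nil .nil)) (.node [(.ofNat 0),(.negSucc 0),(.ofNat 2),(.negSucc 0),(.ofNat 1),(.negSucc 0),(.ofNat 0),(.ofNat 0)] .nil (.node [(.negSucc 0),(.negSucc 0),(.ofNat 1),(.ofNat 0),(.ofNat 1),(.negSucc 1),(.ofNat 1),(.ofNat 0)] .nil .nil))))) (.node [(.ofNat 0),(.ofNat 1),(.negSucc 0),(.ofNat 0),(.ofNat 1),(.ofNat 0),(.negSucc 0),(.ofNat 0)] (.node [] (.node [] (.node [] (.node [] .nil (.node [(.negSucc 0),(.ofNat 0),(.ofNat 1),(.ofNat 0),(.negSucc 0),(.ofNat 0),(.ofNat 1),(.negSucc 0)] .nil .nil)) (.node [(.negSucc 0),(.ofNat 0),(.negSucc 0),(.ofNat 0),(.ofNat 2),(.negSucc 0),(.ofNat 0),(.ofNat 0)] .nil .nil)) (.node [(.negSucc 0),(.negSucc 0),(.negSucc 0),(.ofNat 2),(.negSucc 0),(.ofNat 1),(.negSucc 0),(.ofNat 1)] .nil (.node [(.ofNat 0),(.negSucc 0),(.ofNat 0),(.ofNat 1),(.negSucc 1),(.ofNat 2),(.ofNat 0),(.negSucc 0)] .nil .nil))) (.node [(.ofNat 1),(.ofNat 0),(.ofNat 0),(.ofNat 1),(.negSucc 1),(.ofNat 0),(.ofNat 1),(.ofNat 0)] (.node [] .nil (.node [(.ofNat 0),(.negSucc 0),(.ofNat 1),(.ofNat 1),(.negSucc 1),(.ofNat 1),(.ofNat 0),(.negSucc 0)] .nil .nil)) (.node [(.ofNat 1),(.negSucc 0),(.ofNat 0),(.ofNat 0),(.ofNat 1),(.negSucc 0),(.negSucc 0),(.ofNat 2)] .nil (.node [(.ofNat 1),(.negSucc 0),(.ofNat 0),(.negSucc 0),(.ofNat 2),(.negSucc 0),(.ofNat 0),(.ofNat 0)] .nil .nil)))) (.node [(.negSucc 0),(.negSucc 0),(.ofNat 0),(.ofNat 1),(.negSucc 0),(.ofNat 1),(.ofNat 0),(.ofNat 1)] (.node [] (.node [] .nil (.node [(.ofNat 1),(.ofNat 1),(.negSucc 0),(.ofNat 1),(.negSucc 1),(.ofNat 0),(.ofNat 1),(.ofNat 0)] .nil .nil)) (.node [(.ofNat 1),(.ofNat 1),(.ofNat 0),(.negSucc 0),(.negSucc 0),(.ofNat 2),(.ofNat 0),(.negSucc 0)] .nil (.node [(.ofNat 0),(.ofNat 2),(.ofNat 1),(.negSucc 1),(.ofNat 0),(.ofNat 1),(.negSucc 0),(.ofNat 0)] .nil .nil))) (.node [(.ofNat 0),(.negSucc 0),(.ofNat 0),(.ofNat 1),(.ofNat 0),(.negSucc 1),(.ofNat 2),(.ofNat 0)] (.node [] .nil (.node [(.negSucc 0),(.negSucc 0),(.ofNat 0),(.ofNat 1),(.ofNat 1),(.negSucc 1),(.ofNat 1),(.negSucc 0)] .nil .nil)) (.node [(.ofNat 2),(.ofNat 1),(.negSucc 1),(.ofNat 1),(.negSucc 0),(.ofNat 0),(.ofNat 0),(.ofNat 0)] .nil (.node [(.ofNat 0),(.negSucc 0),(.negSucc 0),(.ofNat 1),(.ofNat 0),(.ofNat 1),(.negSucc 0),(.negSucc 0)] .nil .nil)))))) (.node [(.ofNat 1),(.negSucc 0),(.ofNat 0),(.ofNat 0),(.ofNat 1),(.negSucc 0),(.ofNat 0),(.ofNat 1)] (.node [] (.node [] (.node [] (.node [] (.node [] .nil (.node [(.ofNat 1),(.negSucc 0),(.negSucc 0),(.ofNat 1),(.ofNat 0),(.negSucc 0),(.ofNat 0),(.ofNat 1)] .nil .nil)) (.node [(.negSucc 0),(.ofNat 1),(.ofNat 0),(.negSucc 0),(.ofNat 0),(.ofNat 1),(.ofNat 0),(.ofNat 1)] .nil .nil)) (.node [(.ofNat 1),(.ofNat 1),(.ofNat 0),(.negSucc 1),(.ofNat 1),(.ofNat 0),(.ofNat 1),(.ofNat 0)] .nil (.node [(.ofNat 1),(.ofNat 1),(.negSucc 1),(.ofNat 0),(.ofNat 0),(.ofNat 1),(.ofNat 0),(.negSucc 0)] .nil .nil))) (.node [(.negSucc 0),(.ofNat 0),(.ofNat 1),(.negSucc 0),(.ofNat 1),(.negSucc 0),(.ofNat 2),(.negSucc 0)] (.node [] .nil (.node [(.ofNat 0),(.ofNat 1),(.ofNat 1),(.negSucc 0),(.ofNat 0),(.ofNat 1),(.negSucc 1),(.ofNat 0)] .nil .nil)) (.node [(.negSucc 0),(.ofNat 0),(.ofNat 0),(.ofNat 1),(.ofNat 0),(.ofNat 0),(.negSucc 1),(.ofNat 1)] .nil (.node [(.negSucc 0),(.ofNat 1),(.ofNat 1),(.negSucc 0),(.negSucc 0),(.ofNat 1),(.ofNat 1),(.negSucc 0)] .nil .nil)))) (.node [(.ofNat 0),(.ofNat 0),(.ofNat 0),(.ofNat 1),(.negSucc 0),(.ofNat 1),(.negSucc 1),(.ofNat 1)] (.node [] (.node [] .nil (.node [(.negSucc 0),(.ofNat 1),(.ofNat 0),(.ofNat 0),(.negSucc 0),(.ofNat 0),(.ofNat 1),(.ofNat 1)] .nil .nil)) (.node [(.negSucc 0),(.ofNat 1),(.negSucc 0),(.ofNat 1),(.ofNat 0),(.ofNat 0),(.negSucc 0),(.ofNat 0)] .nil (.node [(.ofNat 0),(.ofNat 0),(.ofNat 1),(.negSucc 0),(.ofNat 1),(.negSucc 1),(.ofNat 2),(.negSucc 0)] .nil .nil))) (.node [(.ofNat 0),(.ofNat 0),(.negSucc 0),(.ofNat 1),(.negSucc 0),(.ofNat 1),(.ofNat 1),(.negSucc 1)] (.node [] .nil (.node [(.negSucc 0),(.negSucc 1),(.ofNat 1),(.ofNat 0),(.ofNat 1),(.ofNat 0),(.ofNat 0),(.negSucc 0)] .nil .nil)) (.node [(.negSucc 0),(.negSucc 0),(.ofNat 1),(.ofNat 1),(.negSucc 0),(.ofNat 0),(.negSucc 0),(.ofNat 2)] .nil (.node [(.ofNat 0),(.ofNat 0),(.ofNat 0),(.negSucc 0),(.ofNat 0),(.ofNat 2),(.negSucc 0),(.ofNat 0)] .nil .nil))))) (.node [(.negSucc 1),(.ofNat 0),(.ofNat 1),(.ofNat 0),(.ofNat 0),(.ofNat 0),(.ofNat 0),(.ofNat 1)] (.node [] (.node [] (.node [] .nil (.node [(.ofNat 1),(.ofNat 1),(.negSucc 0),(.ofNat 0),(.negSucc 0),(.ofNat 0),(.ofNat 1),(.ofNat 1)] .nil .nil)) (.node [(.ofNat 0),(.ofNat 2),(.ofNat 1),(.negSucc 0),(.negSucc 0),(.ofNat 0),(.ofNat 0),(.ofNat 1)] .nil (.node [(.ofNat 0),(.ofNat 0),(.negSucc 0),(.ofNat 0),(.ofNat 2),(.negSucc 0),(.negSucc 0),(.ofNat 0)] .nil .nil))) (.node [(.negSucc 0),(.ofNat 2),(.ofNat 1),(.negSucc 0),(.ofNat 0),(.ofNat 0),(.negSucc 0),(.ofNat 1)] (.node [] .nil (.node [(.ofNat 0),(.negSucc 0),(.negSucc 1),(.ofNat 2),(.ofNat 0),(.negSucc 0),(.ofNat 1),(.ofNat 0)] .nil .nil)) (.node [(.ofNat 1),(.ofNat 0),(.negSucc 1),(.ofNat 0),(.ofNat 1),(.ofNat 0),(.ofNat 0),(.ofNat 1)] .nil (.node [(.ofNat 0),(.ofNat 1),(.negSucc 0),(.ofNat 0),(.negSucc 0),(.ofNat 2),(.negSucc 0),(.ofNat 0)] .nil .nil)))) (.node [(.ofNat 1),(.ofNat 0),(.ofNat 0),(.negSucc 0),(.ofNat 1),(.negSucc 0),(.ofNat 1),(.ofNat 1)] (.node [] (.node [] .nil (.node [(.negSucc 0),(.negSucc 0),(.ofNat 0),(.ofNat 1),(.negSucc 0),(.ofNat 0),(.ofNat 1),(.ofNat 1)] .nil .nil)) (.node [(.ofNat 0),(.ofNat 0),(.negSucc 1),(.ofNat 1),(.ofNat 1),(.negSucc 0),(.ofNat 1),(.negSucc 0)] .nil (.node [(.ofNat 0),(.ofNat 0),(.negSucc 1),(.ofNat 1),(.ofNat 0),(.ofNat 0),(.ofNat 0),(.ofNat 1)] .nil .nil))) (.node [(.negSucc 0),(.ofNat 1),(.ofNat 2),(.negSucc 0),(.negSucc 0),(.ofNat 1),(.ofNat 0),(.negSucc 0)] (.node [] .nil (.node [(.ofNat 1),(.negSucc 0),(.ofNat 1),(.negSucc 0),(.ofNat 1),(.negSucc 0),(.ofNat 0),(.ofNat 1)] .nil .nil)) (.node [(.negSucc 0),(.negSucc 0),(.ofNat 1),(.ofNat 1),(.negSucc 0),(.ofNat 0),(.ofNat 1),(.negSucc 1)] .nil (.node [(.ofNat 0),(.negSucc 1),(.ofNat 0),(.ofNat 1),(.ofNat 0),(.ofNat 0),(.negSucc 0),(.ofNat 1)] .nil .nil))))))))) (.node [(.ofNat 0),(.negSucc 0),(.ofNat 0),(.ofNat 0),(.ofNat 1),(.ofNat 0),(.ofNat 0),(.ofNat 0)] (.node [] (.node [] (.node [] (.node [] (.node [] (.node [] (.node [] (.node [] .nil (.node [(.ofNat 0),(.ofNat 0),(.ofNat 0),(.ofNat 0),(.ofNat 1),(.negSucc 1),(.ofNat 0),(.ofNat 1)] .nil .nil)) (.node [(.ofNat 1),(.ofNat 0),(.ofNat 1),(.ofNat 0),(.negSucc 1),(.ofNat 1),(.ofNat 0),(.ofNat 0)] .nil .nil)) (.node [(.ofNat 1),(.ofNat 0),(.negSucc 0),(.negSucc 0),(.ofNat 2),(.negSucc 0),(.ofNat 1),(.ofNat 0)] .nil (.node [(.ofNat 2),(.ofNat 1),(.negSucc 0),(.negSucc 0),(.ofNat 0),(.ofNat 1),(.ofNat 0),(.negSucc 0)] .nil .nil))) (.node [(.ofNat 1),(.ofNat 2),(.ofNat 0),(.negSucc 0),(.negSucc 0),(.ofNat 1),(.ofNat 0),(.ofNat 0)] (.node [] .nil (.node [(.negSucc 1),(.negSucc 0),(.ofNat 2),(.ofNat 0),(.negSucc 0),(.ofNat 1),(.ofNat 0),(.ofNat 0)] .nil .nil)) (.node [(.ofNat 0),(.negSucc 0),(.negSucc 0),(.ofNat 0),(.ofNat 1),(.ofNat 1),(.negSucc 0),(.ofNat 1)] .nil (.node [(.ofNat 0),(.ofNat 1),(.ofNat 0),(.ofNat 1),(.negSucc 1),(.ofNat 0),(.ofNat 0),(.ofNat 0)] .nil .nil)))) (.node [(.ofNat 0),(.ofNat 1),(.ofNat 1),(.negSucc 1),(.ofNat 1),(.ofNat 0),(.ofNat 1),(.negSucc 0)] (.node [] (.node [] .nil (.node [(.ofNat 2),(.ofNat 0),(.negSucc 0),(.ofNat 1),(.negSucc 0),(.negSucc 0),(.ofNat 1),(.ofNat 0)] .nil .nil)) (.node [(.negSucc 1),(.negSucc 0),(.ofNat 1),(.ofNat 1),(.ofNat 0),(.negSucc 0),(.ofNat 1),(.negSucc 0)] .nil (.node [(.negSucc 0),(.negSucc 0),(.ofNat 2),(.negSucc 0),(.ofNat 1),(.ofNat 0),(.negSucc 0),(.ofNat 0)] .nil .nil))) (.node [(.ofNat 0),(.ofNat 1),(.ofNat 0),(.ofNat 0),(.negSucc 1),(.ofNat 2),(.ofNat 0),(.ofNat 0)] (.node [] .nil (.node [(.ofNat 1),(.negSucc 1),(.ofNat 0),(.ofNat 1),(.negSucc 0),(.ofNat 1),(.negSucc 0),(.ofNat 1)] .nil .nil)) (.node [(.negSucc 0),(.negSucc 0),(.ofNat 1),(.ofNat 0),(.ofNat 0),(.ofNat 1),(.ofNat 0),(.negSucc 1)] .nil (.node [(.negSucc 0),(.negSucc 0),(.ofNat 1),(.ofNat 0),(.ofNat 0),(.negSucc 0),(.ofNat 2),(.negSucc 0)] .nil .nil))))) (.node [(.ofNat 0),(.ofNat 1),(.negSucc 0),(.ofNat 0),(.ofNat 1),(.negSucc 0),(.ofNat 0),(.ofNat 1)] (.node [] (.node [] (.node [] (.node [] .nil (.node [(.ofNat 1),(.ofNat 0),(.ofNat 0),(.negSucc 0),(.ofNat 1),(.negSucc 0),(.ofNat 0),(.ofNat 1)] .nil .nil)) (.node [(.ofNat 1),(.ofNat 0),(.ofNat 1),(.ofNat 0),(.negSucc 0),(.negSucc 0),(.ofNat 1),(.ofNat 0)] .nil .nil)) (.node [(.ofNat 0),(.negSucc 1),(.ofNat 1),(.ofNat 0),(.ofNat 0),(.ofNat 1),(.negSucc 0),(.ofNat 1)] .nil (.node [(.negSucc 0),(.ofNat 0),(.ofNat 1),(.negSucc 0),(.ofNat 2),(.negSucc 0),(.negSucc 0),(.ofNat 0)] .nil .nil))) (.node [(.negSucc 1),(.ofNat 0),(.ofNat 0),(.ofNat 1),(.negSucc 0),(.ofNat 1),(.ofNat 0),(.ofNat 0)] (.node [] .nil (.node [(.negSucc 0),(.ofNat 0),(.negSucc 0),(.ofNat 2),(.negSucc 0),(.ofNat 0),(.ofNat 0),(.negSucc 0)] .nil .nil)) (.node [(.negSucc 0),(.ofNat 0),(.ofNat 0),(.ofNat 1),(.ofNat 0),(.negSucc 0),(.ofNat 1),(.negSucc 1)] .nil (.node [(.negSucc 0),(.ofNat 1),(.ofNat 1),(.negSucc 0),(.ofNat 0),(.negSucc 0),(.ofNat 1),(.ofNat 1)] .nil .nil)))) (.node [(.ofNat 1),(.ofNat 1),(.negSucc 0),(.negSucc 0),(.ofNat 2),(.negSucc 0),(.ofNat 0),(.ofNat 0)] (.node [] (.node [] .nil (.node [(.ofNat 2),(.ofNat 1),(.ofNat 0),(.negSucc 0),(.ofNat 0),(.negSucc 0),(.ofNat 1),(.ofNat 0)] .nil .nil)) (.node [(.negSucc 0),(.negSucc 1),(.ofNat 0),(.ofNat 1),(.ofNat 1),(.negSucc 0),(.ofNat 0),(.ofNat 1)] .nil (.node [(.negSucc 0),(.negSucc 0),(.negSucc 0),(.ofNat 2),(.negSucc 0),(.ofNat 0),(.ofNat 0),(.ofNat 1)] .nil .nil))) (.node [(.negSucc 1),(.negSucc 0),(.ofNat 1),(.ofNat 0),(.ofNat 1),(.negSucc 0),(.ofNat 1),(.ofNat 0)] (.node [] .nil (.node [(.ofNat 2),(.negSucc 0),(.negSucc 0),(.ofNat 0),(.ofNat 0),(.ofNat 0),(.ofNat 1),(.ofNat 0)] .nil .nil)) (.node [(.ofNat 0),(.ofNat 0),(.ofNat 0),(.negSucc 0),(.ofNat 1),(.ofNat 1),(.negSucc 1),(.ofNat 2)] .nil (.node [(.ofNat 0),(.ofNat 0),(.ofNat 0),(.ofNat 0),(.negSucc 0),(.ofNat 0),(.ofNat 1),(.ofNat 1)] .nil .nil)))))) (.node [(.ofNat 1),(.ofNat 1),(.ofNat 0),(.negSucc 0),(.ofNat 0),(.ofNat 1),(.negSucc 0),(.ofNat 1)] (.node [] (.node [] (.node [] (.node [] (.node [] .nil (.node [(.ofNat 0),(.ofNat 0),(.ofNat 0),(.ofNat 0),(.ofNat 1),(.negSucc 0),(.negSucc 0),(.ofNat 0)] .nil .nil)) (.node [(.ofNat 0),(.ofNat 2),(.ofNat 0),(.ofNat 0),(.negSucc 1),(.ofNat 1),(.ofNat 0),(.ofNat 0)] .nil .nil)) (.node [(.negSucc 0),(.negSucc 0),(.negSucc 0),(.ofNat 1),(.ofNat 1),(.ofNat 0),(.negSucc 0),(.ofNat 1)] .nil (.node [(.negSucc 0),(.negSucc 0),(.ofNat 2),(.negSucc 0),(.ofNat 0),(.ofNat 1),(.ofNat 0),(.negSucc 0)] .nil .nil))) (.node [(.ofNat 1),(.ofNat 1),(.ofNat 1),(.negSucc 1),(.ofNat 0),(.ofNat 1),(.ofNat 0),(.ofNat 0)] (.node [] .nil (.node [(.ofNat 1),(.negSucc 0),(.negSucc 0),(.ofNat 0),(.ofNat 1),(.ofNat 1),(.negSucc 0),(.negSucc 0)] .nil .nil)) (.node [(.ofNat 0),(.ofNat 1),(.ofNat 2),(.negSucc 1),(.ofNat 0),(.ofNat 1),(.negSucc 0),(.ofNat 0)] .nil (.node [(.negSucc 0),(.ofNat 1),(.negSucc 0),(.ofNat 1),(.ofNat 0),(.negSucc 0),(.ofNat 0),(.ofNat 0)] .nil .nil)))) (.node [(.negSucc 0),(.ofNat 1),(.ofNat 0),(.negSucc 0),(.ofNat 1),(.ofNat 0),(.ofNat 0),(.ofNat 1)] (.node [] (.node [] .nil (.node [(.ofNat 0),(.ofNat 0),(.ofNat 2),(.negSucc 1),(.ofNat 0),(.ofNat 1),(.ofNat 0),(.ofNat 0)] .nil .nil)) (.node [(.ofNat 1),(.ofNat 0),(.negSucc 0),(.ofNat 1),(.ofNat 0),(.negSucc 1),(.ofNat 1),(.ofNat 1)] .nil (.node [(.negSucc 1),(.ofNat 1),(.ofNat 1),(.negSucc 0),(.ofNat 1),(.ofNat 0),(.negSucc 0),(.ofNat 0)] .nil .nil))) (.node [(.ofNat 1),(.negSucc 1),(.ofNat 0),(.ofNat 1),(.ofNat 0),(.ofNat 0),(.ofNat 0),(.negSucc 0)] (.node [] .nil (.node [(.ofNat 0),(.ofNat 0),(.negSucc 0),(.ofNat 0),(.ofNat 0),(.ofNat 0),(.ofNat 2),(.negSucc 0)] .nil .nil)) (.node [(.negSucc 0),(.ofNat 1),(.ofNat 1),(.ofNat 0),(.ofNat 0),(.negSucc 1),(.ofNat 1),(.ofNat 0)] .nil (.node [(.ofNat 0),(.ofNat 0),(.ofNat 0),(.negSucc 0),(.ofNat 0),(.ofNat 1),(.ofNat 1),(.negSucc 0)] .nil .nil))))) (.node [(.ofNat 0),(.ofNat 0),(.ofNat 0),(.negSucc 0),(.ofNat 2),(.negSucc 0),(.ofNat 0),(.ofNat 1)] (.node [] (.node [] (.node [] (.node [] .nil (.node [(.ofNat 0),(.ofNat 0),(.negSucc 0),(.ofNat 1),(.ofNat 0),(.negSucc 0),(.ofNat 0),(.ofNat 0)] .nil .nil)) (.node [(.ofNat 0),(.negSucc 1),(.ofNat 0),(.ofNat 1),(.ofNat 1),(.negSucc 1),(.ofNat 1),(.ofNat 0)] .nil .nil)) (.node [(.ofNat 1),(.ofNat 2),(.negSucc 0),(.negSucc 0),(.ofNat 0),(.ofNat 1),(.ofNat 0),(.negSucc 0)] .nil (.node [(.ofNat 2),(.negSucc 0),(.negSucc 0),(.ofNat 1),(.negSucc 0),(.ofNat 0),(.ofNat 0),(.ofNat 1)] .nil .nil))) (.node [(.negSucc 0),(.ofNat 0),(.ofNat 1),(.ofNat 0),(.negSucc 0),(.ofNat 1),(.negSucc 0),(.ofNat 2)] (.node [] .nil (.node [(.negSucc 0),(.negSucc 0),(.ofNat 0),(.ofNat 1),(.negSucc 0),(.ofNat 2),(.negSucc 1),(.ofNat 1)] .nil .nil)) (.node [(.negSucc 0),(.ofNat 0),(.ofNat 0),(.ofNat 0),(.ofNat 0),(.ofNat 2),(.negSucc 1),(.ofNat 0)] .nil (.node [(.negSucc 1),(.ofNat 0),(.ofNat 2),(.ofNat 0),(.negSucc 0),(.ofNat 0),(.ofNat 0),(.ofNat 0)] .nil .nil)))) (.node [(.ofNat 1),(.ofNat 2),(.ofNat 0),(.negSucc 1),(.ofNat 1),(.ofNat 0),(.ofNat 0),(.ofNat 0)] (.node [] (.node [] .nil (.node [(.negSucc 0),(.ofNat 0),(.negSucc 0),(.ofNat 1),(.ofNat 0),(.ofNat 1),(.negSucc 0),(.negSucc 0)] .nil .nil)) (.node [(.ofNat 0),(.ofNat 0),(.ofNat 1),(.ofNat 0),(.ofNat 0),(.negSucc 0),(.ofNat 1),(.negSucc 1)] .nil (.node [(.negSucc 0),(.ofNat 0),(.ofNat 0),(.negSucc 0),(.ofNat 2),(.negSucc 0),(.ofNat 1),(.negSucc 0)] .nil .nil))) (.node [(.ofNat 0),(.ofNat 1),(.ofNat 0),(.negSucc 0),(.ofNat 0),(.ofNat 2),(.negSucc 1),(.ofNat 1)] (.node [] .nil (.node [(.negSucc 0),(.ofNat 0),(.ofNat 1),(.ofNat 0),(.negSucc 0),(.ofNat 0),(.ofNat 0),(.ofNat 2)] .nil .nil)) (.node [(.ofNat 0),(.ofNat 2),(.ofNat 0),(.negSucc 1),(.ofNat 2),(.negSucc 0),(.ofNat 0),(.ofNat 0)] .nil (.node [(.negSucc 0),(.ofNat 0),(.ofNat 2),(.negSucc 0),(.ofNat 0),(.ofNat 0),(.negSucc 0),(.ofNat 1)] .nil .nil))))))) (.node [(.ofNat 0),(.ofNat 0),(.ofNat 1),(.ofNat 0),(.negSucc 0),(.ofNat 1),(.negSucc 0),(.ofNat 1)] (.node [] (.node [] (.node [] (.node [] (.node [] (.node [] .nil (.node [(.negSucc 0),(.negSucc 0),(.ofNat 0),(.ofNat 0),(.ofNat 0),(.ofNat 1),(.ofNat 0),(.ofNat 0)] .nil .nil)) (.node [(.negSucc 1),(.ofNat 1),(.ofNat 0),(.ofNat 1),(.negSucc 0),(.ofNat 0),(.ofNat 0),(.ofNat 0)] .nil .nil)) (.node [(.ofNat 0),(.ofNat 1),(.ofNat 0),(.negSucc 0),(.ofNat 0),(.ofNat 2),(.negSucc 0),(.negSucc 0)] .nil (.node [(.negSucc 0),(.ofNat 0),(.ofNat 1),(.ofNat 1),(.negSucc 1),(.ofNat 0),(.ofNat 0),(.ofNat 1)] .nil .nil))) (.node [(.negSucc 0),(.ofNat 0),(.ofNat 1),(.negSucc 0),(.ofNat 0),(.ofNat 1),(.ofNat 1),(.negSucc 0)] (.node [] .nil (.node [(.ofNat 1),(.ofNat 1),(.negSucc 0),(.ofNat 1),(.negSucc 1),(.ofNat 1),(.negSucc 0),(.ofNat 1)] .nil .nil)) (.node [(.ofNat 1),(.ofNat 1),(.ofNat 0),(.negSucc 0),(.ofNat 1),(.negSucc 1),(.ofNat 2),(.negSucc 0)] .nil (.node [(.negSucc 0),(.ofNat 0),(.ofNat 0),(.ofNat 0),(.ofNat 1),(.negSucc 1),(.ofNat 2),(.negSucc 0)] .nil .nil)))) (.node [(.ofNat 0),(.ofNat 1),(.ofNat 1),(.negSucc 1),(.ofNat 1),(.ofNat 1),(.negSucc 0),(.ofNat 0)] (.node [] (.node [] .nil (.node [(.negSucc 0),(.ofNat 0),(.negSucc 0),(.ofNat 2),(.negSucc 1),(.ofNat 1),(.ofNat 0),(.ofNat 0)] .nil .nil)) (.node [(.negSucc 0),(.ofNat 1),(.ofNat 1),(.negSucc 0),(.negSucc 0),(.ofNat 1),(.ofNat 1),(.ofNat 0)] .nil (.node [(.ofNat 0),(.ofNat 0),(.ofNat 1),(.negSucc 0),(.ofNat 1),(.negSucc 1),(.ofNat 1),(.ofNat 1)] .nil .nil))) (.node [(.negSucc 1),(.ofNat 1),(.ofNat 1),(.negSucc 0),(.ofNat 1),(.negSucc 0),(.ofNat 1),(.ofNat 0)] (.node [] .nil (.node [(.ofNat 0),(.ofNat 1),(.ofNat 1),(.ofNat 0),(.negSucc 0),(.ofNat 0),(.negSucc 0),(.ofNat 0)] .nil .nil)) (.node [(.negSucc 1),(.ofNat 0),(.ofNat 1),(.negSucc 0),(.ofNat 1),(.ofNat 0),(.ofNat 0),(.ofNat 1)] .nil (.node [(.ofNat 1),(.ofNat 1),(.ofNat 0),(.ofNat 0),(.negSucc 0),(.ofNat 0),(.negSucc 0),(.ofNat 1)] .nil .nil))))) (.node [(.ofNat 1),(.ofNat 0),(.ofNat 1),(.negSucc 0),(.ofNat 0),(.ofNat 0),(.ofNat 0),(.ofNat 1)] (.node [] (.node [] (.node [] (.node [] .nil (.node [(.negSucc 0),(.ofNat 0),(.ofNat 1),(.ofNat 0),(.negSucc 0),(.ofNat 0),(.ofNat 0),(.ofNat 1)] .nil .nil)) (.node [(.ofNat 1),(.ofNat 2),(.negSucc 1),(.ofNat 0),(.ofNat 0),(.ofNat 0),(.ofNat 0),(.ofNat 0)] .nil .nil)) (.node [(.ofNat 2),(.ofNat 0),(.ofNat 0),(.negSucc 0),(.ofNat 0),(.ofNat 1),(.ofNat 0),(.negSucc 0)] .nil (.node [(.ofNat 0),(.negSucc 1),(.negSucc 0),(.ofNat 2),(.ofNat 0),(.negSucc 0),(.ofNat 1),(.negSucc 0)] .nil .nil))) (.node [(.ofNat 1),(.negSucc 0),(.negSucc 0),(.ofNat 1),(.ofNat 1),(.negSucc 0),(.ofNat 0),(.negSucc 0)] (.node [] .nil (.node [(.ofNat 1),(.negSucc 0),(.negSucc 0),(.ofNat 2),(.negSucc 1),(.ofNat 1),(.negSucc 0),(.ofNat 1)] .nil .nil)) (.node [(.ofNat 1),(.ofNat 0),(.ofNat 1),(.negSucc 0),(.negSucc 0),(.ofNat 1),(.ofNat 0),(.ofNat 1)] .nil (.node [(.negSucc 0),(.ofNat 1),(.ofNat 1),(.negSucc 0),(.negSucc 0),(.ofNat 2),(.negSucc 0),(.ofNat 0)] .nil .nil)))) (.node [(.negSucc 0),(.ofNat 1),(.ofNat 0),(.ofNat 0),(.negSucc 0),(.ofNat 1),(.ofNat 1),(.negSucc 0)] (.node [] (.node [] .nil (.node [(.ofNat 1),(.ofNat 0),(.negSucc 1),(.ofNat 1),(.ofNat 1),(.negSucc 0),(.ofNat 0),(.negSucc 0)] .nil .nil)) (.node [(.ofNat 1),(.ofNat 2),(.negSucc 0),(.ofNat 0),(.negSucc 0),(.ofNat 0),(.ofNat 1),(.negSucc 0)] .nil (.node [(.negSucc 1),(.ofNat 1),(.ofNat 1),(.ofNat 0),(.negSucc 0),(.ofNat 1),(.negSucc 0),(.ofNat 0)] .nil .nil))) (.node [(.negSucc 0),(.negSucc 1),(.ofNat 1),(.ofNat 1),(.ofNat 0),(.ofNat 0),(.ofNat 0),(.negSucc 0)] (.node [] .nil (.node [(.ofNat 2),(.ofNat 0),(.negSucc 1),(.ofNat 1),(.ofNat 0),(.negSucc 0),(.ofNat 0),(.ofNat 1)] .nil .nil)) (.node [(.ofNat 1),(.negSucc 0),(.ofNat 0),(.ofNat 1),(.negSucc 0),(.ofNat 0),(.ofNat 1),(.negSucc 1)] .nil (.node [(.ofNat 0),(.negSucc 1),(.ofNat 0),(.ofNat 1),(.negSucc 0),(.ofNat 1),(.ofNat 0),(.ofNat 0)] .nil .nil)))))) (.node [(.negSucc 0),(.ofNat 1),(.ofNat 1),(.negSucc 0),(.ofNat 0),(.ofNat 1),(.ofNat 0),(.negSucc 0)] (.node [] (.node [] (.node [] (.node [] (.node [] .nil (.node [(.negSucc 0),(.negSucc 0),(.ofNat 0),(.ofNat 0),(.ofNat 1),(.ofNat 0),(.ofNat 0),(.negSucc 0)] .nil .nil)) (.node [(.negSucc 0),(.ofNat 0),(.ofNat 2),(.negSucc 0),(.ofNat 0),(.ofNat 0),(.ofNat 1),(.negSucc 1)] .nil .nil)) (.node [(.ofNat 1),(.ofNat 2),(.negSucc 0),(.negSucc 0),(.ofNat 0),(.ofNat 1),(.negSucc 0),(.ofNat 1)] .nil (.node [(.ofNat 0),(.negSucc 0),(.ofNat 0),(.ofNat 1),(.negSucc 0),(.negSucc 0),(.ofNat 2),(.ofNat 0)] .nil .nil))) (.node [(.ofNat 0),(.negSucc 0),(.negSucc 1),(.ofNat 2),(.ofNat 0),(.ofNat 0),(.ofNat 0),(.ofNat 0)] (.node [] .nil (.node [(.negSucc 0),(.negSucc 0),(.ofNat 0),(.ofNat 1),(.negSucc 0),(.ofNat 1),(.negSucc 0),(.ofNat 2)] .nil .nil)) (.node [(.negSucc 0),(.negSucc 0),(.ofNat 1),(.ofNat 0),(.negSucc 0),(.ofNat 2),(.ofNat 0),(.negSucc 0)] .nil (.node [(.ofNat 0),(.ofNat 0),(.ofNat 1),(.ofNat 0),(.negSucc 0),(.ofNat 1),(.negSucc 0),(.negSucc 0)] .nil .nil)))) (.node [(.ofNat 1),(.negSucc 0),(.negSucc 0),(.ofNat 0),(.ofNat 1),(.ofNat 0),(.ofNat 1),(.negSucc 0)] (.node [] (.node [] .nil (.node [(.ofNat 1),(.ofNat 1),(.negSucc 0),(.negSucc 0),(.ofNat 1),(.ofNat 0),(.ofNat 1),(.negSucc 1)] .nil .nil)) (.node [(.ofNat 0),(.ofNat 1),(.ofNat 0),(.ofNat 0),(.ofNat 1),(.negSucc 1),(.ofNat 0),(.ofNat 0)] .nil (.node [(.ofNat 0),(.ofNat 0),(.ofNat 1),(.ofNat 0),(.negSucc 1),(.ofNat 1),(.ofNat 1),(.negSucc 0)] .nil .nil))) (.node [(.negSucc 0),(.ofNat 0),(.ofNat 1),(.ofNat 0),(.ofNat 1),(.negSucc 1),(.ofNat 0),(.ofNat 1)] (.node [] .nil (.node [(.negSucc 0),(.ofNat 0),(.ofNat 1),(.ofNat 0),(.ofNat 0),(.ofNat 0),(.negSucc 1),(.ofNat 2)] .nil .nil)) (.node [(.ofNat 0),(.ofNat 1),(.negSucc 0),(.ofNat 0),(.ofNat 1),(.ofNat 0),(.negSucc 1),(.ofNat 1)] .nil (.node [(.ofNat 0),(.ofNat 1),(.negSucc 0),(.ofNat 1),(.negSucc 0),(.negSucc 0),(.ofNat 1),(.ofNat 0)] .nil .nil))))) (.node [(.ofNat 0),(.negSucc 1),(.ofNat 0),(.ofNat 1),(.ofNat 0),(.ofNat 0),(.ofNat 0),(.ofNat 1)] (.node [] (.node [] (.node [] .nil (.node [(.ofNat 1),(.ofNat 0),(.negSucc 1),(.ofNat 1),(.ofNat 0),(.ofNat 0),(.ofNat 1),(.negSucc 1)] .nil .nil)) (.node [(.ofNat 0),(.ofNat 0),(.ofNat 1),(.negSucc 0),(.ofNat 1),(.ofNat 0),(.ofNat 0),(.negSucc 1)] .nil (.node [(.negSucc 0),(.ofNat 1),(.negSucc 0),(.ofNat 0),(.ofNat 1),(.negSucc 0),(.ofNat 0),(.ofNat 1)] .nil .nil))) (.node [(.ofNat 1),(.ofNat 1),(.negSucc 1),(.ofNat 0),(.ofNat 0),(.ofNat 1),(.ofNat 0),(.ofNat 0)] (.node [] .nil (.node [(.negSucc 1),(.ofNat 1),(.ofNat 2),(.negSucc 0),(.ofNat 0),(.ofNat 0),(.ofNat 0),(.negSucc 0)] .nil .nil)) (.node [(.negSucc 0),(.ofNat 1),(.ofNat 1),(.negSucc 0),(.ofNat 1),(.ofNat 0),(.negSucc 1),(.ofNat 1)] .nil (.node [(.ofNat 1),(.ofNat 1),(.ofNat 0),(.negSucc 0),(.ofNat 1),(.negSucc 0),(.negSucc 0),(.ofNat 1)] .nil .nil)))) (.node [(.negSucc 0),(.ofNat 1),(.ofNat 0),(.ofNat 0),(.ofNat 0),(.negSucc 0),(.ofNat 2),(.negSucc 0)] (.node [] (.node [] .nil (.node [(.negSucc 0),(.ofNat 1),(.ofNat 0),(.ofNat 0),(.negSucc 0),(.ofNat 1),(.negSucc 0),(.ofNat 2)] .nil .nil)) (.node [(.negSucc 0),(.ofNat 2),(.ofNat 0),(.ofNat 0),(.negSucc 0),(.ofNat 0),(.ofNat 1),(.negSucc 0)] .nil (.node [(.ofNat 1),(.negSucc 0),(.ofNat 0),(.negSucc 0),(.ofNat 1),(.ofNat 0),(.ofNat 0),(.ofNat 1)] .nil .nil))) (.node [(.negSucc 1),(.negSucc 0),(.ofNat 1),(.ofNat 1),(.negSucc 0),(.ofNat 0),(.ofNat 1),(.ofNat 0)] (.node [] .nil (.node [(.negSucc 0),(.negSucc 1),(.ofNat 1),(.ofNat 1),(.ofNat 0),(.negSucc 0),(.ofNat 0),(.ofNat 1)] .nil .nil)) (.node [(.negSucc 0),(.ofNat 0),(.ofNat 2),(.negSucc 0),(.ofNat 0),(.ofNat 0),(.negSucc 0),(.ofNat 2)] .nil (.node [(.ofNat 0),(.negSucc 0),(.negSucc 0),(.ofNat 2),(.negSucc 0),(.ofNat 0),(.ofNat 0),(.negSucc 0)] .nil .nil)))))))) (.node [(.ofNat 0),(.ofNat 0),(.ofNat 1),(.negSucc 0),(.ofNat 1),(.negSucc 0),(.ofNat 1),(.ofNat 0)] (.node [] (.node [] (.node [] (.node [] (.node [] (.node [] (.node [] .nil (.node [(.ofNat 0),(.ofNat 1),(.ofNat 1),(.negSucc 0),(.negSucc 0),(.ofNat 1),(.negSucc 0),(.ofNat 1)] .nil .nil)) (.node [(.ofNat 2),(.ofNat 0),(.negSucc 0),(.ofNat 0),(.ofNat 0),(.negSucc 0),(.ofNat 2),(.negSucc 0)] .nil .nil)) (.node [(.ofNat 0),(.ofNat 0),(.negSucc 0),(.ofNat 2),(.negSucc 1),(.ofNat 1),(.ofNat 0),(.negSucc 0)] .nil (.node [(.ofNat 2),(.ofNat 0),(.negSucc 1),(.ofNat 1),(.ofNat 0),(.negSucc 0),(.ofNat 1),(.negSucc 0)] .nil .nil))) (.node [(.ofNat 1),(.ofNat 1),(.negSucc 0),(.ofNat 0),(.ofNat 1),(.negSucc 0),(.negSucc 0),(.ofNat 1)] (.node [] .nil (.node [(.negSucc 0),(.ofNat 2),(.ofNat 1),(.negSucc 1),(.ofNat 1),(.negSucc 0),(.ofNat 1),(.ofNat 0)] .nil .nil)) (.node [(.negSucc 0),(.ofNat 0),(.ofNat 0),(.ofNat 1),(.negSucc 0),(.ofNat 1),(.ofNat 0),(.negSucc 1)] .nil (.node [(.ofNat 0),(.ofNat 0),(.ofNat 1),(.ofNat 0),(.negSucc 0),(.ofNat 1),(.negSucc 1),(.ofNat 1)] .nil .nil)))) (.node [(.negSucc 0),(.ofNat 0),(.negSucc 0),(.ofNat 1),(.ofNat 0),(.ofNat 0),(.ofNat 0),(.ofNat 1)] (.node [] (.node [] .nil (.node [(.negSucc 1),(.ofNat 0),(.ofNat 1),(.ofNat 0),(.ofNat 0),(.ofNat 0),(.ofNat 1),(.negSucc 1)] .nil .nil)) (.node [(.negSucc 0),(.negSucc 0),(.negSucc 0),(.ofNat 2),(.ofNat 0),(.negSucc 0),(.ofNat 0),(.ofNat 1)] .nil (.node [(.ofNat 1),(.negSucc 0),(.ofNat 1),(.ofNat 0),(.negSucc 0),(.ofNat 1),(.negSucc 0),(.ofNat 0)] .nil .nil))) (.node [(.ofNat 0),(.ofNat 0),(.negSucc 0),(.ofNat 0),(.ofNat 1),(.ofNat 0),(.ofNat 1),(.negSucc 1)] (.node [] .nil (.node [(.ofNat 1),(.ofNat 1),(.negSucc 0),(.ofNat 1),(.negSucc 0),(.negSucc 0),(.ofNat 1),(.negSucc 0)] .nil .nil)) (.node [(.ofNat 1),(.ofNat 0),(.ofNat 1),(.negSucc 0),(.negSucc 0),(.ofNat 1),(.ofNat 1),(.negSucc 0)] .nil (.node [(.ofNat 0),(.ofNat 0),(.ofNat 0),(.negSucc 0),(.ofNat 0),(.ofNat 1),(.ofNat 0),(.ofNat 1)] .nil .nil))))) (.node [(.negSucc 0),(.ofNat 1),(.ofNat 1),(.ofNat 0),(.negSucc 0),(.ofNat 0),(.ofNat 1),(.negSucc 0)] (.node [] (.node [] (.node [] (.node [] .nil (.node [(.negSucc 0),(.ofNat 0),(.ofNat 1),(.negSucc 0),(.ofNat 1),(.negSucc 0),(.ofNat 0),(.ofNat 1)] .nil .nil)) (.node [(.ofNat 2),(.ofNat 0),(.negSucc 0),(.ofNat 0),(.ofNat 0),(.ofNat 1),(.negSucc 1),(.ofNat 1)] .nil .nil)) (.node [(.ofNat 0),(.negSucc 0),(.ofNat 0),(.ofNat 0),(.ofNat 1),(.negSucc 0),(.ofNat 2),(.negSucc 1)] .nil (.node [(.ofNat 1),(.ofNat 0),(.ofNat 0),(.ofNat 0),(.ofNat 1),(.negSucc 1),(.ofNat 0),(.ofNat 0)] .nil .nil))) (.node [(.ofNat 1),(.ofNat 1),(.negSucc 0),(.ofNat 1),(.negSucc 0),(.ofNat 0),(.ofNat 0),(.negSucc 0)] (.node [] .nil (.node [(.ofNat 1),(.negSucc 1),(.ofNat 0),(.ofNat 1),(.negSucc 0),(.ofNat 0),(.ofNat 1),(.ofNat 0)] .nil .nil)) (.node [(.ofNat 1),(.negSucc 0),(.ofNat 0),(.negSucc 0),(.ofNat 2),(.ofNat 0),(.negSucc 0),(.ofNat 0)] .nil (.node [(.ofNat 1),(.negSucc 1),(.negSucc 0),(.ofNat 1),(.ofNat 1),(.negSucc 0),(.ofNat 0),(.ofNat 0)] .nil .nil)))) (.node [(.ofNat 0),(.ofNat 0),(.ofNat 0),(.ofNat 1),(.ofNat 0),(.negSucc 0),(.negSucc 0),(.ofNat 1)] (.node [] (.node [] .nil (.node [(.negSucc 0),(.negSucc 1),(.negSucc 0),(.ofNat 2),(.ofNat 0),(.ofNat 0),(.ofNat 0),(.ofNat 0)] .nil .nil)) (.node [(.negSucc 0),(.negSucc 0),(.ofNat 1),(.ofNat 0),(.negSucc 0),(.ofNat 1),(.ofNat 1),(.ofNat 0)] .nil (.node [(.ofNat 1),(.ofNat 0),(.negSucc 0),(.ofNat 0),(.ofNat 0),(.ofNat 1),(.negSucc 1),(.ofNat 2)] .nil .nil))) (.node [(.negSucc 0),(.negSucc 0),(.ofNat 2),(.negSucc 0),(.ofNat 1),(.ofNat 0),(.negSucc 0),(.ofNat 1)] (.node [] .nil (.node [(.negSucc 0),(.ofNat 1),(.ofNat 2),(.negSucc 1),(.ofNat 0),(.ofNat 1),(.negSucc 0),(.ofNat 1)] .nil .nil)) (.node [(.ofNat 2),(.ofNat 0),(.negSucc 0),(.ofNat 0),(.negSucc 0),(.ofNat 1),(.ofNat 1),(.negSucc 0)] .nil (.node [(.negSucc 0),(.negSucc 0),(.ofNat 1),(.ofNat 1),(.negSucc 0),(.ofNat 0),(.negSucc 0),(.ofNat 1)] .nil .nil)))))) (.node [(.ofNat 1),(.ofNat 1),(.ofNat 0),(.negSucc 0),(.ofNat 1),(.negSucc 0),(.ofNat 0),(.ofNat 1)] (.node [] (.node [] (.node [] (.node [] (.node [] .nil (.node [(.ofNat 1),(.negSucc 0),(.negSucc 0),(.ofNat 1),(.negSucc 0),(.ofNat 1),(.negSucc 0),(.ofNat 1)] .nil .nil)) (.node [(.ofNat 0),(.ofNat 1),(.ofNat 1),(.negSucc 1),(.ofNat 1),(.negSucc 0),(.ofNat 2),(.negSucc 0)] .nil .nil)) (.node [(.negSucc 0),(.ofNat 1),(.ofNat 2),(.negSucc 0),(.ofNat 0),(.negSucc 0),(.ofNat 1),(.negSucc 0)] .nil (.node [(.ofNat 1),(.negSucc 0),(.negSucc 1),(.ofNat 1),(.ofNat 0),(.ofNat 1),(.negSucc 0),(.ofNat 1)] .nil .nil))) (.node [(.negSucc 0),(.negSucc 1),(.ofNat 1),(.ofNat 0),(.ofNat 1),(.ofNat 0),(.ofNat 0),(.ofNat 0)] (.node [] .nil (.node [(.ofNat 0),(.negSucc 0),(.ofNat 1),(.ofNat 0),(.negSucc 0),(.ofNat 2),(.negSucc 0),(.negSucc 0)] .nil .nil)) (.node [(.negSucc 0),(.ofNat 1),(.ofNat 1),(.negSucc 1),(.ofNat 2),(.ofNat 0),(.negSucc 0),(.ofNat 0)] .nil (.node [(.ofNat 0),(.ofNat 0),(.ofNat 1),(.ofNat 0),(.ofNat 0),(.negSucc 0),(.negSucc 0),(.ofNat 1)] .nil .nil)))) (.node [(.ofNat 0),(.negSucc 0),(.ofNat 1),(.negSucc 0),(.ofNat 1),(.ofNat 1),(.negSucc 0),(.ofNat 0)] (.node [] (.node [] .nil (.node [(.ofNat 0),(.ofNat 1),(.ofNat 1),(.negSucc 1),(.ofNat 1),(.ofNat 1),(.negSucc 0),(.negSucc 0)] .nil .nil)) (.node [(.ofNat 0),(.ofNat 2),(.ofNat 1),(.negSucc 1),(.ofNat 1),(.ofNat 0),(.negSucc 0),(.ofNat 0)] .nil (.node [(.ofNat 0),(.ofNat 0),(.negSucc 0),(.ofNat 1),(.ofNat 1),(.negSucc 1),(.ofNat 0),(.ofNat 0)] .nil .nil))) (.node [(.negSucc 0),(.ofNat 0),(.ofNat 1),(.ofNat 1),(.negSucc 1),(.ofNat 1),(.negSucc 0),(.ofNat 1)] (.node [] .nil (.node [(.ofNat 0),(.ofNat 0),(.negSucc 0),(.ofNat 0),(.ofNat 0),(.ofNat 1),(.negSucc 0),(.ofNat 2)] .nil .nil)) (.node [(.negSucc 0),(.ofNat 1),(.ofNat 1),(.ofNat 0),(.negSucc 0),(.ofNat 1),(.negSucc 1),(.ofNat 1)] .nil (.node [(.negSucc 1),(.negSucc 0),(.ofNat 0),(.ofNat 1),(.ofNat 0),(.ofNat 0),(.ofNat 0),(.ofNat 0)] .nil .nil))))) (.node [(.ofNat 1),(.negSucc 0),(.ofNat 0),(.ofNat 1),(.ofNat 0),(.negSucc 0),(.ofNat 0),(.ofNat 0)] (.node [] (.node [] (.node [] (.node [] .nil (.node [(.ofNat 0),(.ofNat 0),(.ofNat 1),(.negSucc 0),(.ofNat 0),(.ofNat 0),(.ofNat 0),(.ofNat 0)] .nil .nil)) (.node [(.ofNat 0),(.negSucc 0),(.negSucc 0),(.ofNat 2),(.negSucc 0),(.ofNat 1),(.negSucc 0),(.negSucc 0)] .nil .nil)) (.node [(.ofNat 1),(.ofNat 0),(.negSucc 0),(.ofNat 1),(.negSucc 1),(.ofNat 2),(.negSucc 0),(.ofNat 1)] .nil (.node [(.negSucc 0),(.ofNat 1),(.ofNat 2),(.negSucc 0),(.negSucc 0),(.ofNat 0),(.ofNat 1),(.negSucc 0)] .nil .nil))) (.node [(.negSucc 1),(.ofNat 1),(.ofNat 1),(.negSucc 0),(.ofNat 0),(.ofNat 1),(.ofNat 0),(.ofNat 0)] (.node [] .nil (.node [(.ofNat 1),(.ofNat 1),(.negSucc 0),(.ofNat 0),(.ofNat 0),(.ofNat 1),(.negSucc 1),(.ofNat 0)] .nil .nil)) (.node [(.negSucc 0),(.ofNat 0),(.ofNat 2),(.negSucc 1),(.ofNat 1),(.ofNat 0),(.ofNat 1),(.negSucc 0)] .nil (.node [(.ofNat 0),(.negSucc 0),(.negSucc 0),(.ofNat 1),(.negSucc 0),(.ofNat 1),(.ofNat 0),(.ofNat 1)] .nil .nil)))) (.node [(.negSucc 1),(.ofNat 1),(.ofNat 2),(.negSucc 0),(.ofNat 0),(.ofNat 0),(.ofNat 0),(.ofNat 0)] (.node [] (.node [] .nil (.node [(.ofNat 0),(.ofNat 1),(.ofNat 1),(.negSucc 0),(.negSucc 0),(.ofNat 2),(.negSucc 0),(.negSucc 0)] .nil .nil)) (.node [(.ofNat 2),(.ofNat 1),(.negSucc 1),(.ofNat 0),(.ofNat 0),(.ofNat 0),(.ofNat 0),(.ofNat 1)] .nil (.node [(.negSucc 1),(.negSucc 0),(.ofNat 1),(.ofNat 1),(.negSucc 0),(.ofNat 1),(.negSucc 0),(.ofNat 0)] .nil .nil))) (.node [(.ofNat 2),(.ofNat 1),(.negSucc 0),(.ofNat 0),(.negSucc 0),(.ofNat 1),(.ofNat 0),(.negSucc 0)] (.node [] .nil (.node [(.negSucc 0),(.ofNat 2),(.ofNat 1),(.negSucc 0),(.ofNat 0),(.negSucc 0),(.ofNat 1),(.negSucc 0)] .nil .nil)) (.node [(.negSucc 0),(.ofNat 1),(.ofNat 1),(.ofNat 0),(.negSucc 0),(.ofNat 1),(.negSucc 0),(.negSucc 0)] .nil (.node [(.ofNat 0),(.negSucc 0),(.ofNat 1),(.negSucc 0),(.ofNat 0),(.ofNat 1),(.ofNat 0),(.ofNat 0)] .nil .nil))))))) (.node [(.negSucc 0),(.ofNat 0),(.ofNat 0),(.ofNat 0),(.ofNat 1),(.ofNat 0),(.negSucc 0),(.ofNat 1)] (.node [] (.node [] (.node [] (.node [] (.node [] (.node [] .nil (.node [(.ofNat 0),(.negSucc 0),(.ofNat 1),(.ofNat 0),(.negSucc 0),(.ofNat 1),(.negSucc 0),(.ofNat 1)] .nil .nil)) (.node [(.negSucc 0),(.ofNat 0),(.negSucc 0),(.ofNat 0),(.ofNat 1),(.ofNat 1),(.negSucc 0),(.ofNat 0)] .nil .nil)) (.node [(.negSucc 1),(.ofNat 1),(.ofNat 1),(.ofNat 0),(.negSucc 0),(.ofNat 1),(.ofNat 0),(.negSucc 0)] .nil (.node [(.ofNat 0),(.ofNat 1),(.ofNat 0),(.ofNat 0),(.negSucc 1),(.ofNat 2),(.negSucc 0),(.ofNat 1)] .nil .nil))) (.node [(.ofNat 0),(.ofNat 0),(.negSucc 0),(.ofNat 0),(.ofNat 0),(.ofNat 1),(.ofNat 0),(.ofNat 1)] (.node [] .nil (.node [(.ofNat 0),(.negSucc 0),(.ofNat 1),(.ofNat 1),(.negSucc 1),(.ofNat 1),(.negSucc 0),(.ofNat 1)] .nil .nil)) (.node [(.ofNat 1),(.negSucc 0),(.ofNat 0),(.ofNat 0),(.ofNat 0),(.ofNat 1),(.negSucc 1),(.ofNat 2)] .nil (.node [(.ofNat 1),(.ofNat 1),(.ofNat 0),(.negSucc 0),(.ofNat 0),(.negSucc 0),(.ofNat 1),(.ofNat 1)] .nil .nil)))) (.node [(.ofNat 1),(.ofNat 1),(.negSucc 0),(.negSucc 0),(.ofNat 1),(.ofNat 0),(.ofNat 1),(.negSucc 0)] (.node [] (.node [] .nil (.node [(.ofNat 0),(.negSucc 0),(.negSucc 0),(.ofNat 2),(.ofNat 0),(.negSucc 0),(.ofNat 0),(.negSucc 0)] .nil .nil)) (.node [(.ofNat 1),(.negSucc 1),(.negSucc 0),(.ofNat 1),(.ofNat 0),(.ofNat 1),(.ofNat 0),(.negSucc 0)] .nil (.node [(.negSucc 0),(.ofNat 0),(.ofNat 0),(.ofNat 0),(.negSucc 0),(.ofNat 1),(.ofNat 1),(.ofNat 0)] .nil .nil))) (.node [(.ofNat 1),(.ofNat 1),(.ofNat 1),(.negSucc 0),(.negSucc 0),(.ofNat 1),(.negSucc 0),(.ofNat 1)] (.node [] .nil (.node [(.negSucc 0),(.ofNat 1),(.ofNat 0),(.ofNat 0),(.ofNat 1),(.negSucc 1),(.ofNat 1),(.negSucc 0)] .nil .nil)) (.node [(.ofNat 2),(.ofNat 1),(.negSucc 1),(.ofNat 0),(.ofNat 1),(.negSucc 0),(.ofNat 0),(.ofNat 0)] .nil (.node [(.negSucc 0),(.negSucc 0),(.ofNat 1),(.ofNat 1),(.negSucc 1),(.ofNat 1),(.ofNat 0),(.ofNat 0)] .nil .nil))))) (.node [(.ofNat 0),(.ofNat 1),(.negSucc 0),(.ofNat 1),(.negSucc 0),(.ofNat 0),(.ofNat 1),(.negSucc 0)] (.node [] (.node [] (.node [] (.node [] .nil (.node [(.ofNat 0),(.ofNat 0),(.negSucc 0),(.ofNat 0),(.ofNat 1),(.ofNat 0),(.negSucc 0),(.ofNat 0)] .nil .nil)) (.node [(.ofNat 1),(.ofNat 1),(.negSucc 0),(.negSucc 0),(.ofNat 0),(.ofNat 2),(.negSucc 0),(.ofNat 0)] .nil .nil)) (.node [(.negSucc 0),(.negSucc 1),(.ofNat 0),(.ofNat 1),(.ofNat 0),(.ofNat 0),(.ofNat 1),(.ofNat 0)] .nil (.node [(.negSucc 1),(.negSucc 0),(.ofNat 1),(.ofNat 0),(.ofNat 0),(.ofNat 1),(.ofNat 0),(.negSucc 0)] .nil .nil))) (.node [(.negSucc 0),(.negSucc 0),(.ofNat 0),(.ofNat 1),(.ofNat 0),(.ofNat 1),(.negSucc 0),(.negSucc 0)] (.node [] .nil (.node [(.ofNat 0),(.ofNat 0),(.ofNat 2),(.negSucc 1),(.ofNat 1),(.ofNat 0),(.ofNat 0),(.negSucc 0)] .nil .nil)) (.node [(.ofNat 0),(.negSucc 0),(.ofNat 2),(.negSucc 0),(.ofNat 0),(.ofNat 1),(.negSucc 0),(.ofNat 0)] .nil (.node [(.negSucc 0),(.ofNat 0),(.ofNat 0),(.ofNat 1),(.negSucc 0),(.ofNat 1),(.negSucc 1),(.ofNat 1)] .nil .nil)))) (.node [(.negSucc 0),(.ofNat 1),(.ofNat 0),(.ofNat 0),(.ofNat 0),(.negSucc 0),(.ofNat 1),(.ofNat 1)] (.node [] (.node [] .nil (.node [(.ofNat 0),(.ofNat 1),(.ofNat 1),(.ofNat 0),(.negSucc 1),(.ofNat 1),(.negSucc 0),(.ofNat 1)] .nil .nil)) (.node [(.ofNat 1),(.ofNat 1),(.ofNat 0),(.ofNat 0),(.negSucc 1),(.ofNat 1),(.ofNat 0),(.ofNat 1)] .nil (.node [(.ofNat 0),(.ofNat 1),(.ofNat 0),(.ofNat 0),(.ofNat 0),(.ofNat 0),(.negSucc 0),(.negSucc 0)] .nil .nil))) (.node [(.negSucc 0),(.ofNat 0),(.ofNat 1),(.ofNat 1),(.negSucc 0),(.negSucc 0),(.ofNat 0),(.ofNat 1)] (.node [] .nil (.node [(.negSucc 0),(.ofNat 0),(.ofNat 1),(.negSucc 0),(.ofNat 2),(.negSucc 1),(.ofNat 0),(.ofNat 1)] .nil .nil)) (.node [(.negSucc 0),(.ofNat 0),(.ofNat 2),(.negSucc 1),(.ofNat 2),(.negSucc 0),(.ofNat 0),(.ofNat 0)] .nil (.node [(.ofNat 0),(.ofNat 0),(.ofNat 0),(.ofNat 0),(.negSucc 0),(.ofNat 1),(.negSucc 0),(.ofNat 2)] .nil .nil)))))) (.node [(.negSucc 0),(.ofNat 0),(.ofNat 0),(.ofNat 1),(.ofNat 0),(.ofNat 0),(.negSucc 0),(.ofNat 0)] (.node [] (.node [] (.node [] (.node [] (.node [] .nil (.node [(.negSucc 0),(.ofNat 0),(.ofNat 1),(.negSucc 0),(.ofNat 0),(.ofNat 0),(.ofNat 1),(.ofNat 0)] .nil .nil)) (.node [(.ofNat 0),(.ofNat 1),(.ofNat 1),(.negSucc 0),(.negSucc 0),(.ofNat 0),(.ofNat 1),(.ofNat 1)] .nil .nil)) (.node [(.ofNat 0),(.ofNat 0),(.ofNat 1),(.ofNat 0),(.negSucc 1),(.ofNat 2),(.negSucc 0),(.ofNat 1)] .nil (.node [(.negSucc 1),(.ofNat 1),(.ofNat 1),(.negSucc 0),(.ofNat 0),(.ofNat 1),(.ofNat 0),(.negSucc 0)] .nil .nil))) (.node [(.negSucc 0),(.negSucc 0),(.ofNat 0),(.ofNat 1),(.ofNat 0),(.ofNat 0),(.ofNat 1),(.negSucc 1)] (.node [] .nil (.node [(.negSucc 1),(.ofNat 1),(.ofNat 2),(.negSucc 0),(.ofNat 0),(.ofNat 0),(.negSucc 0),(.ofNat 1)] .nil .nil)) (.node [(.ofNat 0),(.negSucc 0),(.negSucc 0),(.ofNat 0),(.ofNat 2),(.negSucc 0),(.ofNat 0),(.ofNat 1)] .nil (.node [(.ofNat 1),(.ofNat 0),(.negSucc 0),(.ofNat 0),(.ofNat 1),(.ofNat 0),(.negSucc 0),(.negSucc 0)] .nil .nil)))) (.node [(.negSucc 0),(.negSucc 0),(.ofNat 0),(.ofNat 0),(.ofNat 1),(.ofNat 0),(.ofNat 0),(.ofNat 1)] (.node [] (.node [] .nil (.node [(.ofNat 0),(.negSucc 0),(.ofNat 1),(.negSucc 0),(.ofNat 1),(.ofNat 0),(.ofNat 1),(.negSucc 1)] .nil .nil)) (.node [(.negSucc 1),(.ofNat 0),(.ofNat 2),(.negSucc 0),(.ofNat 1),(.negSucc 0),(.ofNat 1),(.negSucc 0)] .nil (.node [(.ofNat 1),(.negSucc 0),(.ofNat 1),(.ofNat 0),(.ofNat 0),(.negSucc 0),(.ofNat 0),(.ofNat 0)] .nil .nil))) (.node [(.ofNat 0),(.negSucc 0),(.ofNat 0),(.ofNat 0),(.ofNat 0),(.ofNat 0),(.ofNat 1),(.ofNat 1)] (.node [] .nil (.node [(.ofNat 0),(.ofNat 2),(.negSucc 0),(.ofNat 0),(.negSucc 0),(.ofNat 1),(.negSucc 0),(.ofNat 1)] .nil .nil)) (.node [(.ofNat 0),(.ofNat 1),(.negSucc 0),(.ofNat 1),(.negSucc 0),(.ofNat 0),(.negSucc 0),(.ofNat 2)] .nil (.node [(.ofNat 2),(.ofNat 0),(.negSucc 0),(.ofNat 0),(.negSucc 0),(.ofNat 1),(.ofNat 0),(.ofNat 0)] .nil .nil))))) (.node [(.negSucc 0),(.negSucc 0),(.ofNat 1),(.ofNat 1),(.ofNat 0),(.negSucc 0),(.ofNat 0),(.ofNat 0)] (.node [] (.node [] (.node [] .nil (.node [(.ofNat 0),(.ofNat 1),(.ofNat 1),(.negSucc 0),(.negSucc 0),(.ofNat 1),(.negSucc 0),(.ofNat 2)] .nil .nil)) (.node [(.ofNat 0),(.negSucc 0),(.ofNat 0),(.ofNat 0),(.ofNat 2),(.negSucc 1),(.ofNat 1),(.negSucc 0)] .nil (.node [(.negSucc 0),(.ofNat 0),(.ofNat 1),(.ofNat 0),(.ofNat 1),(.negSucc 1),(.ofNat 0),(.ofNat 0)] .nil .nil))) (.node [(.ofNat 0),(.negSucc 1),(.negSucc 0),(.ofNat 2),(.negSucc 0),(.ofNat 1),(.ofNat 0),(.ofNat 0)] (.node [] .nil (.node [(.ofNat 1),(.ofNat 0),(.ofNat 0),(.ofNat 0),(.ofNat 0),(.ofNat 0),(.negSucc 1),(.ofNat 2)] .nil .nil)) (.node [(.ofNat 0),(.ofNat 1),(.negSucc 0),(.ofNat 1),(.negSucc 0),(.negSucc 0),(.ofNat 1),(.ofNat 1)] .nil (.node [(.negSucc 0),(.negSucc 0),(.ofNat 1),(.negSucc 0),(.ofNat 2),(.negSucc 0),(.ofNat 0),(.ofNat 0)] .nil .nil)))) (.node [(.ofNat 0),(.ofNat 0),(.ofNat 2),(.negSucc 0),(.negSucc 0),(.ofNat 1),(.ofNat 0),(.ofNat 0)] (.node [] (.node [] .nil (.node [(.ofNat 0),(.negSucc 0),(.ofNat 1),(.ofNat 0),(.ofNat 0),(.negSucc 0),(.ofNat 0),(.ofNat 2)] .nil .nil)) (.node [(.negSucc 0),(.ofNat 0),(.ofNat 0),(.ofNat 1),(.ofNat 0),(.negSucc 1),(.ofNat 2),(.negSucc 0)] .nil (.node [(.negSucc 0),(.ofNat 1),(.negSucc 0),(.ofNat 1),(.negSucc 0),(.ofNat 1),(.negSucc 0),(.ofNat 0)] .nil .nil))) (.node [(.ofNat 1),(.negSucc 0),(.ofNat 1),(.ofNat 0),(.negSucc 0),(.ofNat 1),(.ofNat 0),(.negSucc 0)] (.node [] .nil (.node [(.ofNat 0),(.negSucc 0),(.ofNat 0),(.ofNat 1),(.negSucc 1),(.ofNat 1),(.ofNat 1),(.ofNat 0)] .nil .nil)) (.node [(.ofNat 0),(.ofNat 1),(.negSucc 0),(.ofNat 1),(.negSucc 0),(.ofNat 0),(.ofNat 1),(.negSucc 1)] .nil (.node [(.negSucc 1),(.ofNat 0),(.ofNat 1),(.ofNat 0),(.ofNat 0),(.ofNat 0),(.negSucc 0),(.ofNat 1)] .nil .nil)))))))))) (.node [(.ofNat 0),(.ofNat 1),(.ofNat 0),(.negSucc 0),(.ofNat 1),(.ofNat 0),(.ofNat 0),(.ofNat 0)] (.node [] (.node [] (.node [] (.node [] (.node [] (.node [] (.node [] (.node [] (.node [] .nil (.node [(.negSucc 0),(.ofNat 1),(.ofNat 0),(.negSucc 0),(.ofNat 0),(.ofNat 1),(.ofNat 0),(.ofNat 0)] .nil .nil)) (.node [(.ofNat 0),(.ofNat 0),(.ofNat 0),(.negSucc 0),(.ofNat 1),(.ofNat 1),(.ofNat 0),(.negSucc 1)] .nil .nil)) (.node [(.ofNat 1),(.ofNat 2),(.negSucc 0),(.negSucc 0),(.ofNat 0),(.ofNat 0),(.ofNat 1),(.ofNat 0)] .nil (.node [(.ofNat 1),(.negSucc 0),(.negSucc 0),(.ofNat 2),(.negSucc 0),(.ofNat 0),(.negSucc 0),(.ofNat 0)] .nil .nil))) (.node [(.ofNat 1),(.ofNat 1),(.negSucc 0),(.ofNat 1),(.negSucc 0),(.negSucc 0),(.ofNat 1),(.ofNat 0)] (.node [] .nil (.node [(.ofNat 2),(.negSucc 0),(.ofNat 0),(.ofNat 0),(.ofNat 0),(.negSucc 0),(.ofNat 1),(.ofNat 0)] .nil .nil)) (.node [(.ofNat 0),(.ofNat 0),(.negSucc 1),(.ofNat 2),(.negSucc 0),(.ofNat 0),(.ofNat 0),(.ofNat 1)] .nil (.node [(.ofNat 0),(.ofNat 2),(.ofNat 1),(.negSucc 1),(.ofNat 1),(.negSucc 0),(.ofNat 0),(.ofNat 0)] .nil .nil)))) (.node [(.ofNat 2),(.ofNat 0),(.negSucc 0),(.ofNat 0),(.ofNat 0),(.ofNat 1),(.negSucc 0),(.ofNat 0)] (.node [] (.node [] .nil (.node [(.ofNat 0),(.ofNat 0),(.ofNat 0),(.ofNat 0),(.ofNat 1),(.negSucc 1),(.ofNat 2),(.negSucc 1)] .nil .nil)) (.node [(.negSucc 1),(.ofNat 1),(.ofNat 1),(.ofNat 0),(.ofNat 0),(.ofNat 0),(.negSucc 0),(.ofNat 0)] .nil (.node [(.ofNat 0),(.ofNat 1),(.ofNat 0),(.ofNat 0),(.negSucc 0),(.ofNat 1),(.ofNat 0),(.negSucc 1)] .nil .nil))) (.node [(.negSucc 0),(.ofNat 0),(.ofNat 1),(.ofNat 1),(.negSucc 1),(.ofNat 0),(.ofNat 1),(.ofNat 0)] (.node [] .nil (.node [(.negSucc 0),(.negSucc 1),(.ofNat 1),(.ofNat 0),(.ofNat 1),(.ofNat 0),(.negSucc 0),(.ofNat 1)] .nil .nil)) (.node [(.negSucc 0),(.ofNat 1),(.ofNat 1),(.negSucc 0),(.ofNat 1),(.negSucc 0),(.ofNat 1),(.negSucc 1)] .nil (.node [(.ofNat 1),(.negSucc 0),(.ofNat 0),(.ofNat 0),(.ofNat 0),(.ofNat 1),(.negSucc 1),(.ofNat 1)] .nil .nil))))) (.node [(.negSucc 0),(.negSucc 0),(.ofNat 1),(.ofNat 0),(.ofNat 0),(.ofNat 1),(.ofNat 0),(.negSucc 0)] (.node [] (.node [] (.node [] (.node [] .nil (.node [(.negSucc 0),(.ofNat 1),(.ofNat 0),(.ofNat 0),(.ofNat 0),(.negSucc 0),(.ofNat 1),(.negSucc 0)] .nil .nil)) (.node [(.ofNat 0),(.ofNat 0),(.ofNat 0),(.ofNat 0),(.negSucc 0),(.ofNat 2),(.ofNat 0),(.negSucc 1)] .nil .nil)) (.node [(.ofNat 0),(.ofNat 2),(.ofNat 1),(.negSucc 1),(.ofNat 0),(.ofNat 1),(.ofNat 0),(.negSucc 0)] .nil (.node [(.ofNat 2),(.ofNat 0),(.negSucc 1),(.ofNat 1),(.ofNat 0),(.ofNat 0),(.negSucc 0),(.ofNat 0)] .nil .nil))) (.node [(.ofNat 0),(.ofNat 0),(.ofNat 2),(.negSucc 0),(.ofNat 0),(.ofNat 0),(.negSucc 0),(.ofNat 1)] (.node [] .nil (.node [(.negSucc 0),(.ofNat 0),(.ofNat 1),(.ofNat 0),(.negSucc 1),(.ofNat 2),(.ofNat 0),(.ofNat 0)] .nil .nil)) (.node [(.negSucc 0),(.ofNat 1),(.ofNat 1),(.negSucc 0),(.ofNat 1),(.negSucc 0),(.negSucc 0),(.ofNat 2)] .nil (.node [(.negSucc 0),(.ofNat 0),(.ofNat 0),(.ofNat 1),(.negSucc 0),(.ofNat 0),(.negSucc 0),(.ofNat 2)] .nil .nil)))) (.node [(.ofNat 0),(.negSucc 0),(.ofNat 1),(.negSucc 0),(.ofNat 2),(.negSucc 0),(.ofNat 0),(.ofNat 0)] (.node [] (.node [] .nil (.node [(.ofNat 2),(.ofNat 0),(.negSucc 0),(.ofNat 1),(.negSucc 0),(.ofNat 0),(.negSucc 0),(.ofNat 1)] .nil .nil)) (.node [(.ofNat 2),(.ofNat 0),(.ofNat 0),(.ofNat 0),(.negSucc 0),(.ofNat 0),(.ofNat 1),(.negSucc 0)] .nil (.node [(.ofNat 1),(.ofNat 0),(.negSucc 0),(.ofNat 1),(.negSucc 1),(.ofNat 1),(.ofNat 0),(.ofNat 1)] .nil .nil))) (.node [(.negSucc 1),(.ofNat 1),(.ofNat 1),(.ofNat 0),(.negSucc 0),(.ofNat 0),(.ofNat 1),(.ofNat 0)] (.node [] .nil (.node [(.negSucc 0),(.negSucc 0),(.ofNat 2),(.negSucc 0),(.ofNat 0),(.ofNat 0),(.ofNat 1),(.ofNat 0)] .nil .nil)) (.node [(.ofNat 0),(.ofNat 1),(.negSucc 0),(.ofNat 0),(.ofNat 1),(.negSucc 0),(.ofNat 1),(.negSucc 1)] .nil (.node [(.ofNat 0),(.negSucc 0),(.negSucc 0),(.ofNat 1),(.ofNat 0),(.ofNat 0),(.ofNat 1),(.negSucc 1)] .nil .nil)))))) (.node [(.ofNat 1),(.ofNat 0),(.negSucc 0),(.ofNat 1),(.ofNat 0),(.negSucc 0),(.ofNat 0),(.ofNat 1)] (.node [] (.node [] (.node [] (.node [] (.node [] .nil (.node [(.negSucc 0),(.negSucc 0),(.ofNat 0),(.ofNat 0),(.ofNat 1),(.negSucc 0),(.ofNat 1),(.ofNat 0)] .nil .nil)) (.node [(.ofNat 0),(.ofNat 2),(.ofNat 0),(.negSucc 0),(.ofNat 1),(.negSucc 1),(.ofNat 1),(.ofNat 0)] .nil .nil)) (.node [(.negSucc 0),(.ofNat 1),(.negSucc 0),(.ofNat 1),(.negSucc 0),(.ofNat 1),(.negSucc 0),(.ofNat 1)] .nil (.node [(.negSucc 0),(.negSucc 1),(.ofNat 1),(.ofNat 1),(.ofNat 0),(.negSucc 0),(.ofNat 1),(.negSucc 0)] .nil .nil))) (.node [(.ofNat 1),(.negSucc 0),(.negSucc 0),(.ofNat 2),(.negSucc 0),(.negSucc 0),(.ofNat 1),(.ofNat 0)] (.node [] .nil (.node [(.negSucc 0),(.ofNat 1),(.ofNat 0),(.negSucc 0),(.ofNat 1),(.ofNat 1),(.negSucc 0),(.negSucc 0)] .nil .nil)) (.node [(.ofNat 2),(.negSucc 0),(.negSucc 1),(.ofNat 1),(.ofNat 0),(.ofNat 0),(.ofNat 0),(.ofNat 1)] .nil (.node [(.negSucc 0),(.ofNat 0),(.ofNat 0),(.ofNat 0),(.ofNat 1),(.negSucc 0),(.negSucc 0),(.ofNat 2)] .nil .nil)))) (.node [(.ofNat 0),(.ofNat 1),(.ofNat 1),(.negSucc 0),(.ofNat 0),(.negSucc 0),(.ofNat 1),(.ofNat 1)] (.node [] (.node [] .nil (.node [(.ofNat 0),(.negSucc 1),(.ofNat 0),(.ofNat 1),(.ofNat 1),(.negSucc 0),(.negSucc 0),(.ofNat 1)] .nil .nil)) (.node [(.ofNat 1),(.negSucc 0),(.ofNat 0),(.negSucc 0),(.ofNat 1),(.ofNat 1),(.negSucc 0),(.ofNat 1)] .nil (.node [(.ofNat 1),(.ofNat 1),(.ofNat 1),(.negSucc 0),(.ofNat 0),(.negSucc 0),(.ofNat 0),(.ofNat 0)] .nil .nil))) (.node [(.ofNat 1),(.negSucc 0),(.negSucc 1),(.ofNat 1),(.ofNat 0),(.ofNat 1),(.ofNat 0),(.ofNat 0)] (.node [] .nil (.node [(.negSucc 0),(.ofNat 0),(.ofNat 1),(.negSucc 0),(.ofNat 0),(.ofNat 2),(.negSucc 1),(.ofNat 1)] .nil .nil)) (.node [(.negSucc 0),(.negSucc 0),(.ofNat 1),(.ofNat 1),(.negSucc 1),(.ofNat 2),(.negSucc 0),(.ofNat 0)] .nil (.node [(.negSucc 0),(.negSucc 0),(.ofNat 1),(.ofNat 0),(.ofNat 0),(.ofNat 1),(.negSucc 1),(.ofNat 1)] .nil .nil))))) (.node [(.ofNat 0),(.negSucc 0),(.negSucc 0),(.ofNat 2),(.negSucc 0),(.ofNat 0),(.ofNat 0),(.ofNat 1)] (.node [] (.node [] (.node [] (.node [] .nil (.node [(.ofNat 0),(.ofNat 1),(.ofNat 0),(.negSucc 0),(.ofNat 0),(.ofNat 0),(.ofNat 1),(.negSucc 0)] .nil .nil)) (.node [(.ofNat 0),(.ofNat 2),(.ofNat 0),(.negSucc 0),(.ofNat 1),(.negSucc 0),(.negSucc 0),(.ofNat 1)] .nil .nil)) (.node [(.ofNat 1),(.ofNat 1),(.negSucc 1),(.ofNat 1),(.ofNat 0),(.negSucc 0),(.ofNat 1),(.negSucc 0)] .nil (.node [(.negSucc 0),(.negSucc 0),(.negSucc 0),(.ofNat 1),(.ofNat 0),(.ofNat 1),(.negSucc 0),(.ofNat 1)] .nil .nil))) (.node [(.negSucc 0),(.ofNat 0),(.ofNat 1),(.negSucc 0),(.ofNat 1),(.ofNat 0),(.ofNat 1),(.negSucc 1)] (.node [] .nil (.node [(.ofNat 1),(.negSucc 0),(.negSucc 0),(.ofNat 1),(.negSucc 0),(.ofNat 2),(.negSucc 0),(.negSucc 0)] .nil .nil)) (.node [(.ofNat 0),(.ofNat 0),(.ofNat 1),(.ofNat 1),(.negSucc 1),(.ofNat 0),(.ofNat 0),(.ofNat 0)] .nil (.node [(.ofNat 0),(.negSucc 0),(.negSucc 0),(.ofNat 0),(.ofNat 1),(.ofNat 0),(.ofNat 1),(.negSucc 0)] .nil .nil)))) (.node [(.negSucc 0),(.ofNat 1),(.ofNat 0),(.negSucc 0),(.ofNat 2),(.negSucc 0),(.ofNat 0),(.ofNat 0)] (.node [] (.node [] .nil (.node [(.ofNat 0),(.ofNat 0),(.ofNat 2),(.negSucc 1),(.ofNat 1),(.negSucc 0),(.ofNat 1),(.ofNat 0)] .nil .nil)) (.node [(.ofNat 1),(.ofNat 0),(.negSucc 0),(.ofNat 1),(.negSucc 0),(.ofNat 1),(.ofNat 0),(.negSucc 1)] .nil (.node [(.ofNat 0),(.ofNat 0),(.ofNat 1),(.ofNat 0),(.negSucc 0),(.negSucc 0),(.ofNat 2),(.negSucc 0)] .nil .nil))) (.node [(.ofNat 1),(.ofNat 0),(.ofNat 0),(.ofNat 0),(.ofNat 1),(.negSucc 0),(.negSucc 0),(.ofNat 0)] (.node [] .nil (.node [(.ofNat 1),(.ofNat 0),(.ofNat 0),(.negSucc 0),(.ofNat 1),(.ofNat 1),(.negSucc 1),(.ofNat 0)] .nil .nil)) (.node [(.ofNat 0),(.ofNat 1),(.negSucc 0),(.ofNat 1),(.ofNat 0),(.negSucc 1),(.ofNat 1),(.ofNat 0)] .nil (.node [(.ofNat 0),(.ofNat 2),(.ofNat 0),(.negSucc 0),(.ofNat 0),(.ofNat 0),(.negSucc 0),(.ofNat 1)] .nil .nil))))))) (.node [(.negSucc 0),(.ofNat 0),(.ofNat 0),(.ofNat 0),(.ofNat 0),(.ofNat 1),(.ofNat 0),(.ofNat 0)] (.node [] (.node [] (.node [] (.node [] (.node [] (.node [] .nil (.node [(.ofNat 1),(.ofNat 1),(.negSucc 0),(.ofNat 0),(.negSucc 0),(.ofNat 0),(.ofNat 1),(.ofNat 0)] .nil .nil)) (.node [(.ofNat 2),(.negSucc 0),(.negSucc 1),(.ofNat 2),(.negSucc 0),(.ofNat 0),(.ofNat 0),(.ofNat 0)] .nil .nil)) (.node [(.negSucc 0),(.ofNat 0),(.ofNat 1),(.ofNat 0),(.ofNat 1),(.negSucc 0),(.negSucc 0),(.ofNat 0)] .nil (.node [(.ofNat 1),(.ofNat 0),(.ofNat 0),(.negSucc 0),(.ofNat 2),(.negSucc 0),(.negSucc 0),(.ofNat 0)] .nil .nil))) (.node [(.negSucc 0),(.negSucc 0),(.ofNat 0),(.ofNat 1),(.ofNat 0),(.negSucc 0),(.ofNat 2),(.negSucc 0)] (.node [] .nil (.node [(.ofNat 1),(.ofNat 1),(.negSucc 0),(.negSucc 0),(.ofNat 2),(.negSucc 0),(.ofNat 0),(.negSucc 0)] .nil .nil)) (.node [(.ofNat 1),(.ofNat 1),(.ofNat 0),(.ofNat 0),(.negSucc 1),(.ofNat 1),(.ofNat 1),(.negSucc 0)] .nil (.node [(.ofNat 0),(.ofNat 0),(.ofNat 1),(.negSucc 0),(.ofNat 1),(.ofNat 0),(.negSucc 0),(.negSucc 0)] .nil .nil)))) (.node [(.negSucc 0),(.ofNat 0),(.ofNat 2),(.negSucc 0),(.ofNat 1),(.negSucc 0),(.ofNat 0),(.ofNat 0)] (.node [] (.node [] .nil (.node [(.negSucc 0),(.ofNat 0),(.ofNat 2),(.ofNat 0),(.negSucc 0),(.ofNat 0),(.negSucc 0),(.ofNat 1)] .nil .nil)) (.node [(.ofNat 2),(.ofNat 0),(.ofNat 0),(.ofNat 0),(.negSucc 0),(.ofNat 0),(.ofNat 0),(.ofNat 1)] .nil (.node [(.ofNat 1),(.negSucc 0),(.negSucc 1),(.ofNat 2),(.negSucc 0),(.ofNat 0),(.ofNat 0),(.ofNat 1)] .nil .nil))) (.node [(.negSucc 1),(.ofNat 0),(.ofNat 0),(.ofNat 1),(.ofNat 0),(.ofNat 0),(.negSucc 0),(.ofNat 1)] (.node [] .nil (.node [(.negSucc 0),(.ofNat 1),(.ofNat 2),(.negSucc 1),(.ofNat 0),(.ofNat 0),(.ofNat 1),(.ofNat 0)] .nil .nil)) (.node [(.ofNat 1),(.ofNat 0),(.ofNat 1),(.negSucc 0),(.ofNat 0),(.negSucc 0),(.ofNat 1),(.ofNat 1)] .nil (.node [(.ofNat 1),(.ofNat 1),(.ofNat 0),(.negSucc 0),(.ofNat 1),(.negSucc 0),(.ofNat 0),(.negSucc 0)] .nil .nil))))) (.node [(.negSucc 0),(.negSucc 0),(.ofNat 1),(.ofNat 1),(.negSucc 0),(.ofNat 0),(.ofNat 0),(.ofNat 1)] (.node [] (.node [] (.node [] (.node [] .nil (.node [(.ofNat 1),(.ofNat 0),(.ofNat 0),(.ofNat 0),(.negSucc 0),(.ofNat 0),(.ofNat 1),(.negSucc 0)] .nil .nil)) (.node [(.negSucc 1),(.ofNat 2),(.ofNat 1),(.negSucc 0),(.ofNat 0),(.ofNat 0),(.ofNat 0),(.ofNat 0)] .nil .nil)) (.node [(.ofNat 2),(.ofNat 1),(.negSucc 0),(.ofNat 0),(.ofNat 0),(.ofNat 0),(.negSucc 0),(.ofNat 0)] .nil (.node [(.ofNat 0),(.ofNat 2),(.negSucc 0),(.ofNat 0),(.ofNat 0),(.ofNat 0),(.negSucc 0),(.ofNat 0)] .nil .nil))) (.node [(.negSucc 0),(.negSucc 1),(.ofNat 1),(.ofNat 1),(.negSucc 0),(.ofNat 1),(.ofNat 0),(.ofNat 0)] (.node [] .nil (.node [(.negSucc 0),(.negSucc 0),(.ofNat 0),(.ofNat 0),(.ofNat 2),(.negSucc 0),(.negSucc 0),(.ofNat 1)] .nil .nil)) (.node [(.ofNat 1),(.ofNat 1),(.ofNat 0),(.negSucc 0),(.ofNat 1),(.ofNat 0),(.negSucc 1),(.ofNat 1)] .nil (.node [(.negSucc 0),(.ofNat 0),(.ofNat 0),(.ofNat 1),(.ofNat 0),(.negSucc 1),(.ofNat 1),(.ofNat 0)] .nil .nil)))) (.node [(.ofNat 0),(.ofNat 1),(.ofNat 1),(.negSucc 0),(.ofNat 0),(.ofNat 1),(.negSucc 1),(.ofNat 1)] (.node [] (.node [] .nil (.node [(.negSucc 0),(.ofNat 2),(.ofNat 1),(.negSucc 1),(.ofNat 0),(.ofNat 1),(.ofNat 0),(.ofNat 0)] .nil .nil)) (.node [(.ofNat 1),(.ofNat 2),(.negSucc 0),(.negSucc 0),(.ofNat 1),(.ofNat 0),(.negSucc 0),(.ofNat 0)] .nil (.node [(.ofNat 1),(.ofNat 2),(.negSucc 0),(.negSucc 0),(.ofNat 0),(.ofNat 0),(.ofNat 1),(.negSucc 0)] .nil .nil))) (.node [(.ofNat 1),(.ofNat 0),(.negSucc 0),(.negSucc 0),(.ofNat 1),(.ofNat 1),(.ofNat 0),(.ofNat 0)] (.node [] .nil (.node [(.ofNat 0),(.ofNat 0),(.ofNat 2),(.negSucc 0),(.ofNat 0),(.negSucc 0),(.ofNat 1),(.negSucc 0)] .nil .nil)) (.node [(.ofNat 2),(.ofNat 0),(.negSucc 0),(.ofNat 0),(.ofNat 0),(.negSucc 0),(.ofNat 1),(.ofNat 1)] .nil (.node [(.ofNat 0),(.ofNat 0),(.ofNat 0),(.negSucc 0),(.ofNat 2),(.negSucc 1),(.ofNat 1),(.ofNat 0)] .nil .nil)))))) (.node [(.negSucc 0),(.ofNat 0),(.ofNat 0),(.ofNat 1),(.ofNat 0),(.negSucc 0),(.ofNat 1),(.negSucc 0)] (.node [] (.node [] (.node [] (.node [] (.node [] .nil (.node [(.ofNat 0),(.negSucc 0),(.ofNat 1),(.ofNat 0),(.ofNat 0),(.negSucc 0),(.ofNat 1),(.negSucc 0)] .nil .nil)) (.node [(.ofNat 0),(.ofNat 0),(.ofNat 0),(.negSucc 0),(.ofNat 2),(.ofNat 0),(.negSucc 1),(.ofNat 1)] .nil .nil)) (.node [(.ofNat 1),(.ofNat 1),(.negSucc 1),(.ofNat 1),(.ofNat 0),(.negSucc 0),(.ofNat 0),(.ofNat 1)] .nil (.node [(.ofNat 1),(.ofNat 0),(.negSucc 0),(.negSucc 0),(.ofNat 1),(.ofNat 0),(.ofNat 1),(.ofNat 0)] .nil .nil))) (.node [(.ofNat 1),(.ofNat 1),(.negSucc 0),(.ofNat 0),(.ofNat 1),(.negSucc 0),(.ofNat 0),(.negSucc 0)] (.node [] .nil (.node [(.ofNat 1),(.negSucc 0),(.negSucc 0),(.ofNat 1),(.negSucc 0),(.ofNat 1),(.ofNat 1),(.negSucc 1)] .nil .nil)) (.node [(.ofNat 0),(.ofNat 1),(.negSucc 0),(.negSucc 0),(.ofNat 2),(.negSucc 0),(.ofNat 1),(.negSucc 0)] .nil (.node [(.negSucc 0),(.ofNat 1),(.ofNat 1),(.negSucc 1),(.ofNat 1),(.ofNat 1),(.negSucc 0),(.ofNat 0)] .nil .nil)))) (.node [(.negSucc 1),(.ofNat 0),(.ofNat 1),(.ofNat 0),(.ofNat 1),(.negSucc 0),(.ofNat 0),(.ofNat 0)] (.node [] (.node [] .nil (.node [(.ofNat 0),(.ofNat 0),(.ofNat 0),(.ofNat 1),(.ofNat 0),(.negSucc 1),(.ofNat 0),(.ofNat 1)] .nil .nil)) (.node [(.ofNat 0),(.negSucc 0),(.ofNat 0),(.ofNat 2),(.negSucc 1),(.ofNat 0),(.ofNat 1),(.negSucc 0)] .nil (.node [(.negSucc 0),(.negSucc 0),(.ofNat 2),(.ofNat 0),(.negSucc 0),(.ofNat 1),(.negSucc 0),(.ofNat 0)] .nil .nil))) (.node [(.ofNat 0),(.ofNat 0),(.negSucc 0),(.ofNat 0),(.ofNat 1),(.ofNat 1),(.negSucc 0),(.negSucc 0)] (.node [] .nil (.node [(.ofNat 0),(.ofNat 1),(.ofNat 0),(.negSucc 0),(.negSucc 0),(.ofNat 2),(.ofNat 0),(.ofNat 0)] .nil .nil)) (.node [(.ofNat 0),(.ofNat 0),(.ofNat 0),(.negSucc 0),(.ofNat 0),(.ofNat 2),(.ofNat 0),(.negSucc 0)] .nil (.node [(.negSucc 0),(.negSucc 0),(.ofNat 1),(.ofNat 0),(.ofNat 1),(.negSucc 0),(.negSucc 0),(.ofNat 1)] .nil .nil))))) (.node [(.ofNat 2),(.ofNat 0),(.negSucc 0),(.ofNat 0),(.ofNat 0),(.ofNat 0),(.ofNat 1),(.negSucc 0)] (.node [] (.node [] (.node [] .nil (.node [(.ofNat 0),(.ofNat 0),(.ofNat 0),(.negSucc 0),(.ofNat 2),(.ofNat 0),(.negSucc 0),(.negSucc 0)] .nil .nil)) (.node [(.ofNat 0),(.ofNat 0),(.ofNat 1),(.ofNat 0),(.ofNat 0),(.negSucc 1),(.ofNat 1),(.ofNat 1)] .nil (.node [(.negSucc 1),(.ofNat 1),(.ofNat 1),(.negSucc 0),(.ofNat 1),(.negSucc 0),(.ofNat 1),(.negSucc 0)] .nil .nil))) (.node [(.ofNat 1),(.ofNat 1),(.ofNat 1),(.negSucc 0),(.negSucc 0),(.ofNat 0),(.ofNat 1),(.ofNat 0)] (.node [] .nil (.node [(.ofNat 0),(.ofNat 0),(.negSucc 0),(.ofNat 0),(.ofNat 0),(.ofNat 0),(.ofNat 1),(.ofNat 1)] .nil .nil)) (.node [(.negSucc 0),(.negSucc 0),(.ofNat 1),(.ofNat 0),(.ofNat 1),(.negSucc 1),(.ofNat 2),(.negSucc 0)] .nil (.node [(.ofNat 1),(.ofNat 0),(.negSucc 0),(.ofNat 1),(.ofNat 0),(.negSucc 0),(.ofNat 0),(.negSucc 0)] .nil .nil)))) (.node [(.ofNat 0),(.ofNat 1),(.ofNat 1),(.negSucc 0),(.ofNat 0),(.ofNat 1),(.negSucc 0),(.negSucc 0)] (.node [] (.node [] .nil (.node [(.ofNat 1),(.ofNat 1),(.negSucc 0),(.ofNat 0),(.negSucc 0),(.ofNat 1),(.ofNat 1),(.negSucc 1)] .nil .nil)) (.node [(.negSucc 0),(.negSucc 0),(.negSucc 0),(.ofNat 2),(.ofNat 0),(.ofNat 0),(.negSucc 0),(.ofNat 0)] .nil (.node [(.ofNat 1),(.ofNat 1),(.ofNat 0),(.negSucc 0),(.negSucc 0),(.ofNat 1),(.ofNat 0),(.ofNat 1)] .nil .nil))) (.node [(.ofNat 2),(.negSucc 0),(.negSucc 0),(.ofNat 1),(.negSucc 0),(.ofNat 1),(.negSucc 0),(.ofNat 1)] (.node [] .nil (.node [(.ofNat 1),(.negSucc 0),(.ofNat 1),(.negSucc 0),(.ofNat 0),(.ofNat 1),(.ofNat 0),(.negSucc 0)] .nil .nil)) (.node [(.ofNat 0),(.ofNat 0),(.ofNat 0),(.negSucc 0),(.ofNat 2),(.negSucc 1),(.ofNat 2),(.negSucc 0)] .nil (.node [(.ofNat 0),(.ofNat 0),(.ofNat 0),(.ofNat 0),(.ofNat 0),(.negSucc 0),(.ofNat 0),(.ofNat 2)] .nil .nil)))))))) (.node [(.ofNat 0),(.ofNat 1),(.ofNat 0),(.ofNat 0),(.ofNat 0),(.ofNat 0),(.ofNat 0),(.negSucc 0)] (.node [] (.node [] (.node [] (.node [] (.node [] (.node [] (.node [] .nil (.node [(.negSucc 1),(.ofNat 0),(.ofNat 1),(.ofNat 0),(.ofNat 0),(.ofNat 0),(.ofNat 0),(.negSucc 0)] .nil .nil)) (.node [(.ofNat 1),(.ofNat 1),(.ofNat 0),(.ofNat 0),(.ofNat 0),(.negSucc 0),(.ofNat 0),(.negSucc 0)] .nil .nil)) (.node [(.ofNat 0),(.negSucc 0),(.ofNat 0),(.ofNat 1),(.ofNat 0),(.ofNat 0),(.negSucc 1),(.ofNat 2)] .nil (.node [(.negSucc 0),(.ofNat 1),(.negSucc 0),(.ofNat 0),(.ofNat 0),(.ofNat 0),(.ofNat 1),(.ofNat 0)] .nil .nil))) (.node [(.ofNat 1),(.ofNat 0),(.ofNat 0),(.negSucc 0),(.ofNat 0),(.ofNat 2),(.negSucc 0),(.ofNat 0)] (.node [] .nil (.node [(.negSucc 0),(.ofNat 0),(.negSucc 0),(.ofNat 2),(.negSucc 0),(.ofNat 0),(.negSucc 0),(.ofNat 1)] .nil .nil)) (.node [(.negSucc 0),(.ofNat 1),(.ofNat 1),(.negSucc 0),(.ofNat 0),(.ofNat 1),(.negSucc 1),(.ofNat 2)] .nil (.node [(.negSucc 0),(.negSucc 0),(.negSucc 0),(.ofNat 2),(.negSucc 0),(.ofNat 1),(.negSucc 0),(.ofNat 0)] .nil .nil)))) (.node [(.ofNat 0),(.ofNat 1),(.ofNat 1),(.negSucc 0),(.negSucc 0),(.ofNat 1),(.ofNat 0),(.ofNat 1)] (.node [] (.node [] .nil (.node [(.ofNat 2),(.ofNat 0),(.negSucc 0),(.ofNat 0),(.ofNat 0),(.ofNat 1),(.negSucc 0),(.negSucc 0)] .nil .nil)) (.node [(.ofNat 2),(.ofNat 0),(.ofNat 0),(.negSucc 0),(.ofNat 1),(.negSucc 0),(.ofNat 1),(.negSucc 0)] .nil (.node [(.negSucc 0),(.negSucc 0),(.negSucc 0),(.ofNat 1),(.ofNat 0),(.ofNat 1),(.ofNat 0),(.negSucc 0)] .nil .nil))) (.node [(.ofNat 0),(.ofNat 0),(.negSucc 0),(.ofNat 1),(.negSucc 0),(.ofNat 0),(.ofNat 2),(.negSucc 0)] (.node [] .nil (.node [(.negSucc 0),(.ofNat 1),(.ofNat 0),(.ofNat 1),(.negSucc 1),(.ofNat 1),(.ofNat 0),(.negSucc 0)] .nil .nil)) (.node [(.ofNat 1),(.negSucc 0),(.ofNat 0),(.ofNat 1),(.negSucc 1),(.ofNat 2),(.negSucc 0),(.ofNat 0)] .nil (.node [(.negSucc 0),(.negSucc 0),(.ofNat 1),(.ofNat 0),(.ofNat 0),(.ofNat 0),(.negSucc 0),(.ofNat 2)] .nil .nil))))) (.node [(.ofNat 1),(.ofNat 1),(.ofNat 0),(.ofNat 0),(.negSucc 0),(.ofNat 1),(.negSucc 0),(.ofNat 0)] (.node [] (.node [] (.node [] (.node [] .nil (.node [(.negSucc 0),(.ofNat 0),(.ofNat 1),(.negSucc 0),(.ofNat 0),(.ofNat 1),(.ofNat 0),(.negSucc 0)] .nil .nil)) (.node [(.ofNat 1),(.negSucc 0),(.ofNat 0),(.ofNat 1),(.ofNat 0),(.negSucc 0),(.ofNat 0),(.negSucc 0)] .nil .nil)) (.node [(.ofNat 0),(.ofNat 1),(.ofNat 0),(.negSucc 0),(.ofNat 1),(.ofNat 1),(.negSucc 1),(.ofNat 0)] .nil (.node [(.ofNat 0),(.ofNat 0),(.negSucc 0),(.ofNat 0),(.ofNat 1),(.ofNat 1),(.negSucc 1),(.ofNat 0)] .nil .nil))) (.node [(.negSucc 0),(.ofNat 1),(.ofNat 2),(.negSucc 1),(.ofNat 0),(.ofNat 1),(.ofNat 0),(.ofNat 0)] (.node [] .nil (.node [(.ofNat 0),(.ofNat 2),(.negSucc 0),(.negSucc 0),(.ofNat 1),(.negSucc 0),(.ofNat 1),(.ofNat 0)] .nil .nil)) (.node [(.ofNat 1),(.ofNat 2),(.negSucc 0),(.ofNat 0),(.ofNat 0),(.negSucc 0),(.ofNat 0),(.ofNat 0)] .nil (.node [(.negSucc 0),(.ofNat 2),(.ofNat 0),(.negSucc 0),(.ofNat 1),(.negSucc 0),(.ofNat 0),(.ofNat 0)] .nil .nil)))) (.node [(.ofNat 1),(.ofNat 1),(.negSucc 0),(.ofNat 0),(.negSucc 0),(.ofNat 2),(.negSucc 0),(.ofNat 0)] (.node [] (.node [] .nil (.node [(.ofNat 0),(.ofNat 1),(.negSucc 1),(.ofNat 0),(.ofNat 1),(.ofNat 0),(.ofNat 0),(.ofNat 0)] .nil .nil)) (.node [(.ofNat 0),(.ofNat 1),(.negSucc 0),(.negSucc 0),(.ofNat 1),(.ofNat 1),(.negSucc 0),(.ofNat 1)] .nil (.node [(.negSucc 1),(.ofNat 0),(.ofNat 2),(.negSucc 0),(.ofNat 0),(.ofNat 0),(.ofNat 0),(.ofNat 1)] .nil .nil))) (.node [(.negSucc 0),(.ofNat 1),(.ofNat 2),(.negSucc 0),(.negSucc 0),(.ofNat 1),(.negSucc 0),(.ofNat 1)] (.node [] .nil (.node [(.ofNat 1),(.ofNat 1),(.ofNat 1),(.negSucc 1),(.ofNat 0),(.ofNat 1),(.ofNat 0),(.negSucc 0)] .nil .nil)) (.node [(.ofNat 1),(.ofNat 1),(.ofNat 0),(.ofNat 0),(.ofNat 0),(.negSucc 0),(.negSucc 0),(.ofNat 1)] .nil (.node [(.ofNat 1),(.negSucc 0),(.ofNat 0),(.ofNat 1),(.negSucc 0),(.ofNat 0),(.ofNat 0),(.negSucc 0)] .nil .nil)))))) (.node [(.ofNat 1),(.ofNat 1),(.ofNat 0),(.negSucc 0),(.ofNat 0),(.ofNat 1),(.ofNat 0),(.negSucc 0)] (.node [] (.node [] (.node [] (.node [] (.node [] .nil (.node [(.ofNat 0),(.ofNat 0),(.ofNat 0),(.ofNat 1),(.negSucc 0),(.ofNat 0),(.negSucc 0),(.ofNat 0)] .nil .nil)) (.node [(.negSucc 0),(.negSucc 0),(.ofNat 1),(.ofNat 1),(.negSucc 0),(.ofNat 1),(.negSucc 0),(.negSucc 0)] .nil .nil)) (.node [(.negSucc 0),(.ofNat 0),(.ofNat 0),(.negSucc 0),(.ofNat 2),(.negSucc 0),(.ofNat 1),(.ofNat 0)] .nil (.node [(.negSucc 0),(.negSucc 0),(.ofNat 2),(.negSucc 0),(.ofNat 1),(.negSucc 0),(.ofNat 0),(.ofNat 1)] .nil .nil))) (.node [(.ofNat 1),(.negSucc 1),(.ofNat 0),(.ofNat 1),(.negSucc 0),(.ofNat 1),(.ofNat 0),(.ofNat 0)] (.node [] .nil (.node [(.ofNat 1),(.ofNat 0),(.ofNat 0),(.negSucc 0),(.ofNat 0),(.ofNat 0),(.ofNat 2),(.negSucc 0)] .nil .nil)) (.node [(.negSucc 0),(.ofNat 2),(.ofNat 0),(.ofNat 0),(.negSucc 0),(.ofNat 1),(.negSucc 0),(.ofNat 0)] .nil (.node [(.ofNat 0),(.negSucc 1),(.ofNat 1),(.ofNat 0),(.ofNat 1),(.negSucc 0),(.ofNat 0),(.ofNat 0)] .nil .nil)))) (.node [(.negSucc 0),(.ofNat 0),(.ofNat 2),(.ofNat 0),(.negSucc 0),(.ofNat 0),(.ofNat 0),(.ofNat 0)] (.node [] (.node [] .nil (.node [(.ofNat 1),(.negSucc 0),(.negSucc 0),(.ofNat 0),(.ofNat 1),(.negSucc 0),(.ofNat 2),(.negSucc 0)] .nil .nil)) (.node [(.ofNat 0),(.ofNat 0),(.ofNat 1),(.ofNat 0),(.ofNat 0),(.negSucc 0),(.negSucc 0),(.ofNat 2)] .nil (.node [(.ofNat 0),(.ofNat 2),(.ofNat 1),(.negSucc 1),(.ofNat 0),(.ofNat 0),(.ofNat 1),(.negSucc 0)] .nil .nil))) (.node [(.negSucc 0),(.ofNat 0),(.ofNat 1),(.negSucc 0),(.ofNat 2),(.negSucc 0),(.ofNat 0),(.negSucc 0)] (.node [] .nil (.node [(.ofNat 1),(.ofNat 0),(.ofNat 0),(.negSucc 0),(.ofNat 1),(.negSucc 0),(.ofNat 2),(.negSucc 1)] .nil .nil)) (.node [(.negSucc 0),(.negSucc 0),(.ofNat 1),(.ofNat 1),(.negSucc 0),(.negSucc 0),(.ofNat 2),(.negSucc 0)] .nil (.node [(.negSucc 0),(.ofNat 0),(.ofNat 2),(.negSucc 1),(.ofNat 1),(.ofNat 0),(.ofNat 0),(.ofNat 0)] .nil .nil))))) (.node [(.negSucc 0),(.negSucc 0),(.ofNat 1),(.ofNat 1),(.negSucc 0),(.ofNat 1),(.negSucc 0),(.ofNat 0)] (.node [] (.node [] (.node [] (.node [] .nil (.node [(.ofNat 0),(.negSucc 0),(.ofNat 0),(.ofNat 0),(.ofNat 1),(.negSucc 0),(.ofNat 0),(.ofNat 0)] .nil .nil)) (.node [(.negSucc 0),(.ofNat 1),(.ofNat 0),(.negSucc 0),(.ofNat 0),(.ofNat 1),(.ofNat 1),(.negSucc 0)] .nil .nil)) (.node [(.ofNat 1),(.negSucc 1),(.negSucc 0),(.ofNat 1),(.ofNat 0),(.ofNat 1),(.negSucc 0),(.ofNat 1)] .nil (.node [(.ofNat 0),(.negSucc 0),(.ofNat 0),(.ofNat 0),(.ofNat 1),(.ofNat 0),(.ofNat 0),(.negSucc 1)] .nil .nil))) (.node [(.negSucc 1),(.ofNat 0),(.ofNat 0),(.ofNat 1),(.ofNat 0),(.negSucc 0),(.ofNat 1),(.ofNat 0)] (.node [] .nil (.node [(.negSucc 0),(.ofNat 1),(.ofNat 0),(.ofNat 0),(.ofNat 0),(.negSucc 0),(.ofNat 2),(.negSucc 1)] .nil .nil)) (.node [(.negSucc 1),(.ofNat 0),(.ofNat 2),(.ofNat 0),(.ofNat 0),(.negSucc 0),(.ofNat 0),(.ofNat 0)] .nil (.node [(.ofNat 0),(.ofNat 1),(.negSucc 0),(.ofNat 0),(.ofNat 0),(.negSucc 0),(.ofNat 1),(.ofNat 1)] .nil .nil)))) (.node [(.negSucc 0),(.ofNat 1),(.ofNat 0),(.ofNat 0),(.negSucc 0),(.ofNat 2),(.negSucc 0),(.ofNat 0)] (.node [] (.node [] .nil (.node [(.negSucc 0),(.negSucc 0),(.ofNat 0),(.ofNat 0),(.ofNat 1),(.negSucc 0),(.ofNat 2),(.negSucc 0)] .nil .nil)) (.node [(.ofNat 0),(.negSucc 0),(.ofNat 0),(.ofNat 2),(.negSucc 1),(.ofNat 1),(.negSucc 0),(.ofNat 0)] .nil (.node [(.ofNat 0),(.negSucc 0),(.ofNat 0),(.ofNat 1),(.ofNat 0),(.ofNat 0),(.negSucc 0),(.negSucc 0)] .nil .nil))) (.node [(.ofNat 0),(.negSucc 0),(.ofNat 0),(.ofNat 0),(.ofNat 0),(.ofNat 1),(.negSucc 0),(.ofNat 2)] (.node [] .nil (.node [(.ofNat 0),(.ofNat 0),(.negSucc 0),(.ofNat 1),(.ofNat 0),(.ofNat 0),(.negSucc 1),(.ofNat 2)] .nil .nil)) (.node [(.ofNat 0),(.negSucc 0),(.negSucc 0),(.ofNat 2),(.negSucc 0),(.negSucc 0),(.ofNat 2),(.negSucc 0)] .nil (.node [(.ofNat 0),(.ofNat 0),(.ofNat 0),(.ofNat 1),(.negSucc 1),(.ofNat 0),(.ofNat 1),(.ofNat 0)] .nil .nil))))))) (.node [(.ofNat 0),(.ofNat 0),(.ofNat 1),(.ofNat 0),(.ofNat 0),(.negSucc 0),(.ofNat 0),(.ofNat 1)] (.node [] (.node [] (.node [] (.node [] (.node [] (.node [] .nil (.node [(.negSucc 0),(.ofNat 0),(.negSucc 0),(.ofNat 1),(.ofNat 0),(.ofNat 0),(.ofNat 0),(.negSucc 0)] .nil .nil)) (.node [(.negSucc 0),(.ofNat 0),(.ofNat 2),(.negSucc 0),(.ofNat 1),(.negSucc 1),(.ofNat 1),(.ofNat 0)] .nil .nil)) (.node [(.ofNat 0),(.ofNat 1),(.ofNat 0),(.ofNat 0),(.negSucc 0),(.ofNat 0),(.ofNat 0),(.ofNat 2)] .nil (.node [(.ofNat 0),(.ofNat 0),(.negSucc 0),(.ofNat 1),(.negSucc 0),(.ofNat 0),(.ofNat 0),(.ofNat 2)] .nil .nil))) (.node [(.negSucc 0),(.ofNat 0),(.ofNat 1),(.negSucc 0),(.ofNat 1),(.negSucc 0),(.ofNat 1),(.ofNat 1)] (.node [] .nil (.node [(.ofNat 0),(.negSucc 0),(.ofNat 1),(.negSucc 0),(.ofNat 2),(.negSucc 0),(.ofNat 0),(.negSucc 0)] .nil .nil)) (.node [(.ofNat 1),(.ofNat 1),(.ofNat 0),(.negSucc 0),(.ofNat 1),(.negSucc 0),(.negSucc 0),(.ofNat 2)] .nil (.node [(.ofNat 1),(.ofNat 0),(.negSucc 0),(.ofNat 1),(.negSucc 0),(.ofNat 0),(.negSucc 0),(.ofNat 2)] .nil .nil)))) (.node [(.ofNat 0),(.negSucc 0),(.ofNat 1),(.negSucc 0),(.ofNat 1),(.ofNat 0),(.ofNat 1),(.negSucc 0)] (.node [] (.node [] .nil (.node [(.negSucc 0),(.ofNat 1),(.ofNat 0),(.negSucc 0),(.ofNat 0),(.ofNat 2),(.negSucc 0),(.ofNat 0)] .nil .nil)) (.node [(.ofNat 1),(.ofNat 2),(.negSucc 0),(.negSucc 0),(.ofNat 1),(.negSucc 0),(.ofNat 1),(.negSucc 0)] .nil (.node [(.ofNat 0),(.ofNat 0),(.ofNat 1),(.negSucc 0),(.ofNat 0),(.ofNat 1),(.negSucc 1),(.ofNat 2)] .nil .nil))) (.node [(.ofNat 1),(.ofNat 1),(.ofNat 1),(.negSucc 1),(.ofNat 1),(.ofNat 0),(.ofNat 0),(.negSucc 0)] (.node [] .nil (.node [(.ofNat 2),(.ofNat 0),(.negSucc 1),(.ofNat 0),(.ofNat 1),(.ofNat 0),(.ofNat 0),(.negSucc 0)] .nil .nil)) (.node [(.negSucc 1),(.negSucc 0),(.ofNat 0),(.ofNat 1),(.ofNat 0),(.ofNat 0),(.ofNat 1),(.negSucc 0)] .nil (.node [(.ofNat 0),(.negSucc 0),(.negSucc 0),(.ofNat 1),(.negSucc 0),(.ofNat 2),(.negSucc 0),(.ofNat 0)] .nil .nil))))) (.node [(.ofNat 1),(.ofNat 1),(.ofNat 0),(.ofNat 0),(.ofNat 0),(.negSucc 0),(.ofNat 0),(.ofNat 0)] (.node [] (.node [] (.node [] (.node [] .nil (.node [(.ofNat 0),(.ofNat 0),(.negSucc 0),(.ofNat 1),(.negSucc 0),(.ofNat 0),(.ofNat 0),(.ofNat 1)] .nil .nil)) (.node [(.ofNat 1),(.ofNat 0),(.negSucc 1),(.ofNat 1),(.ofNat 1),(.negSucc 1),(.ofNat 1),(.ofNat 0)] .nil .nil)) (.node [(.negSucc 0),(.ofNat 0),(.ofNat 0),(.negSucc 0),(.ofNat 2),(.ofNat 0),(.negSucc 0),(.ofNat 1)] .nil (.node [(.ofNat 1),(.negSucc 0),(.ofNat 1),(.ofNat 0),(.negSucc 0),(.ofNat 0),(.ofNat 1),(.negSucc 0)] .nil .nil))) (.node [(.negSucc 0),(.ofNat 1),(.ofNat 0),(.ofNat 0),(.ofNat 1),(.negSucc 0),(.ofNat 0),(.negSucc 0)] (.node [] .nil (.node [(.ofNat 0),(.ofNat 0),(.ofNat 2),(.negSucc 0),(.negSucc 0),(.ofNat 1),(.negSucc 0),(.ofNat 1)] .nil .nil)) (.node [(.ofNat 1),(.negSucc 0),(.ofNat 0),(.ofNat 0),(.ofNat 0),(.ofNat 1),(.ofNat 0),(.negSucc 1)] .nil (.node [(.negSucc 0),(.negSucc 0),(.ofNat 1),(.negSucc 0),(.ofNat 1),(.ofNat 1),(.negSucc 0),(.ofNat 0)] .nil .nil)))) (.node [(.ofNat 0),(.ofNat 1),(.ofNat 1),(.negSucc 0),(.ofNat 0),(.ofNat 0),(.ofNat 1),(.negSucc 1)] (.node [] (.node [] .nil (.node [(.negSucc 0),(.negSucc 0),(.ofNat 0),(.ofNat 0),(.ofNat 0),(.ofNat 2),(.negSucc 0),(.ofNat 0)] .nil .nil)) (.node [(.ofNat 1),(.negSucc 1),(.negSucc 0),(.ofNat 2),(.negSucc 0),(.ofNat 0),(.ofNat 0),(.ofNat 1)] .nil (.node [(.ofNat 0),(.ofNat 1),(.ofNat 0),(.negSucc 0),(.ofNat 2),(.negSucc 1),(.ofNat 0),(.ofNat 0)] .nil .nil))) (.node [(.ofNat 0),(.ofNat 0),(.negSucc 0),(.ofNat 0),(.ofNat 2),(.negSucc 0),(.ofNat 0),(.negSucc 0)] (.node [] .nil (.node [(.ofNat 1),(.negSucc 0),(.negSucc 0),(.ofNat 1),(.ofNat 1),(.negSucc 0),(.negSucc 0),(.ofNat 0)] .nil .nil)) (.node [(.negSucc 0),(.ofNat 0),(.ofNat 0),(.ofNat 2),(.negSucc 1),(.ofNat 0),(.ofNat 0),(.ofNat 0)] .nil (.node [(.ofNat 0),(.ofNat 0),(.ofNat 0),(.ofNat 0),(.negSucc 0),(.ofNat 0),(.ofNat 2),(.negSucc 0)] .nil .nil)))))) (.node [(.negSucc 0),(.negSucc 0),(.ofNat 1),(.ofNat 0),(.ofNat 0),(.ofNat 1),(.negSucc 0),(.ofNat 1)] (.node [] (.node [] (.node [] (.node [] (.node [] .nil (.node [(.ofNat 1),(.ofNat 0),(.ofNat 0),(.negSucc 0),(.ofNat 0),(.ofNat 1),(.negSucc 0),(.ofNat 1)] .nil .nil)) (.node [(.ofNat 0),(.negSucc 0),(.negSucc 0),(.ofNat 2),(.negSucc 0),(.ofNat 0),(.ofNat 1),(.negSucc 1)] .nil .nil)) (.node [(.ofNat 1),(.ofNat 0),(.negSucc 0),(.ofNat 0),(.ofNat 1),(.negSucc 1),(.ofNat 2),(.ofNat 0)] .nil (.node [(.ofNat 1),(.ofNat 1),(.ofNat 1),(.negSucc 0),(.negSucc 0),(.ofNat 0),(.ofNat 1),(.negSucc 0)] .nil .nil))) (.node [(.ofNat 0),(.ofNat 0),(.negSucc 0),(.ofNat 0),(.ofNat 0),(.ofNat 1),(.ofNat 1),(.negSucc 0)] (.node [] .nil (.node [(.negSucc 1),(.ofNat 0),(.ofNat 1),(.ofNat 1),(.negSucc 0),(.ofNat 0),(.ofNat 0),(.negSucc 0)] .nil .nil)) (.node [(.negSucc 0),(.ofNat 0),(.ofNat 2),(.negSucc 1),(.ofNat 1),(.ofNat 0),(.ofNat 0),(.ofNat 1)] .nil (.node [(.ofNat 0),(.ofNat 1),(.negSucc 0),(.negSucc 0),(.ofNat 1),(.ofNat 0),(.ofNat 1),(.negSucc 0)] .nil .nil)))) (.node [(.ofNat 0),(.negSucc 0),(.ofNat 1),(.ofNat 0),(.ofNat 0),(.negSucc 0),(.ofNat 1),(.ofNat 1)] (.node [] (.node [] .nil (.node [(.ofNat 1),(.negSucc 0),(.negSucc 0),(.ofNat 1),(.negSucc 0),(.ofNat 0),(.ofNat 1),(.ofNat 1)] .nil .nil)) (.node [(.negSucc 0),(.ofNat 2),(.ofNat 0),(.negSucc 0),(.ofNat 1),(.negSucc 0),(.ofNat 1),(.negSucc 0)] .nil (.node [(.negSucc 0),(.ofNat 0),(.ofNat 0),(.negSucc 0),(.ofNat 1),(.ofNat 1),(.ofNat 0),(.negSucc 0)] .nil .nil))) (.node [(.ofNat 0),(.ofNat 0),(.negSucc 0),(.ofNat 1),(.ofNat 0),(.negSucc 0),(.ofNat 0),(.ofNat 2)] (.node [] .nil (.node [(.ofNat 1),(.negSucc 1),(.ofNat 0),(.ofNat 1),(.negSucc 0),(.ofNat 1),(.ofNat 0),(.negSucc 0)] .nil .nil)) (.node [(.ofNat 0),(.ofNat 1),(.ofNat 1),(.negSucc 1),(.ofNat 0),(.ofNat 1),(.ofNat 0),(.ofNat 1)] .nil (.node [(.ofNat 0),(.negSucc 0),(.negSucc 0),(.ofNat 2),(.negSucc 1),(.ofNat 1),(.ofNat 0),(.ofNat 0)] .nil .nil))))) (.node [(.ofNat 0),(.ofNat 0),(.ofNat 0),(.ofNat 0),(.ofNat 0),(.ofNat 1),(.negSucc 1),(.ofNat 2)] (.node [] (.node [] (.node [] .nil (.node [(.negSucc 0),(.negSucc 0),(.ofNat 0),(.ofNat 0),(.ofNat 0),(.ofNat 1),(.ofNat 0),(.ofNat 1)] .nil .nil)) (.node [(.ofNat 0),(.ofNat 1),(.ofNat 0),(.negSucc 0),(.ofNat 2),(.negSucc 0),(.negSucc 0),(.ofNat 0)] .nil (.node [(.ofNat 1),(.ofNat 0),(.ofNat 0),(.ofNat 1),(.negSucc 0),(.negSucc 0),(.ofNat 0),(.ofNat 0)] .nil .nil))) (.node [(.ofNat 0),(.ofNat 2),(.negSucc 0),(.ofNat 0),(.ofNat 0),(.negSucc 0),(.ofNat 1),(.ofNat 0)] (.node [] .nil (.node [(.ofNat 0),(.ofNat 0),(.negSucc 0),(.ofNat 1),(.negSucc 1),(.ofNat 2),(.ofNat 0),(.ofNat 0)] .nil .nil)) (.node [(.ofNat 0),(.negSucc 0),(.negSucc 0),(.ofNat 2),(.negSucc 1),(.ofNat 1),(.ofNat 0),(.ofNat 1)] .nil (.node [(.negSucc 0),(.ofNat 1),(.ofNat 1),(.ofNat 0),(.negSucc 1),(.ofNat 1),(.ofNat 0),(.ofNat 0)] .nil .nil)))) (.node [(.ofNat 1),(.ofNat 1),(.negSucc 0),(.ofNat 0),(.ofNat 0),(.ofNat 0),(.ofNat 1),(.negSucc 1)] (.node [] (.node [] .nil (.node [(.ofNat 0),(.ofNat 1),(.ofNat 1),(.negSucc 0),(.ofNat 0),(.negSucc 0),(.ofNat 2),(.negSucc 1)] .nil .nil)) (.node [(.negSucc 0),(.ofNat 1),(.ofNat 1),(.negSucc 0),(.negSucc 0),(.ofNat 2),(.ofNat 0),(.negSucc 0)] .nil (.node [(.negSucc 0),(.ofNat 0),(.ofNat 0),(.ofNat 0),(.ofNat 0),(.ofNat 1),(.negSucc 1),(.ofNat 2)] .nil .nil))) (.node [(.negSucc 0),(.negSucc 0),(.ofNat 2),(.negSucc 0),(.ofNat 1),(.ofNat 0),(.ofNat 0),(.negSucc 0)] (.node [] .nil (.node [(.ofNat 0),(.ofNat 0),(.ofNat 1),(.negSucc 1),(.ofNat 1),(.ofNat 0),(.ofNat 1),(.ofNat 0)] .nil .nil)) (.node [(.ofNat 0),(.ofNat 1),(.ofNat 1),(.negSucc 1),(.ofNat 1),(.negSucc 0),(.ofNat 1),(.ofNat 1)] .nil (.node [(.ofNat 1),(.ofNat 0),(.negSucc 1),(.ofNat 1),(.ofNat 0),(.ofNat 0),(.negSucc 0),(.ofNat 1)] .nil .nil))))))))) (.node [(.ofNat 0),(.negSucc 0),(.ofNat 0),(.ofNat 1),(.negSucc 0),(.ofNat 1),(.ofNat 0),(.ofNat 0)] (.node [] (.node [] (.node [] (.node [] (.node [] (.node [] (.node [] (.node [] .nil (.node [(.ofNat 0),(.negSucc 1),(.ofNat 0),(.ofNat 1),(.ofNat 0),(.ofNat 0),(.ofNat 0),(.negSucc 0)] .nil .nil)) (.node [(.ofNat 1),(.ofNat 0),(.ofNat 1),(.negSucc 0),(.ofNat 1),(.negSucc 1),(.ofNat 1),(.ofNat 0)] .nil .nil)) (.node [(.ofNat 0),(.negSucc 1),(.negSucc 0),(.ofNat 2),(.ofNat 0),(.ofNat 0),(.ofNat 0),(.negSucc 0)] .nil (.node [(.ofNat 1),(.ofNat 1),(.negSucc 1),(.ofNat 0),(.ofNat 0),(.ofNat 1),(.negSucc 0),(.ofNat 1)] .nil .nil))) (.node [(.ofNat 1),(.negSucc 1),(.ofNat 0),(.ofNat 0),(.ofNat 1),(.ofNat 0),(.ofNat 0),(.ofNat 0)] (.node [] .nil (.node [(.ofNat 0),(.negSucc 0),(.negSucc 1),(.ofNat 1),(.ofNat 1),(.ofNat 0),(.ofNat 0),(.ofNat 0)] .nil .nil)) (.node [(.ofNat 0),(.ofNat 1),(.negSucc 0),(.ofNat 0),(.negSucc 0),(.ofNat 2),(.negSucc 0),(.ofNat 1)] .nil (.node [(.ofNat 0),(.ofNat 0),(.ofNat 1),(.ofNat 0),(.ofNat 0),(.negSucc 1),(.ofNat 1),(.ofNat 0)] .nil .nil)))) (.node [(.ofNat 0),(.ofNat 0),(.ofNat 0),(.ofNat 1),(.negSucc 1),(.ofNat 1),(.ofNat 1),(.negSucc 0)] (.node [] (.node [] .nil (.node [(.ofNat 2),(.ofNat 1),(.ofNat 0),(.negSucc 0),(.negSucc 0),(.ofNat 1),(.ofNat 0),(.ofNat 0)] .nil .nil)) (.node [(.negSucc 0),(.negSucc 0),(.negSucc 0),(.ofNat 2),(.negSucc 0),(.ofNat 1),(.ofNat 0),(.negSucc 0)] .nil (.node [(.negSucc 0),(.negSucc 0),(.ofNat 2),(.ofNat 0),(.negSucc 0),(.ofNat 0),(.ofNat 1),(.negSucc 0)] .nil .nil))) (.node [(.ofNat 1),(.ofNat 0),(.ofNat 0),(.ofNat 0),(.negSucc 0),(.ofNat 2),(.negSucc 0),(.negSucc 0)] (.node [] .nil (.node [(.negSucc 0),(.negSucc 1),(.ofNat 1),(.ofNat 1),(.negSucc 0),(.ofNat 0),(.ofNat 1),(.ofNat 0)] .nil .nil)) (.node [(.ofNat 0),(.ofNat 0),(.ofNat 0),(.negSucc 0),(.ofNat 1),(.negSucc 0),(.ofNat 2),(.ofNat 0)] .nil (.node [(.ofNat 0),(.ofNat 0),(.negSucc 1),(.ofNat 2),(.negSucc 0),(.ofNat 0),(.ofNat 0),(.ofNat 0)] .nil .nil))))) (.node [(.ofNat 1),(.negSucc 0),(.ofNat 0),(.ofNat 1),(.negSucc 0),(.ofNat 0),(.ofNat 0),(.ofNat 1)] (.node [] (.node [] (.node [] (.node [] .nil (.node [(.ofNat 0),(.ofNat 0),(.negSucc 0),(.ofNat 0),(.ofNat 0),(.ofNat 0),(.ofNat 1),(.ofNat 0)] .nil .nil)) (.node [(.negSucc 1),(.ofNat 0),(.ofNat 1),(.negSucc 0),(.ofNat 2),(.negSucc 0),(.ofNat 0),(.ofNat 0)] .nil .nil)) (.node [(.ofNat 0),(.ofNat 1),(.ofNat 0),(.negSucc 0),(.ofNat 2),(.negSucc 1),(.ofNat 1),(.negSucc 0)] .nil (.node [(.ofNat 0),(.ofNat 0),(.negSucc 0),(.ofNat 0),(.ofNat 2),(.negSucc 1),(.ofNat 1),(.negSucc 0)] .nil .nil))) (.node [(.ofNat 0),(.negSucc 0),(.ofNat 1),(.ofNat 1),(.negSucc 0),(.ofNat 0),(.ofNat 0),(.negSucc 0)] (.node [] .nil (.node [(.negSucc 0),(.ofNat 2),(.ofNat 1),(.negSucc 1),(.ofNat 1),(.ofNat 0),(.negSucc 0),(.ofNat 1)] .nil .nil)) (.node [(.ofNat 0),(.negSucc 0),(.negSucc 0),(.ofNat 1),(.ofNat 0),(.negSucc 0),(.ofNat 2),(.ofNat 0)] .nil (.node [(.ofNat 0),(.ofNat 1),(.negSucc 0),(.ofNat 0),(.negSucc 0),(.ofNat 1),(.ofNat 0),(.ofNat 1)] .nil .nil)))) (.node [(.negSucc 0),(.ofNat 0),(.negSucc 0),(.ofNat 1),(.ofNat 1),(.negSucc 0),(.ofNat 0),(.ofNat 0)] (.node [] (.node [] .nil (.node [(.ofNat 2),(.negSucc 0),(.ofNat 0),(.ofNat 0),(.negSucc 0),(.ofNat 1),(.ofNat 0),(.ofNat 0)] .nil .nil)) (.node [(.negSucc 1),(.ofNat 0),(.ofNat 2),(.ofNat 0),(.negSucc 0),(.ofNat 0),(.ofNat 0),(.ofNat 1)] .nil (.node [(.ofNat 0),(.ofNat 0),(.ofNat 1),(.negSucc 0),(.ofNat 1),(.negSucc 0),(.negSucc 0),(.ofNat 2)] .nil .nil))) (.node [(.negSucc 0),(.negSucc 0),(.negSucc 0),(.ofNat 1),(.ofNat 0),(.ofNat 1),(.ofNat 0),(.ofNat 0)] (.node [] .nil (.node [(.negSucc 0),(.ofNat 1),(.ofNat 0),(.ofNat 1),(.negSucc 0),(.negSucc 0),(.ofNat 1),(.negSucc 0)] .nil .nil)) (.node [(.ofNat 1),(.ofNat 0),(.ofNat 1),(.negSucc 1),(.ofNat 2),(.negSucc 0),(.ofNat 0),(.ofNat 0)] .nil (.node [(.negSucc 1),(.ofNat 0),(.ofNat 1),(.negSucc 0),(.ofNat 1),(.ofNat 0),(.ofNat 0),(.ofNat 0)] .nil .nil)))))) (.node [(.ofNat 1),(.negSucc 0),(.ofNat 0),(.ofNat 0),(.ofNat 0),(.ofNat 0),(.ofNat 1),(.ofNat 0)] (.node [] (.node [] (.node [] (.node [] (.node [] .nil (.node [(.ofNat 1),(.negSucc 0),(.negSucc 0),(.ofNat 0),(.ofNat 1),(.ofNat 0),(.ofNat 0),(.negSucc 0)] .nil .nil)) (.node [(.negSucc 0),(.ofNat 0),(.ofNat 2),(.negSucc 0),(.ofNat 0),(.ofNat 1),(.negSucc 1),(.ofNat 1)] .nil .nil)) (.node [(.ofNat 2),(.ofNat 0),(.ofNat 0),(.negSucc 0),(.ofNat 0),(.ofNat 1),(.negSucc 0),(.ofNat 1)] .nil (.node [(.ofNat 1),(.negSucc 1),(.ofNat 0),(.ofNat 1),(.ofNat 0),(.ofNat 0),(.negSucc 0),(.ofNat 0)] .nil .nil))) (.node [(.ofNat 1),(.ofNat 1),(.negSucc 0),(.ofNat 1),(.negSucc 0),(.ofNat 0),(.negSucc 0),(.ofNat 1)] (.node [] .nil (.node [(.negSucc 0),(.negSucc 0),(.ofNat 0),(.ofNat 0),(.ofNat 1),(.ofNat 1),(.negSucc 1),(.ofNat 1)] .nil .nil)) (.node [(.negSucc 1),(.ofNat 1),(.ofNat 0),(.ofNat 0),(.ofNat 0),(.ofNat 0),(.ofNat 0),(.ofNat 1)] .nil (.node [(.negSucc 0),(.ofNat 2),(.ofNat 0),(.negSucc 0),(.ofNat 0),(.ofNat 1),(.negSucc 0),(.ofNat 0)] .nil .nil)))) (.node [(.ofNat 0),(.ofNat 0),(.ofNat 0),(.ofNat 0),(.ofNat 1),(.negSucc 0),(.ofNat 1),(.negSucc 1)] (.node [] (.node [] .nil (.node [(.negSucc 0),(.ofNat 0),(.negSucc 0),(.ofNat 1),(.ofNat 0),(.ofNat 1),(.negSucc 1),(.ofNat 1)] .nil .nil)) (.node [(.ofNat 1),(.ofNat 1),(.ofNat 0),(.negSucc 0),(.ofNat 0),(.negSucc 0),(.ofNat 2),(.ofNat 0)] .nil (.node [(.negSucc 0),(.ofNat 1),(.negSucc 0),(.ofNat 1),(.negSucc 0),(.ofNat 0),(.ofNat 0),(.ofNat 1)] .nil .nil))) (.node [(.negSucc 0),(.negSucc 1),(.ofNat 1),(.ofNat 1),(.ofNat 0),(.ofNat 0),(.negSucc 0),(.ofNat 1)] (.node [] .nil (.node [(.negSucc 0),(.ofNat 1),(.ofNat 0),(.ofNat 0),(.ofNat 0),(.ofNat 1),(.negSucc 1),(.ofNat 0)] .nil .nil)) (.node [(.ofNat 0),(.ofNat 0),(.negSucc 1),(.ofNat 2),(.ofNat 0),(.negSucc 0),(.ofNat 0),(.ofNat 0)] .nil (.node [(.ofNat 0),(.ofNat 1),(.negSucc 0),(.ofNat 0),(.ofNat 0),(.ofNat 0),(.ofNat 1),(.negSucc 1)] .nil .nil))))) (.node [(.ofNat 0),(.ofNat 0),(.ofNat 0),(.ofNat 0),(.negSucc 0),(.ofNat 2),(.negSucc 0),(.ofNat 1)] (.node [] (.node [] (.node [] (.node [] .nil (.node [(.ofNat 0),(.negSucc 0),(.ofNat 0),(.ofNat 0),(.ofNat 0),(.ofNat 0),(.ofNat 1),(.negSucc 0)] .nil .nil)) (.node [(.negSucc 0),(.ofNat 0),(.ofNat 2),(.negSucc 0),(.ofNat 0),(.ofNat 1),(.negSucc 0),(.negSucc 0)] .nil .nil)) (.node [(.ofNat 1),(.ofNat 0),(.negSucc 0),(.negSucc 0),(.ofNat 2),(.ofNat 0),(.ofNat 0),(.negSucc 0)] .nil (.node [(.ofNat 0),(.ofNat 0),(.ofNat 1),(.negSucc 0),(.ofNat 0),(.negSucc 0),(.ofNat 2),(.ofNat 0)] .nil .nil))) (.node [(.ofNat 1),(.ofNat 0),(.ofNat 0),(.ofNat 0),(.ofNat 0),(.negSucc 0),(.ofNat 0),(.ofNat 2)] (.node [] .nil (.node [(.ofNat 1),(.ofNat 0),(.ofNat 0),(.negSucc 0),(.ofNat 0),(.ofNat 2),(.negSucc 1),(.ofNat 1)] .nil .nil)) (.node [(.negSucc 0),(.negSucc 1),(.ofNat 0),(.ofNat 2),(.negSucc 0),(.ofNat 1),(.negSucc 0),(.ofNat 0)] .nil (.node [(.negSucc 0),(.ofNat 0),(.ofNat 0),(.ofNat 1),(.negSucc 0),(.ofNat 0),(.ofNat 1),(.negSucc 1)] .nil .nil)))) (.node [(.ofNat 1),(.negSucc 0),(.negSucc 0),(.ofNat 1),(.negSucc 0),(.ofNat 2),(.negSucc 0),(.ofNat 0)] (.node [] (.node [] .nil (.node [(.negSucc 0),(.ofNat 1),(.ofNat 0),(.negSucc 0),(.ofNat 1),(.ofNat 1),(.negSucc 1),(.ofNat 1)] .nil .nil)) (.node [(.ofNat 0),(.negSucc 1),(.ofNat 1),(.ofNat 0),(.ofNat 1),(.ofNat 0),(.negSucc 0),(.ofNat 0)] .nil (.node [(.ofNat 1),(.ofNat 1),(.ofNat 0),(.negSucc 1),(.ofNat 1),(.ofNat 0),(.ofNat 1),(.negSucc 0)] .nil .nil))) (.node [(.negSucc 0),(.ofNat 0),(.ofNat 1),(.ofNat 0),(.ofNat 0),(.ofNat 1),(.negSucc 1),(.ofNat 0)] (.node [] .nil (.node [(.ofNat 0),(.negSucc 0),(.negSucc 1),(.ofNat 2),(.ofNat 0),(.ofNat 0),(.ofNat 0),(.negSucc 0)] .nil .nil)) (.node [(.negSucc 0),(.ofNat 0),(.ofNat 2),(.negSucc 0),(.ofNat 0),(.negSucc 0),(.ofNat 2),(.negSucc 0)] .nil (.node [(.ofNat 2),(.ofNat 0),(.negSucc 0),(.ofNat 0),(.ofNat 0),(.ofNat 0),(.negSucc 0),(.ofNat 1)] .nil .nil))))))) (.node [(.ofNat 1),(.ofNat 0),(.negSucc 0),(.ofNat 1),(.negSucc 0),(.ofNat 0),(.ofNat 1),(.ofNat 0)] (.node [] (.node [] (.node [] (.node [] (.node [] (.node [] .nil (.node [(.ofNat 0),(.ofNat 0),(.ofNat 0),(.ofNat 0),(.ofNat 0),(.ofNat 1),(.negSucc 1),(.ofNat 0)] .nil .nil)) (.node [(.negSucc 0),(.ofNat 2),(.ofNat 2),(.negSucc 1),(.ofNat 0),(.ofNat 0),(.ofNat 0),(.ofNat 0)] .nil .nil)) (.node [(.ofNat 0),(.negSucc 0),(.ofNat 0),(.ofNat 0),(.ofNat 0),(.ofNat 2),(.negSucc 1),(.ofNat 1)] .nil (.node [(.negSucc 0),(.ofNat 0),(.ofNat 1),(.negSucc 0),(.ofNat 1),(.ofNat 1),(.negSucc 1),(.ofNat 0)] .nil .nil))) (.node [(.negSucc 0),(.ofNat 1),(.ofNat 0),(.ofNat 0),(.ofNat 0),(.ofNat 1),(.negSucc 1),(.ofNat 1)] (.node [] .nil (.node [(.negSucc 0),(.ofNat 1),(.ofNat 0),(.ofNat 1),(.negSucc 1),(.ofNat 0),(.ofNat 1),(.ofNat 0)] .nil .nil)) (.node [(.ofNat 1),(.ofNat 0),(.ofNat 1),(.negSucc 1),(.ofNat 1),(.ofNat 0),(.ofNat 0),(.ofNat 1)] .nil (.node [(.ofNat 2),(.ofNat 0),(.ofNat 0),(.negSucc 0),(.ofNat 1),(.negSucc 0),(.ofNat 0),(.ofNat 0)] .nil .nil)))) (.node [(.ofNat 0),(.ofNat 0),(.ofNat 0),(.ofNat 1),(.negSucc 1),(.ofNat 2),(.negSucc 0),(.ofNat 0)] (.node [] (.node [] .nil (.node [(.negSucc 0),(.ofNat 0),(.ofNat 2),(.negSucc 0),(.ofNat 1),(.negSucc 0),(.ofNat 0),(.negSucc 0)] .nil .nil)) (.node [(.negSucc 0),(.ofNat 0),(.ofNat 0),(.ofNat 1),(.negSucc 0),(.negSucc 0),(.ofNat 2),(.ofNat 0)] .nil (.node [(.negSucc 0),(.ofNat 0),(.ofNat 0),(.negSucc 0),(.ofNat 1),(.ofNat 1),(.negSucc 0),(.ofNat 1)] .nil .nil))) (.node [(.ofNat 2),(.negSucc 0),(.negSucc 0),(.ofNat 0),(.ofNat 1),(.negSucc 0),(.ofNat 1),(.ofNat 0)] (.node [] .nil (.node [(.ofNat 0),(.ofNat 0),(.ofNat 2),(.negSucc 0),(.negSucc 0),(.ofNat 1),(.ofNat 0),(.negSucc 0)] .nil .nil)) (.node [(.ofNat 1),(.ofNat 1),(.ofNat 0),(.ofNat 0),(.negSucc 0),(.ofNat 0),(.ofNat 1),(.negSucc 1)] .nil (.node [(.negSucc 0),(.ofNat 1),(.ofNat 1),(.ofNat 0),(.negSucc 0),(.negSucc 0),(.ofNat 1),(.ofNat 0)] .nil .nil))))) (.node [(.ofNat 0),(.ofNat 0),(.ofNat 0),(.ofNat 0),(.negSucc 0),(.ofNat 1),(.ofNat 1),(.ofNat 0)] (.node [] (.node [] (.node [] (.node [] .nil (.node [(.negSucc 0),(.ofNat 0),(.ofNat 1),(.negSucc 0),(.ofNat 1),(.ofNat 0),(.negSucc 0),(.ofNat 0)] .nil .nil)) (.node [(.negSucc 0),(.ofNat 0),(.ofNat 2),(.ofNat 0),(.negSucc 0),(.negSucc 0),(.ofNat 1),(.ofNat 0)] .nil .nil)) (.node [(.negSucc 1),(.negSucc 0),(.ofNat 1),(.ofNat 1),(.ofNat 0),(.negSucc 0),(.ofNat 0),(.ofNat 1)] .nil (.node [(.ofNat 0),(.ofNat 0),(.ofNat 1),(.negSucc 1),(.ofNat 1),(.ofNat 1),(.ofNat 0),(.negSucc 0)] .nil .nil))) (.node [(.ofNat 1),(.ofNat 0),(.ofNat 0),(.negSucc 0),(.ofNat 2),(.negSucc 0),(.negSucc 0),(.ofNat 1)] (.node [] .nil (.node [(.ofNat 1),(.ofNat 1),(.ofNat 1),(.negSucc 1),(.ofNat 0),(.ofNat 0),(.ofNat 1),(.ofNat 0)] .nil .nil)) (.node [(.ofNat 1),(.negSucc 0),(.ofNat 0),(.ofNat 1),(.negSucc 0),(.negSucc 0),(.ofNat 1),(.ofNat 1)] .nil (.node [(.negSucc 0),(.ofNat 1),(.ofNat 1),(.negSucc 1),(.ofNat 2),(.negSucc 0),(.ofNat 0),(.ofNat 0)] .nil .nil)))) (.node [(.ofNat 0),(.negSucc 0),(.ofNat 1),(.ofNat 0),(.ofNat 0),(.ofNat 0),(.negSucc 0),(.ofNat 2)] (.node [] (.node [] .nil (.node [(.ofNat 1),(.ofNat 1),(.negSucc 0),(.negSucc 0),(.ofNat 2),(.negSucc 0),(.negSucc 0),(.ofNat 1)] .nil .nil)) (.node [(.ofNat 1),(.ofNat 1),(.ofNat 0),(.negSucc 1),(.ofNat 2),(.negSucc 0),(.ofNat 1),(.negSucc 0)] .nil (.node [(.ofNat 1),(.negSucc 1),(.negSucc 0),(.ofNat 1),(.ofNat 0),(.ofNat 0),(.ofNat 0),(.ofNat 1)] .nil .nil))) (.node [(.ofNat 0),(.ofNat 0),(.ofNat 1),(.negSucc 1),(.ofNat 2),(.negSucc 0),(.ofNat 1),(.ofNat 0)] (.node [] .nil (.node [(.negSucc 1),(.ofNat 0),(.ofNat 0),(.ofNat 0),(.ofNat 1),(.ofNat 0),(.ofNat 0),(.negSucc 0)] .nil .nil)) (.node [(.ofNat 2),(.negSucc 0),(.negSucc 1),(.ofNat 1),(.ofNat 1),(.negSucc 0),(.ofNat 0),(.ofNat 0)] .nil (.node [(.ofNat 1),(.ofNat 0),(.negSucc 1),(.ofNat 1),(.negSucc 0),(.ofNat 1),(.ofNat 0),(.ofNat 0)] .nil .nil)))))) (.node [(.negSucc 0),(.ofNat 1),(.ofNat 1),(.negSucc 0),(.ofNat 1),(.negSucc 0),(.ofNat 0),(.ofNat 1)] (.node [] (.node [] (.node [] (.node [] (.node [] .nil (.node [(.ofNat 1),(.ofNat 1),(.negSucc 0),(.ofNat 0),(.ofNat 0),(.negSucc 0),(.ofNat 1),(.negSucc 0)] .nil .nil)) (.node [(.negSucc 0),(.ofNat 0),(.negSucc 0),(.ofNat 1),(.ofNat 0),(.negSucc 0),(.ofNat 1),(.ofNat 1)] .nil .nil)) (.node [(.ofNat 1),(.ofNat 0),(.negSucc 0),(.negSucc 0),(.ofNat 2),(.ofNat 0),(.negSucc 0),(.ofNat 1)] .nil (.node [(.negSucc 0),(.negSucc 0),(.ofNat 0),(.ofNat 2),(.negSucc 0),(.ofNat 0),(.negSucc 0),(.ofNat 0)] .nil .nil))) (.node [(.negSucc 0),(.negSucc 0),(.ofNat 0),(.ofNat 1),(.ofNat 0),(.ofNat 1),(.negSucc 1),(.ofNat 1)] (.node [] .nil (.node [(.ofNat 1),(.ofNat 0),(.ofNat 0),(.negSucc 0),(.ofNat 0),(.ofNat 1),(.negSucc 0),(.ofNat 2)] .nil .nil)) (.node [(.negSucc 0),(.ofNat 1),(.ofNat 1),(.negSucc 0),(.ofNat 1),(.negSucc 1),(.ofNat 2),(.negSucc 0)] .nil (.node [(.negSucc 0),(.ofNat 0),(.ofNat 0),(.ofNat 1),(.negSucc 0),(.negSucc 0),(.ofNat 2),(.negSucc 0)] .nil .nil)))) (.node [(.ofNat 1),(.ofNat 1),(.negSucc 0),(.ofNat 0),(.negSucc 0),(.ofNat 1),(.ofNat 1),(.negSucc 0)] (.node [] (.node [] .nil (.node [(.ofNat 1),(.ofNat 1),(.negSucc 0),(.ofNat 0),(.negSucc 0),(.ofNat 1),(.negSucc 0),(.ofNat 2)] .nil .nil)) (.node [(.ofNat 0),(.ofNat 0),(.ofNat 1),(.negSucc 0),(.ofNat 0),(.ofNat 0),(.ofNat 2),(.negSucc 1)] .nil (.node [(.ofNat 1),(.negSucc 0),(.negSucc 1),(.ofNat 2),(.negSucc 0),(.ofNat 0),(.ofNat 1),(.negSucc 0)] .nil .nil))) (.node [(.ofNat 0),(.ofNat 1),(.ofNat 0),(.negSucc 0),(.ofNat 0),(.ofNat 0),(.ofNat 2),(.negSucc 0)] (.node [] .nil (.node [(.negSucc 0),(.ofNat 2),(.ofNat 1),(.negSucc 0),(.negSucc 0),(.ofNat 1),(.ofNat 0),(.negSucc 0)] .nil .nil)) (.node [(.ofNat 1),(.ofNat 0),(.negSucc 1),(.ofNat 1),(.negSucc 0),(.ofNat 1),(.ofNat 0),(.ofNat 1)] .nil (.node [(.ofNat 0),(.negSucc 0),(.negSucc 0),(.ofNat 1),(.ofNat 1),(.negSucc 1),(.ofNat 1),(.ofNat 0)] .nil .nil))))) (.node [(.ofNat 1),(.ofNat 0),(.negSucc 1),(.ofNat 1),(.ofNat 0),(.ofNat 0),(.ofNat 0),(.ofNat 1)] (.node [] (.node [] (.node [] .nil (.node [(.ofNat 1),(.ofNat 1),(.negSucc 0),(.negSucc 0),(.ofNat 1),(.ofNat 0),(.negSucc 0),(.ofNat 2)] .nil .nil)) (.node [(.ofNat 0),(.ofNat 2),(.ofNat 1),(.negSucc 1),(.ofNat 1),(.negSucc 0),(.ofNat 1),(.negSucc 0)] .nil (.node [(.negSucc 1),(.ofNat 0),(.ofNat 0),(.ofNat 1),(.ofNat 0),(.ofNat 0),(.negSucc 0),(.ofNat 0)] .nil .nil))) (.node [(.negSucc 0),(.ofNat 1),(.ofNat 0),(.ofNat 1),(.negSucc 0),(.ofNat 0),(.ofNat 0),(.negSucc 0)] (.node [] .nil (.node [(.ofNat 0),(.ofNat 1),(.negSucc 1),(.ofNat 1),(.ofNat 0),(.ofNat 0),(.negSucc 0),(.ofNat 1)] .nil .nil)) (.node [(.negSucc 0),(.ofNat 0),(.ofNat 0),(.ofNat 1),(.ofNat 0),(.ofNat 0),(.negSucc 0),(.negSucc 0)] .nil (.node [(.ofNat 1),(.ofNat 1),(.ofNat 0),(.ofNat 0),(.negSucc 0),(.negSucc 0),(.ofNat 1),(.ofNat 0)] .nil .nil)))) (.node [(.ofNat 1),(.negSucc 0),(.negSucc 0),(.ofNat 1),(.ofNat 0),(.ofNat 0),(.negSucc 0),(.ofNat 2)] (.node [] (.node [] .nil (.node [(.ofNat 1),(.ofNat 1),(.negSucc 0),(.ofNat 0),(.ofNat 0),(.negSucc 0),(.ofNat 0),(.ofNat 2)] .nil .nil)) (.node [(.negSucc 0),(.ofNat 1),(.ofNat 1),(.negSucc 1),(.ofNat 2),(.negSucc 0),(.ofNat 1),(.negSucc 0)] .nil (.node [(.ofNat 1),(.ofNat 0),(.negSucc 0),(.ofNat 0),(.ofNat 1),(.negSucc 0),(.negSucc 0),(.ofNat 2)] .nil .nil))) (.node [(.ofNat 2),(.ofNat 0),(.ofNat 0),(.negSucc 0),(.ofNat 0),(.ofNat 0),(.ofNat 1),(.ofNat 0)] (.node [] .nil (.node [(.negSucc 0),(.negSucc 0),(.ofNat 2),(.negSucc 0),(.ofNat 0),(.ofNat 1),(.negSucc 0),(.ofNat 1)] .nil .nil)) (.node [(.negSucc 0),(.ofNat 0),(.negSucc 0),(.ofNat 1),(.negSucc 0),(.ofNat 1),(.ofNat 0),(.ofNat 1)] .nil (.node [(.ofNat 0),(.ofNat 0),(.ofNat 0),(.negSucc 0),(.ofNat 2),(.negSucc 0),(.ofNat 0),(.negSucc 0)] .nil .nil)))))))) (.node [(.ofNat 0),(.negSucc 0),(.ofNat 0),(.ofNat 1),(.ofNat 0),(.ofNat 0),(.ofNat 0),(.negSucc 0)] (.node [] (.node [] (.node [] (.node [] (.node [] (.node [] (.node [] .nil (.node [(.negSucc 0),(.ofNat 0),(.negSucc 0),(.ofNat 1),(.ofNat 0),(.ofNat 0),(.negSucc 0),(.ofNat 1)] .nil .nil)) (.node [(.ofNat 1),(.negSucc 0),(.ofNat 0),(.ofNat 1),(.negSucc 0),(.ofNat 1),(.negSucc 0),(.negSucc 0)] .nil .nil)) (.node [(.ofNat 0),(.ofNat 0),(.negSucc 0),(.ofNat 2),(.negSucc 0),(.negSucc 0),(.ofNat 0),(.ofNat 1)] .nil (.node [(.negSucc 1),(.ofNat 0),(.ofNat 0),(.ofNat 1),(.ofNat 0),(.negSucc 0),(.ofNat 0),(.ofNat 1)] .nil .nil))) (.node [(.ofNat 0),(.ofNat 1),(.negSucc 1),(.ofNat 1),(.ofNat 0),(.ofNat 0),(.ofNat 0),(.ofNat 0)] (.node [] .nil (.node [(.ofNat 1),(.negSucc 1),(.ofNat 0),(.ofNat 0),(.ofNat 1),(.negSucc 0),(.ofNat 1),(.ofNat 0)] .nil .nil)) (.node [(.ofNat 1),(.negSucc 1),(.negSucc 0),(.ofNat 1),(.ofNat 1),(.ofNat 0),(.negSucc 0),(.ofNat 0)] .nil (.node [(.negSucc 0),(.ofNat 0),(.ofNat 0),(.ofNat 1),(.negSucc 1),(.ofNat 1),(.ofNat 1),(.negSucc 0)] .nil .nil)))) (.node [(.ofNat 0),(.ofNat 0),(.ofNat 0),(.ofNat 0),(.ofNat 1),(.negSucc 0),(.negSucc 0),(.ofNat 2)] (.node [] (.node [] .nil (.node [(.ofNat 2),(.negSucc 0),(.ofNat 0),(.negSucc 0),(.ofNat 1),(.ofNat 0),(.ofNat 0),(.ofNat 0)] .nil .nil)) (.node [(.negSucc 0),(.negSucc 1),(.ofNat 0),(.ofNat 1),(.ofNat 0),(.ofNat 1),(.negSucc 0),(.ofNat 1)] .nil (.node [(.ofNat 2),(.negSucc 0),(.negSucc 0),(.ofNat 1),(.negSucc 0),(.ofNat 0),(.ofNat 1),(.negSucc 0)] .nil .nil))) (.node [(.negSucc 0),(.ofNat 0),(.ofNat 1),(.ofNat 0),(.ofNat 0),(.negSucc 0),(.ofNat 0),(.ofNat 2)] (.node [] .nil (.node [(.negSucc 0),(.ofNat 1),(.ofNat 0),(.ofNat 1),(.negSucc 0),(.negSucc 0),(.ofNat 0),(.ofNat 1)] .nil .nil)) (.node [(.ofNat 1),(.negSucc 0),(.ofNat 0),(.ofNat 1),(.negSucc 0),(.negSucc 0),(.ofNat 2),(.negSucc 0)] .nil (.node [(.ofNat 1),(.ofNat 0),(.ofNat 1),(.negSucc 1),(.ofNat 1),(.ofNat 0),(.ofNat 0),(.ofNat 0)] .nil .nil))))) (.node [(.negSucc 0),(.negSucc 0),(.ofNat 1),(.ofNat 0),(.ofNat 1),(.negSucc 0),(.ofNat 1),(.negSucc 0)] (.node [] (.node [] (.node [] (.node [] .nil (.node [(.ofNat 0),(.ofNat 0),(.negSucc 0),(.ofNat 0),(.ofNat 0),(.ofNat 1),(.negSucc 0),(.ofNat 1)] .nil .nil)) (.node [(.ofNat 2),(.ofNat 0),(.negSucc 0),(.ofNat 0),(.ofNat 0),(.ofNat 0),(.ofNat 1),(.negSucc 1)] .nil .nil)) (.node [(.negSucc 1),(.ofNat 1),(.ofNat 1),(.ofNat 0),(.ofNat 0),(.negSucc 0),(.ofNat 1),(.negSucc 0)] .nil (.node [(.ofNat 0),(.ofNat 1),(.ofNat 0),(.ofNat 0),(.negSucc 1),(.ofNat 2),(.ofNat 0),(.negSucc 0)] .nil .nil))) (.node [(.ofNat 1),(.ofNat 2),(.ofNat 0),(.negSucc 0),(.ofNat 0),(.ofNat 0),(.negSucc 0),(.ofNat 1)] (.node [] .nil (.node [(.negSucc 0),(.ofNat 1),(.ofNat 0),(.negSucc 0),(.ofNat 2),(.negSucc 0),(.ofNat 0),(.negSucc 0)] .nil .nil)) (.node [(.ofNat 1),(.ofNat 0),(.ofNat 1),(.negSucc 1),(.ofNat 1),(.ofNat 0),(.ofNat 1),(.negSucc 0)] .nil (.node [(.ofNat 0),(.negSucc 1),(.ofNat 1),(.ofNat 1),(.negSucc 0),(.ofNat 0),(.ofNat 0),(.ofNat 0)] .nil .nil)))) (.node [(.ofNat 2),(.ofNat 1),(.ofNat 0),(.negSucc 0),(.ofNat 0),(.ofNat 0),(.ofNat 0),(.ofNat 0)] (.node [] (.node [] .nil (.node [(.negSucc 0),(.ofNat 0),(.ofNat 2),(.ofNat 0),(.negSucc 0),(.ofNat 0),(.ofNat 0),(.negSucc 0)] .nil .nil)) (.node [(.negSucc 0),(.ofNat 1),(.ofNat 1),(.negSucc 0),(.ofNat 0),(.negSucc 0),(.ofNat 2),(.ofNat 0)] .nil (.node [(.negSucc 0),(.ofNat 1),(.ofNat 2),(.negSucc 0),(.ofNat 0),(.negSucc 0),(.ofNat 0),(.ofNat 0)] .nil .nil))) (.node [(.ofNat 1),(.negSucc 0),(.ofNat 1),(.ofNat 0),(.negSucc 0),(.ofNat 1),(.negSucc 0),(.ofNat 1)] (.node [] .nil (.node [(.ofNat 2),(.ofNat 1),(.negSucc 0),(.negSucc 0),(.ofNat 0),(.ofNat 1),(.negSucc 0),(.ofNat 1)] .nil .nil)) (.node [(.ofNat 1),(.negSucc 0),(.ofNat 0),(.ofNat 1),(.negSucc 0),(.ofNat 1),(.negSucc 1),(.ofNat 1)] .nil (.node [(.ofNat 1),(.ofNat 0),(.ofNat 1),(.negSucc 0),(.ofNat 0),(.ofNat 0),(.negSucc 0),(.ofNat 1)] .nil .nil)))))) (.node [(.ofNat 1),(.negSucc 0),(.ofNat 0),(.ofNat 0),(.ofNat 0),(.ofNat 1),(.negSucc 0),(.ofNat 1)] (.node [] (.node [] (.node [] (.node [] (.node [] .nil (.node [(.ofNat 1),(.ofNat 1),(.negSucc 0),(.ofNat 0),(.ofNat 0),(.negSucc 0),(.ofNat 0),(.ofNat 1)] .nil .nil)) (.node [(.ofNat 0),(.ofNat 1),(.negSucc 0),(.ofNat 1),(.negSucc 0),(.ofNat 1),(.negSucc 0),(.negSucc 0)] .nil .nil)) (.node [(.negSucc 0),(.negSucc 0),(.ofNat 2),(.ofNat 0),(.negSucc 0),(.ofNat 1),(.ofNat 0),(.negSucc 0)] .nil (.node [(.ofNat 1),(.negSucc 0),(.ofNat 1),(.ofNat 0),(.negSucc 0),(.ofNat 0),(.ofNat 0),(.ofNat 1)] .nil .nil))) (.node [(.ofNat 1),(.negSucc 0),(.negSucc 0),(.ofNat 1),(.ofNat 1),(.negSucc 0),(.negSucc 0),(.ofNat 1)] (.node [] .nil (.node [(.ofNat 0),(.ofNat 0),(.ofNat 0),(.ofNat 1),(.ofNat 0),(.negSucc 0),(.negSucc 0),(.ofNat 0)] .nil .nil)) (.node [(.ofNat 0),(.ofNat 0),(.negSucc 1),(.ofNat 1),(.ofNat 1),(.ofNat 0),(.negSucc 0),(.ofNat 0)] .nil (.node [(.negSucc 0),(.ofNat 0),(.ofNat 0),(.ofNat 1),(.negSucc 1),(.ofNat 2),(.negSucc 0),(.ofNat 0)] .nil .nil)))) (.node [(.ofNat 1),(.ofNat 1),(.negSucc 0),(.negSucc 0),(.ofNat 1),(.ofNat 1),(.negSucc 0),(.ofNat 0)] (.node [] (.node [] .nil (.node [(.ofNat 0),(.negSucc 0),(.ofNat 1),(.negSucc 0),(.ofNat 1),(.ofNat 1),(.negSucc 1),(.ofNat 1)] .nil .nil)) (.node [(.ofNat 0),(.negSucc 1),(.ofNat 1),(.ofNat 0),(.ofNat 1),(.negSucc 0),(.ofNat 1),(.negSucc 0)] .nil (.node [(.ofNat 0),(.negSucc 0),(.ofNat 0),(.ofNat 0),(.ofNat 0),(.ofNat 0),(.ofNat 2),(.negSucc 1)] .nil .nil))) (.node [(.ofNat 1),(.ofNat 0),(.ofNat 0),(.ofNat 1),(.negSucc 0),(.negSucc 0),(.ofNat 0),(.ofNat 1)] (.node [] .nil (.node [(.ofNat 0),(.ofNat 1),(.negSucc 1),(.ofNat 1),(.ofNat 0),(.ofNat 0),(.ofNat 0),(.negSucc 0)] .nil .nil)) (.node [(.ofNat 0),(.ofNat 2),(.ofNat 0),(.negSucc 0),(.negSucc 0),(.ofNat 1),(.ofNat 1),(.negSucc 0)] .nil (.node [(.ofNat 1),(.ofNat 1),(.ofNat 0),(.ofNat 0),(.negSucc 0),(.ofNat 0),(.ofNat 0),(.negSucc 0)] .nil .nil))))) (.node [(.ofNat 0),(.ofNat 2),(.ofNat 0),(.negSucc 0),(.ofNat 0),(.ofNat 0),(.ofNat 1),(.negSucc 0)] (.node [] (.node [] (.node [] (.node [] .nil (.node [(.negSucc 0),(.ofNat 0),(.ofNat 0),(.ofNat 0),(.ofNat 0),(.ofNat 0),(.ofNat 0),(.ofNat 0)] .nil .nil)) (.node [(.ofNat 0),(.ofNat 1),(.ofNat 1),(.negSucc 0),(.negSucc 0),(.ofNat 0),(.ofNat 2),(.negSucc 0)] .nil .nil)) (.node [(.ofNat 1),(.ofNat 1),(.ofNat 0),(.negSucc 0),(.negSucc 0),(.ofNat 1),(.ofNat 1),(.ofNat 0)] .nil (.node [(.negSucc 0),(.ofNat 1),(.negSucc 0),(.ofNat 0),(.ofNat 0),(.ofNat 1),(.ofNat 0),(.negSucc 0)] .nil .nil))) (.node [(.ofNat 1),(.negSucc 0),(.negSucc 0),(.ofNat 2),(.negSucc 0),(.ofNat 0),(.ofNat 0),(.negSucc 0)] (.node [] .nil (.node [(.ofNat 1),(.ofNat 0),(.ofNat 0),(.negSucc 0),(.ofNat 0),(.ofNat 1),(.ofNat 1),(.negSucc 1)] .nil .nil)) (.node [(.ofNat 0),(.negSucc 0),(.negSucc 0),(.ofNat 0),(.ofNat 2),(.negSucc 0),(.ofNat 1),(.negSucc 0)] .nil (.node [(.negSucc 0),(.negSucc 1),(.ofNat 0),(.ofNat 1),(.ofNat 1),(.negSucc 0),(.ofNat 0),(.ofNat 0)] .nil .nil)))) (.node [(.ofNat 0),(.negSucc 0),(.ofNat 1),(.ofNat 0),(.ofNat 0),(.ofNat 1),(.negSucc 1),(.ofNat 1)] (.node [] (.node [] .nil (.node [(.ofNat 0),(.ofNat 1),(.ofNat 1),(.negSucc 0),(.ofNat 1),(.negSucc 1),(.ofNat 0),(.ofNat 1)] .nil .nil)) (.node [(.ofNat 0),(.ofNat 0),(.ofNat 1),(.negSucc 0),(.ofNat 0),(.ofNat 2),(.negSucc 1),(.ofNat 0)] .nil (.node [(.negSucc 1),(.ofNat 0),(.ofNat 2),(.negSucc 0),(.ofNat 0),(.ofNat 0),(.ofNat 1),(.negSucc 0)] .nil .nil))) (.node [(.negSucc 1),(.ofNat 1),(.ofNat 1),(.ofNat 0),(.negSucc 0),(.ofNat 1),(.negSucc 0),(.ofNat 1)] (.node [] .nil (.node [(.negSucc 0),(.negSucc 1),(.ofNat 1),(.ofNat 1),(.negSucc 0),(.ofNat 1),(.ofNat 0),(.negSucc 0)] .nil .nil)) (.node [(.ofNat 0),(.ofNat 2),(.ofNat 0),(.negSucc 0),(.ofNat 0),(.negSucc 0),(.ofNat 2),(.negSucc 0)] .nil (.node [(.negSucc 0),(.ofNat 0),(.negSucc 0),(.ofNat 1),(.negSucc 0),(.ofNat 1),(.ofNat 0),(.ofNat 0)] .nil .nil))))))) (.node [(.ofNat 1),(.ofNat 1),(.ofNat 0),(.negSucc 0),(.ofNat 0),(.ofNat 0),(.ofNat 1),(.ofNat 0)] (.node [] (.node [] (.node [] (.node [] (.node [] (.node [] .nil (.node [(.ofNat 0),(.ofNat 1),(.ofNat 1),(.negSucc 0),(.ofNat 0),(.negSucc 0),(.ofNat 0),(.ofNat 1)] .nil .nil)) (.node [(.ofNat 0),(.negSucc 0),(.negSucc 0),(.ofNat 2),(.ofNat 0),(.negSucc 1),(.ofNat 1),(.ofNat 0)] .nil .nil)) (.node [(.negSucc 1),(.negSucc 0),(.ofNat 1),(.ofNat 0),(.ofNat 1),(.ofNat 0),(.ofNat 0),(.negSucc 0)] .nil (.node [(.ofNat 0),(.ofNat 1),(.ofNat 0),(.negSucc 0),(.ofNat 1),(.ofNat 0),(.negSucc 1),(.ofNat 2)] .nil .nil))) (.node [(.ofNat 0),(.ofNat 0),(.ofNat 2),(.negSucc 0),(.ofNat 0),(.negSucc 0),(.ofNat 1),(.ofNat 0)] (.node [] .nil (.node [(.ofNat 0),(.negSucc 1),(.ofNat 0),(.ofNat 2),(.negSucc 0),(.ofNat 0),(.ofNat 0),(.negSucc 0)] .nil .nil)) (.node [(.ofNat 0),(.ofNat 0),(.ofNat 1),(.ofNat 0),(.ofNat 0),(.ofNat 0),(.negSucc 0),(.negSucc 0)] .nil (.node [(.ofNat 1),(.negSucc 0),(.ofNat 0),(.ofNat 0),(.negSucc 0),(.ofNat 1),(.ofNat 0),(.ofNat 1)] .nil .nil)))) (.node [(.ofNat 0),(.ofNat 0),(.ofNat 0),(.ofNat 1),(.negSucc 0),(.negSucc 0),(.ofNat 2),(.negSucc 0)] (.node [] (.node [] .nil (.node [(.ofNat 0),(.ofNat 1),(.ofNat 1),(.ofNat 0),(.negSucc 1),(.ofNat 0),(.ofNat 1),(.ofNat 0)] .nil .nil)) (.node [(.ofNat 1),(.ofNat 0),(.negSucc 0),(.ofNat 1),(.negSucc 1),(.ofNat 2),(.ofNat 0),(.negSucc 0)] .nil (.node [(.negSucc 0),(.ofNat 1),(.ofNat 2),(.negSucc 0),(.negSucc 0),(.ofNat 1),(.negSucc 0),(.ofNat 0)] .nil .nil))) (.node [(.negSucc 0),(.ofNat 1),(.ofNat 2),(.negSucc 0),(.negSucc 0),(.ofNat 0),(.ofNat 1),(.ofNat 0)] (.node [] .nil (.node [(.ofNat 1),(.ofNat 1),(.negSucc 0),(.ofNat 0),(.ofNat 1),(.negSucc 0),(.negSucc 0),(.ofNat 0)] .nil .nil)) (.node [(.ofNat 1),(.ofNat 0),(.negSucc 0),(.ofNat 2),(.negSucc 1),(.ofNat 0),(.ofNat 0),(.ofNat 0)] .nil (.node [(.ofNat 1),(.ofNat 0),(.ofNat 1),(.negSucc 0),(.negSucc 0),(.ofNat 1),(.ofNat 0),(.ofNat 0)] .nil .nil))))) (.node [(.ofNat 0),(.negSucc 0),(.negSucc 0),(.ofNat 1),(.ofNat 1),(.negSucc 0),(.ofNat 1),(.negSucc 0)] (.node [] (.node [] (.node [] (.node [] .nil (.node [(.ofNat 0),(.ofNat 0),(.negSucc 0),(.ofNat 1),(.negSucc 0),(.ofNat 0),(.ofNat 1),(.negSucc 0)] .nil .nil)) (.node [(.ofNat 0),(.negSucc 0),(.negSucc 0),(.ofNat 2),(.ofNat 0),(.negSucc 0),(.negSucc 0),(.ofNat 1)] .nil .nil)) (.node [(.ofNat 0),(.ofNat 0),(.negSucc 1),(.ofNat 1),(.ofNat 0),(.ofNat 0),(.ofNat 1),(.ofNat 0)] .nil (.node [(.negSucc 0),(.negSucc 0),(.ofNat 2),(.ofNat 0),(.negSucc 0),(.ofNat 0),(.ofNat 0),(.ofNat 1)] .nil .nil))) (.node [(.negSucc 0),(.ofNat 0),(.ofNat 1),(.negSucc 0),(.ofNat 1),(.ofNat 1),(.negSucc 1),(.ofNat 1)] (.node [] .nil (.node [(.negSucc 1),(.ofNat 0),(.ofNat 0),(.ofNat 0),(.ofNat 1),(.negSucc 0),(.ofNat 1),(.ofNat 0)] .nil .nil)) (.node [(.negSucc 1),(.negSucc 0),(.ofNat 0),(.ofNat 1),(.ofNat 0),(.ofNat 0),(.ofNat 0),(.ofNat 1)] .nil (.node [(.negSucc 0),(.ofNat 1),(.ofNat 1),(.negSucc 0),(.ofNat 0),(.negSucc 0),(.ofNat 2),(.negSucc 0)] .nil .nil)))) (.node [(.ofNat 0),(.negSucc 0),(.ofNat 1),(.ofNat 1),(.negSucc 1),(.ofNat 1),(.ofNat 0),(.ofNat 0)] (.node [] (.node [] .nil (.node [(.ofNat 0),(.negSucc 0),(.ofNat 1),(.ofNat 1),(.negSucc 1),(.ofNat 0),(.ofNat 1),(.ofNat 0)] .nil .nil)) (.node [(.ofNat 1),(.ofNat 1),(.ofNat 0),(.negSucc 0),(.ofNat 1),(.negSucc 1),(.ofNat 1),(.ofNat 1)] .nil (.node [(.ofNat 1),(.ofNat 0),(.negSucc 0),(.negSucc 0),(.ofNat 2),(.ofNat 0),(.negSucc 0),(.ofNat 0)] .nil .nil))) (.node [(.ofNat 0),(.ofNat 2),(.ofNat 1),(.negSucc 1),(.ofNat 0),(.ofNat 0),(.ofNat 1),(.ofNat 0)] (.node [] .nil (.node [(.ofNat 1),(.ofNat 0),(.ofNat 0),(.ofNat 1),(.negSucc 1),(.ofNat 0),(.ofNat 0),(.ofNat 1)] .nil .nil)) (.node [(.ofNat 1),(.ofNat 0),(.negSucc 1),(.ofNat 0),(.ofNat 1),(.ofNat 1),(.negSucc 0),(.ofNat 0)] .nil (.node [(.ofNat 0),(.ofNat 1),(.negSucc 0),(.ofNat 1),(.negSucc 0),(.ofNat 0),(.ofNat 0),(.negSucc 0)] .nil .nil)))))) (.node [(.negSucc 0),(.ofNat 1),(.ofNat 1),(.negSucc 0),(.ofNat 1),(.negSucc 0),(.ofNat 1),(.negSucc 0)] (.node [] (.node [] (.node [] (.node [] (.node [] .nil (.node [(.ofNat 1),(.negSucc 0),(.negSucc 0),(.ofNat 1),(.ofNat 0),(.negSucc 0),(.ofNat 1),(.negSucc 0)] .nil .nil)) (.node [(.ofNat 0),(.ofNat 2),(.ofNat 0),(.negSucc 0),(.ofNat 0),(.ofNat 0),(.ofNat 1),(.negSucc 1)] .nil .nil)) (.node [(.ofNat 0),(.ofNat 0),(.ofNat 1),(.negSucc 0),(.ofNat 1),(.ofNat 0),(.negSucc 1),(.ofNat 2)] .nil (.node [(.ofNat 1),(.ofNat 1),(.negSucc 1),(.ofNat 0),(.ofNat 1),(.negSucc 0),(.ofNat 0),(.ofNat 1)] .nil .nil))) (.node [(.negSucc 0),(.ofNat 0),(.ofNat 1),(.negSucc 0),(.ofNat 1),(.ofNat 0),(.negSucc 0),(.ofNat 2)] (.node [] .nil (.node [(.ofNat 0),(.ofNat 1),(.negSucc 1),(.ofNat 1),(.ofNat 0),(.negSucc 0),(.ofNat 1),(.ofNat 0)] .nil .nil)) (.node [(.ofNat 0),(.ofNat 1),(.negSucc 0),(.ofNat 1),(.negSucc 1),(.ofNat 1),(.ofNat 0),(.ofNat 1)] .nil (.node [(.negSucc 1),(.ofNat 0),(.ofNat 2),(.negSucc 0),(.ofNat 1),(.negSucc 0),(.ofNat 0),(.ofNat 0)] .nil .nil)))) (.node [(.ofNat 1),(.ofNat 1),(.negSucc 0),(.ofNat 0),(.ofNat 0),(.negSucc 0),(.ofNat 1),(.ofNat 1)] (.node [] (.node [] .nil (.node [(.ofNat 0),(.negSucc 0),(.ofNat 1),(.ofNat 0),(.negSucc 0),(.ofNat 1),(.negSucc 0),(.ofNat 2)] .nil .nil)) (.node [(.negSucc 0),(.ofNat 1),(.ofNat 1),(.negSucc 1),(.ofNat 1),(.ofNat 1),(.ofNat 0),(.negSucc 0)] .nil (.node [(.negSucc 1),(.negSucc 0),(.ofNat 1),(.ofNat 0),(.ofNat 1),(.ofNat 0),(.negSucc 0),(.ofNat 0)] .nil .nil))) (.node [(.ofNat 2),(.ofNat 1),(.negSucc 0),(.negSucc 0),(.ofNat 1),(.ofNat 0),(.ofNat 0),(.negSucc 0)] (.node [] .nil (.node [(.ofNat 0),(.negSucc 1),(.negSucc 0),(.ofNat 1),(.ofNat 1),(.ofNat 0),(.negSucc 0),(.ofNat 1)] .nil .nil)) (.node [(.ofNat 0),(.negSucc 1),(.ofNat 0),(.ofNat 1),(.negSucc 0),(.ofNat 1),(.ofNat 0),(.ofNat 1)] .nil (.node [(.negSucc 0),(.negSucc 0),(.ofNat 1),(.ofNat 0),(.ofNat 0),(.ofNat 1),(.negSucc 0),(.negSucc 0)] .nil .nil))))) (.node [(.ofNat 0),(.negSucc 0),(.negSucc 0),(.ofNat 2),(.negSucc 0),(.ofNat 1),(.negSucc 0),(.ofNat 0)] (.node [] (.node [] (.node [] .nil (.node [(.ofNat 0),(.negSucc 0),(.ofNat 1),(.ofNat 0),(.negSucc 0),(.ofNat 0),(.ofNat 1),(.ofNat 1)] .nil .nil)) (.node [(.ofNat 0),(.ofNat 1),(.ofNat 0),(.ofNat 0),(.negSucc 0),(.ofNat 2),(.negSucc 1),(.ofNat 0)] .nil (.node [(.ofNat 0),(.ofNat 1),(.ofNat 0),(.negSucc 0),(.ofNat 0),(.ofNat 0),(.ofNat 2),(.negSucc 1)] .nil .nil))) (.node [(.negSucc 0),(.negSucc 0),(.ofNat 0),(.ofNat 1),(.ofNat 1),(.negSucc 0),(.ofNat 0),(.negSucc 0)] (.node [] .nil (.node [(.ofNat 1),(.ofNat 2),(.ofNat 0),(.negSucc 0),(.negSucc 0),(.ofNat 1),(.ofNat 0),(.negSucc 0)] .nil .nil)) (.node [(.ofNat 0),(.negSucc 1),(.ofNat 0),(.ofNat 0),(.ofNat 1),(.ofNat 0),(.ofNat 0),(.ofNat 1)] .nil (.node [(.ofNat 0),(.negSucc 0),(.negSucc 0),(.ofNat 0),(.ofNat 1),(.ofNat 1),(.negSucc 0),(.ofNat 0)] .nil .nil)))) (.node [(.ofNat 0),(.negSucc 0),(.ofNat 1),(.ofNat 1),(.negSucc 0),(.negSucc 0),(.ofNat 1),(.ofNat 0)] (.node [] (.node [] .nil (.node [(.ofNat 2),(.ofNat 0),(.negSucc 0),(.ofNat 1),(.negSucc 0),(.ofNat 0),(.ofNat 0),(.negSucc 0)] .nil .nil)) (.node [(.negSucc 0),(.negSucc 1),(.ofNat 0),(.ofNat 2),(.negSucc 0),(.ofNat 0),(.ofNat 0),(.ofNat 1)] .nil (.node [(.negSucc 0),(.ofNat 2),(.ofNat 0),(.negSucc 0),(.ofNat 0),(.ofNat 0),(.ofNat 1),(.negSucc 0)] .nil .nil))) (.node [(.ofNat 1),(.ofNat 1),(.negSucc 1),(.ofNat 1),(.negSucc 0),(.ofNat 1),(.negSucc 0),(.ofNat 1)] (.node [] .nil (.node [(.ofNat 0),(.negSucc 0),(.ofNat 0),(.ofNat 0),(.ofNat 1),(.negSucc 1),(.ofNat 2),(.ofNat 0)] .nil .nil)) (.node [(.ofNat 0),(.negSucc 1),(.ofNat 0),(.ofNat 1),(.ofNat 0),(.negSucc 0),(.ofNat 1),(.ofNat 1)] .nil (.node [(.ofNat 0),(.ofNat 1),(.ofNat 1),(.negSucc 0),(.negSucc 0),(.ofNat 0),(.ofNat 1),(.ofNat 0)] .nil .nil))))))))))))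
noncomputable def nxb : Trie (List ℕ) := (.node [1,0,0,0,0,0,0,0] (.node [] (.node [] (.node [] (.node [] (.node [] (.node [] (.node [] (.node [] (.node [] (.node [] (.node [] .nil (.node [2068,2066,2025,2026,2067,2030,2062,2048] .nil .nil)) (.node [1024,963,960,1089,1083,964,1074,961] .nil .nil)) (.node [463,459,566,512,461,564,465,559] .nil (.node [1481,1591,1536,1569,1496,1536,1479,1536] .nil .nil))) (.node [292,226,223,293,224,291,256,256] (.node [] .nil (.node [1219,1280,1291,1341,1225,1280,1220,1339] .nil .nil)) (.node [732,710,829,709,828,713,768,817] .nil (.node [1833,1747,1754,1810,1792,1792,1832,1751] .nil .nil)))) (.node [110,128,150,107,128,147,113,128] (.node [] (.node [] .nil (.node [1152,1087,1152,1213,1152,1152,1201,1088] .nil .nil)) (.node [640,587,640,640,694,690,589,640] .nil (.node [1664,1614,1664,1664,1664,1664,1664,1711] .nil .nil))) (.node [427,384,384,341,428,350,384,343] (.node [] .nil (.node [1465,1350,1408,1408,1467,1408,1408,1353] .nil .nil)) (.node [857,835,961,896,953,838,833,960] .nil (.node [1884,1920,1920,1952,1892,1938,1895,1885] .nil .nil))))) (.node [77,80,64,64,52,64,75,56] (.node [] (.node [] (.node [] (.node [] .nil (.node [2100,2104,2112,2123,2101,2121,2112,2106] .nil .nil)) (.node [1088,1022,1088,1150,1088,1088,1023,1152] .nil .nil)) (.node [576,530,576,629,576,576,576,523] .nil (.node [1543,1635,1546,1600,1600,1653,1547,1647] .nil .nil))) (.node [357,320,320,320,282,359,284,356] (.node [] .nil (.node [1283,1282,1401,1344,1344,1285,1400,1344] .nil .nil)) (.node [832,895,832,771,894,832,832,882] .nil (.node [1893,1856,1856,1856,1815,1856,1856,1856] .nil .nil)))) (.node [164,217,192,192,165,221,192,213] (.node [] (.node [] .nil (.node [1216,1216,1216,1275,1155,1153,1278,1154] .nil .nil)) (.node [704,704,648,764,704,761,704,657] .nil (.node [1679,1702,1766,1775,1680,1728,1773,1689] .nil .nil))) (.node [404,497,496,403,495,448,405,492] (.node [] .nil (.node [1525,1412,1472,1529,1472,1413,1472,1522] .nil .nil)) (.node [920,899,1024,960,1017,901,1009,896] .nil (.node [1984,1954,1955,2010,1984,1998,1956,2009] .nil .nil)))))) (.node [32,32,41,32,32,25,40,27] (.node [] (.node [] (.node [] (.node [] (.node [] .nil (.node [2096,2093,2061,2080,2062,2095,2067,2089] .nil .nil)) (.node [1056,1121,1117,993,1056,1120,1004,1056] .nil .nil)) (.node [591,596,508,544,544,493,595,498] .nil (.node [1568,1568,1516,1618,1568,1568,1568,1515] .nil .nil))) (.node [325,288,253,326,254,324,288,288] (.node [] .nil (.node [1312,1312,1374,1250,1371,1312,1251,1373] .nil .nil)) (.node [800,860,843,746,800,742,800,800] .nil (.node [1824,1865,1780,1785,1863,1824,1824,1851] .nil .nil)))) (.node [160,160,160,160,185,160,137,186] (.node [] (.node [] .nil (.node [1184,1120,1242,1125,1247,1121,1246,1184] .nil .nil)) (.node [708,731,633,672,617,672,672,725] .nil (.node [1745,1716,1644,1696,1744,1696,1646,1696] .nil .nil))) (.node [452,466,370,416,464,373,460,416] (.node [] .nil (.node [1497,1378,1386,1500,1482,1379,1499,1382] .nil .nil)) (.node [868,928,928,928,987,869,928,928] .nil (.node [1921,1983,1982,1920,1952,1966,1928,1922] .nil .nil))))) (.node [113,96,115,80,96,96,110,85] (.node [] (.node [] (.node [] (.node [] .nil (.node [2144,2148,2144,2139,2144,2144,2144,2147] .nil .nil)) (.node [1120,1184,1178,1055,1183,1056,1182,1120] .nil .nil)) (.node [570,608,608,661,555,663,658,608] .nil (.node [1684,1599,1579,1682,1683,1581,1632,1672] .nil .nil))) (.node [392,352,352,352,312,394,314,391] (.node [] .nil (.node [1316,1438,1376,1376,1315,1437,1328,1318] .nil .nil)) (.node [864,921,925,804,924,805,864,864] .nil (.node [1925,1848,1888,1888,1888,1850,1923,1862] .nil .nil)))) (.node [257,197,195,224,256,201,224,224] (.node [] (.node [] .nil (.node [1248,1311,1248,1248,1185,1248,1248,1186] .nil .nil)) (.node [776,736,683,795,736,680,677,796] .nil (.node [1725,1743,1802,1760,1760,1715,1760,1760] .nil .nil))) (.node [480,523,480,480,480,480,433,530] (.node [] .nil (.node [1450,1447,1504,1559,1504,1552,1448,1504] .nil .nil)) (.node [970,933,1055,1051,992,931,1054,992] .nil (.node [1995,1992,2037,2038,1994,2016,2016,1997] .nil .nil))))))) (.node [16,16,22,12,21,16,13,20] (.node [] (.node [] (.node [] (.node [] (.node [] (.node [] .nil (.node [2064,2064,2064,2079,2053,2044,2064,2076] .nil .nil)) (.node [1077,1040,1103,981,1040,1040,1100,978] .nil .nil)) (.node [528,581,565,478,528,580,479,579] .nil (.node [1499,1496,1552,1605,1591,1504,1497,1552] .nil .nil))) (.node [238,237,309,272,272,272,272,272] (.node [] .nil (.node [1296,1358,1235,1284,1296,1355,1296,1296] .nil .nil)) (.node [813,845,784,724,846,784,727,784] .nil (.node [1849,1850,1808,1764,1767,1848,1840,1779] .nil .nil)))) (.node [144,144,144,144,144,167,144,123] (.node [] (.node [] .nil (.node [1109,1229,1107,1168,1168,1168,1168,1168] .nil .nil)) (.node [620,713,715,601,714,710,606,703] .nil (.node [1628,1651,1720,1680,1728,1629,1727,1638] .nil .nil))) (.node [400,400,357,444,358,443,360,441] (.node [] .nil (.node [1365,1362,1424,1485,1363,1484,1366,1480] .nil .nil)) (.node [941,975,912,912,851,971,849,976] .nil (.node [1965,1906,1905,1964,1936,1936,1936,1936] .nil .nil))))) (.node [94,64,80,96,65,80,92,71] (.node [] (.node [] (.node [] (.node [] .nil (.node [2120,2124,2128,2135,2128,2128,2121,2128] .nil .nil)) (.node [1041,1104,1142,1104,1104,1104,1042,1165] .nil .nil)) (.node [558,647,541,646,542,644,592,547] .nil (.node [1616,1636,1616,1616,1616,1565,1666,1665] .nil .nil))) (.node [297,380,379,296,336,298,377,336] (.node [] .nil (.node [1419,1422,1306,1407,1299,1421,1360,1301] .nil .nil)) (.node [878,787,848,909,786,911,907,792] .nil (.node [1872,1905,1906,1836,1872,1872,1872,1872] .nil .nil)))) (.node [208,182,240,208,208,180,239,187] (.node [] (.node [] .nil (.node [1291,1232,1171,1292,1176,1232,1172,1290] .nil .nil)) (.node [720,778,661,720,662,780,775,720] .nil (.node [1789,1761,1695,1790,1696,1788,1697,1744] .nil .nil))) (.node [500,516,415,515,416,464,511,464] (.node [] .nil (.node [1547,1532,1427,1488,1488,1488,1543,1488] .nil .nil)) (.node [1005,1039,976,976,914,1035,919,912] .nil (.node [2000,2024,2000,1973,2000,1978,2019,2000] .nil .nil)))))) (.node [48,60,38,48,48,48,58,48] (.node [] (.node [] (.node [] (.node [] (.node [] .nil (.node [2080,2106,2096,2096,2081,2108,2084,2104] .nil .nil)) (.node [1072,1138,1072,1006,1072,1123,1007,1137] .nil .nil)) (.node [594,506,507,615,614,560,560,513] .nil (.node [1638,1545,1529,1584,1637,1530,1584,1628] .nil .nil))) (.node [265,270,304,344,329,266,342,304] (.node [] .nil (.node [1267,1388,1328,1328,1266,1387,1376,1269] .nil .nil)) (.node [785,757,816,877,758,816,871,767] .nil (.node [1877,1878,1840,1800,1804,1876,1808,1840] .nil .nil)))) (.node [150,176,154,204,176,199,158,176] (.node [] (.node [] .nil (.node [1200,1135,1260,1200,1136,1200,1264,1151] .nil .nil)) (.node [688,633,731,745,634,688,688,744] .nil (.node [1712,1724,1712,1712,1712,1712,1665,1757] .nil .nil))) (.node [432,432,387,479,388,432,478,432] (.node [] .nil (.node [1398,1397,1511,1456,1456,1456,1456,1400] .nil .nil)) (.node [944,882,944,944,1008,944,998,895] .nil (.node [1994,1939,1968,1968,1995,1953,1968,1942] .nil .nil))))) (.node [112,93,94,133,95,112,127,99] (.node [] (.node [] (.node [] .nil (.node [1136,1069,1195,1073,1200,1070,1199,1086] .nil .nil)) (.node [663,624,574,679,571,570,680,624] .nil (.node [1695,1677,1700,1608,1594,1699,1595,1648] .nil .nil))) (.node [328,334,368,412,342,368,329,410] (.node [] .nil (.node [1334,1332,1392,1452,1392,1333,1392,1448] .nil .nil)) (.node [849,939,942,880,823,818,941,830] .nil (.node [1934,1868,1871,1935,1869,1904,1904,1904] .nil .nil)))) (.node [275,212,208,276,240,209,274,216] (.node [] (.node [] .nil (.node [1264,1198,1321,1264,1199,1326,1200,1325] .nil .nil)) (.node [810,752,695,752,752,752,809,696] .nil (.node [1776,1776,1819,1776,1735,1776,1730,1818] .nil .nil))) (.node [460,549,448,496,547,496,452,542] (.node [] .nil (.node [1520,1464,1465,1574,1572,1520,1520,1471] .nil .nil)) (.node [1008,943,1008,1070,944,1073,1060,959] .nil (.node [2032,2032,2032,2009,2052,2039,2012,2010] .nil .nil)))))))) (.node [8,12,8,8,8,8,6,11] (.node [] (.node [] (.node [] (.node [] (.node [] (.node [] (.node [] .nil (.node [2056,2072,2074,2037,2073,2056,2056,2042] .nil .nil)) (.node [1098,1032,968,1032,969,1097,973,1032] .nil .nil)) (.node [520,520,567,470,573,520,471,572] .nil (.node [1598,1583,1601,1503,1486,1544,1544,1595] .nil .nil))) (.node [264,233,303,264,290,239,230,302] (.node [] .nil (.node [1230,1288,1346,1229,1347,1288,1288,1288] .nil .nil)) (.node [736,776,776,835,776,721,716,837] .nil (.node [1839,1800,1758,1840,1759,1838,1764,1800] .nil .nil)))) (.node [115,136,158,136,136,136,154,121] (.node [] (.node [] .nil (.node [1175,1160,1224,1099,1218,1100,1160,1096] .nil .nil)) (.node [597,648,704,593,648,701,648,602] .nil (.node [1720,1646,1622,1718,1719,1624,1716,1632] .nil .nil))) (.node [352,392,438,392,351,437,353,434] (.node [] .nil (.node [1416,1355,1356,1476,1474,1358,1471,1416] .nil .nil)) (.node [904,964,841,904,904,963,904,842] .nil (.node [1896,1960,1959,1895,1928,1928,1952,1897] .nil .nil))))) (.node [72,58,59,86,72,84,60,81] (.node [] (.node [] (.node [] (.node [] .nil (.node [2128,2114,2110,2129,2120,2120,2111,2120] .nil .nil)) (.node [1114,1096,1161,1034,1156,1036,1031,1160] .nil .nil)) (.node [584,533,584,584,584,637,538,535] .nil (.node [1656,1608,1608,1648,1555,1659,1556,1608] .nil .nil))) (.node [368,295,290,369,303,328,291,367] (.node [] .nil (.node [1409,1413,1352,1301,1292,1412,1294,1407] .nil .nil)) (.node [840,840,840,778,840,903,898,840] .nil (.node [1823,1822,1901,1864,1825,1900,1864,1890] .nil .nil)))) (.node [200,174,231,200,173,230,180,200] (.node [] (.node [] .nil (.node [1286,1224,1160,1224,1279,1163,1224,1161] .nil .nil)) (.node [712,712,654,770,771,657,712,761] .nil (.node [1784,1736,1685,1736,1777,1686,1783,1769] .nil .nil))) (.node [411,507,506,410,505,456,456,412] (.node [] .nil (.node [1422,1419,1480,1538,1420,1537,1480,1424] .nil .nil)) (.node [990,968,1032,907,906,1031,909,968] .nil (.node [1967,2016,2015,1992,1966,1992,1992,1969] .nil .nil)))))) (.node [40,40,50,40,40,40,32,40] (.node [] (.node [] (.node [] (.node [] (.node [] .nil (.node [2088,2099,2103,2076,2088,2073,2102,2079] .nil .nil)) (.node [1129,1064,999,1130,1064,1000,1128,1014] .nil .nil)) (.node [515,605,552,500,552,552,600,552] .nil (.node [1622,1540,1628,1522,1627,1523,1626,1529] .nil .nil))) (.node [259,329,296,336,270,260,334,296] (.node [] .nil (.node [1380,1382,1263,1320,1364,1256,1320,1378] .nil .nil)) (.node [808,808,868,750,867,751,808,808] .nil (.node [1870,1790,1796,1844,1832,1869,1792,1832] .nil .nil)))) (.node [168,194,168,168,145,168,168,168] (.node [] (.node [] .nil (.node [1255,1257,1134,1128,1256,1239,1130,1254] .nil .nil)) (.node [721,680,628,738,625,736,624,739] .nil (.node [1750,1751,1660,1652,1704,1704,1704,1747] .nil .nil))) (.node [424,379,380,471,424,381,470,424] (.node [] .nil (.node [1390,1387,1448,1505,1448,1388,1504,1392] .nil .nil)) (.node [936,998,936,876,996,997,882,936] .nil (.node [1929,1928,1987,1960,1960,1960,1983,1931] .nil .nil))))) (.node [104,104,104,104,104,87,123,104] (.node [] (.node [] (.node [] (.node [] .nil (.node [2152,2155,2152,2149,2154,2150,2152,2152] .nil .nil)) (.node [1191,1128,1063,1192,1128,1176,1064,1190] .nil .nil)) (.node [666,561,650,616,616,616,562,616] .nil (.node [1693,1640,1586,1640,1587,1692,1686,1640] .nil .nil))) (.node [360,360,321,401,322,360,400,395] (.node [] .nil (.node [1323,1384,1445,1322,1384,1384,1443,1336] .nil .nil)) (.node [845,813,932,812,931,872,817,872] .nil (.node [1928,1929,1896,1858,1896,1896,1921,1860] .nil .nil)))) (.node [201,204,232,232,266,257,210,232] (.node [] (.node [] .nil (.node [1318,1321,1198,1256,1192,1320,1194,1316] .nil .nil)) (.node [744,686,785,802,687,744,801,688] .nil (.node [1768,1768,1812,1724,1805,1768,1721,1811] .nil .nil))) (.node [488,488,440,537,488,441,536,443] (.node [] .nil (.node [1512,1528,1512,1457,1565,1512,1458,1564] .nil .nil)) (.node [1065,1000,937,1066,938,1064,1052,951] .nil (.node [2024,2000,2024,2046,2024,2005,2041,2024] .nil .nil))))))) (.node [18,24,24,24,30,19,29,24] (.node [] (.node [] (.node [] (.node [] (.node [] (.node [] .nil (.node [2072,2056,2087,2055,2086,2072,2072,2060] .nil .nil)) (.node [1110,988,1108,1048,1048,1048,1048,1048] .nil .nil)) (.node [536,536,487,587,536,582,488,536] .nil (.node [1508,1560,1612,1560,1505,1560,1610,1509] .nil .nil))) (.node [317,251,246,318,280,280,310,247] (.node [] .nil (.node [1242,1240,1304,1304,1366,1243,1363,1304] .nil .nil)) (.node [828,733,792,853,732,855,792,848] .nil (.node [1774,1816,1857,1773,1816,1855,1775,1816] .nil .nil)))) (.node [171,152,178,152,130,152,152,152] (.node [] (.node [] .nil (.node [1238,1176,1114,1239,1232,1128,1115,1237] .nil .nil)) (.node [625,664,664,664,721,664,609,722] .nil (.node [1688,1666,1688,1735,1688,1642,1636,1738] .nil .nil))) (.node [373,455,365,408,408,452,408,408] (.node [] .nil (.node [1432,1432,1493,1370,1432,1371,1432,1491] .nil .nil)) (.node [960,858,920,920,981,859,977,857] .nil (.node [1944,1975,1910,1944,1973,1913,1970,1944] .nil .nil))))) (.node [75,107,106,88,74,105,77,88] (.node [] (.node [] (.node [] (.node [] .nil (.node [2140,2136,2136,2136,2129,2142,2131,2136] .nil .nil)) (.node [1173,1112,1049,1174,1050,1172,1112,1112] .nil .nil)) (.node [565,655,600,547,600,652,552,646] .nil (.node [1675,1593,1573,1674,1624,1672,1624,1581] .nil .nil))) (.node [305,344,388,304,387,306,385,344] (.node [] .nil (.node [1368,1430,1421,1368,1324,1306,1429,1308] .nil .nil)) (.node [892,918,856,856,795,856,793,919] .nil (.node [1915,1918,1880,1880,1842,1911,1880,1880] .nil .nil)))) (.node [248,191,187,249,216,188,247,240] (.node [] (.node [] .nil (.node [1178,1304,1240,1177,1303,1179,1300,1240] .nil .nil)) (.node [762,670,728,669,788,786,728,675] .nil (.node [1752,1752,1705,1795,1709,1706,1752,1752] .nil .nil))) (.node [472,472,518,426,425,522,472,472] (.node [] .nil (.node [1439,1552,1496,1496,1536,1447,1437,1496] .nil .nil)) (.node [922,926,984,1033,984,1044,923,984] .nil (.node [1981,2008,2031,2008,1991,2028,2008,2008] .nil .nil)))))) (.node [68,71,56,56,45,56,56,64] (.node [] (.node [] (.node [] (.node [] (.node [] .nil (.node [2089,2112,2104,2104,2090,2115,2104,2096] .nil .nil)) (.node [1144,1146,1019,1014,1145,1016,1143,1130] .nil .nil)) (.node [605,515,529,622,568,568,619,568] .nil (.node [1540,1622,1646,1537,1645,1538,1644,1542] .nil .nil))) (.node [351,312,312,274,352,343,276,350] (.node [] .nil (.node [1274,1336,1395,1273,1336,1336,1393,1384] .nil .nil)) (.node [824,884,763,824,764,886,824,775] .nil (.node [1887,1888,1848,1806,1848,1808,1886,1821] .nil .nil)))) (.node [157,210,184,158,213,184,204,165] (.node [] (.node [] .nil (.node [1270,1143,1150,1208,1272,1208,1146,1268] .nil .nil)) (.node [753,696,642,696,696,696,696,752] .nil (.node [1672,1698,1680,1765,1766,1675,1762,1684] .nil .nil))) (.node [398,440,488,440,440,396,487,399] (.node [] .nil (.node [1464,1520,1406,1455,1518,1464,1464,1410] .nil .nil)) (.node [889,952,917,952,1015,952,952,1001] .nil (.node [2002,1976,2004,1946,1976,1951,1999,1976] .nil .nil))))) (.node [120,120,120,139,101,142,120,135] (.node [] (.node [] (.node [] .nil (.node [1080,1210,1144,1079,1209,1081,1206,1193] .nil .nil)) (.node [632,579,669,632,632,687,632,581] .nil (.node [1608,1656,1706,1695,1605,1705,1606,1656] .nil .nil))) (.node [420,421,376,333,376,376,376,335] (.node [] .nil (.node [1342,1341,1457,1400,1400,1400,1344,1456] .nil .nil)) (.node [853,888,951,828,827,950,888,937] .nil (.node [1945,1876,1912,1912,1946,1878,1942,1912] .nil .nil)))) (.node [216,221,248,283,248,217,281,275] (.node [] (.node [] .nil (.node [1333,1207,1215,1335,1208,1334,1211,1331] .nil .nil)) (.node [707,760,820,760,701,760,814,711] .nil (.node [1736,1784,1784,1784,1820,1737,1827,1813] .nil .nil))) (.node [467,504,504,455,556,555,504,504] (.node [] .nil (.node [1528,1512,1528,1471,1582,1528,1476,1574] .nil .nil)) (.node [1081,1082,955,951,1016,1080,1016,1066] .nil (.node [2059,2040,2018,2040,2040,2040,2040,2023] .nil .nil))))))))) (.node [4,7,4,4,3,6,4,4] (.node [] (.node [] (.node [] (.node [] (.node [] (.node [] (.node [] (.node [] .nil (.node [2052,2052,2052,2052,2032,2070,2034,2033] .nil .nil)) (.node [1028,1028,1028,1028,965,1092,966,1091] .nil .nil)) (.node [553,464,465,569,466,516,566,516] .nil (.node [1592,1576,1596,1482,1595,1483,1594,1486] .nil .nil))) (.node [226,292,260,298,227,296,260,260] (.node [] .nil (.node [1284,1345,1222,1296,1227,1343,1284,1284] .nil .nil)) (.node [734,714,834,772,713,833,717,821] .nil (.node [1796,1753,1832,1796,1796,1835,1754,1796] .nil .nil)))) (.node [132,111,132,155,132,132,148,117] (.node [] (.node [] .nil (.node [1171,1156,1219,1156,1096,1156,1093,1218] .nil .nil)) (.node [611,700,591,699,644,592,697,598] .nil (.node [1668,1619,1620,1714,1668,1668,1621,1668] .nil .nil))) (.node [388,388,344,388,432,346,430,388] (.node [] .nil (.node [1468,1472,1412,1364,1412,1352,1412,1466] .nil .nil)) (.node [900,961,835,900,957,842,836,963] .nil (.node [1924,1956,1887,1924,1924,1889,1954,1899] .nil .nil))))) (.node [56,83,82,68,55,68,68,77] (.node [] (.node [] (.node [] (.node [] .nil (.node [2105,2108,2116,2125,2116,2106,2116,2121] .nil .nil)) (.node [1092,1092,1092,1092,1154,1028,1092,1155] .nil .nil)) (.node [580,634,617,527,633,528,580,631] .nil (.node [1549,1604,1604,1651,1604,1550,1655,1551] .nil .nil))) (.node [363,324,287,364,324,288,362,324] (.node [] .nil (.node [1404,1348,1348,1348,1348,1289,1405,1348] .nil .nil)) (.node [836,897,774,836,893,775,900,886] .nil (.node [1897,1898,1860,1819,1860,1860,1821,1896] .nil .nil)))) (.node [196,223,226,196,170,225,196,196] (.node [] (.node [] .nil (.node [1157,1220,1233,1282,1162,1158,1280,1220] .nil .nil)) (.node [672,767,708,708,652,708,708,757] .nil (.node [1682,1732,1732,1684,1778,1687,1732,1765] .nil .nil))) (.node [416,502,405,452,500,408,496,452] (.node [] .nil (.node [1476,1458,1476,1416,1533,1418,1528,1476] .nil .nil)) (.node [964,904,901,1027,964,1024,964,902] .nil (.node [1988,1988,1988,1961,2013,1988,1962,2012] .nil .nil)))))) (.node [28,36,36,46,29,44,30,42] (.node [] (.node [] (.node [] (.node [] (.node [] .nil (.node [2067,2097,2084,2084,2068,2084,2096,2084] .nil .nil)) (.node [1060,996,1060,1121,998,1125,1008,1060] .nil .nil)) (.node [499,495,601,602,497,599,501,593] .nil (.node [1572,1518,1519,1623,1520,1621,1572,1526] .nil .nil))) (.node [256,260,292,331,257,329,292,292] (.node [] .nil (.node [1376,1379,1261,1316,1254,1378,1267,1256] .nil .nil)) (.node [804,746,804,864,750,747,804,804] .nil (.node [1786,1828,1828,1828,1828,1866,1828,1787] .nil .nil)))) (.node [192,188,139,164,140,191,164,183] (.node [] (.node [] .nil (.node [1188,1124,1188,1251,1125,1126,1250,1188] .nil .nil)) (.node [714,734,676,621,620,735,623,729] .nil (.node [1749,1726,1648,1700,1649,1748,1650,1700] .nil .nil))) (.node [376,469,468,375,420,420,420,377] (.node [] .nil (.node [1501,1444,1444,1382,1503,1383,1444,1500] .nil .nil)) (.node [932,874,872,932,993,932,879,932] .nil (.node [1956,1924,1925,1985,1956,1926,1984,1932] .nil .nil))))) (.node [85,100,119,83,100,100,100,113] (.node [] (.node [] (.node [] (.node [] .nil (.node [2148,2144,2148,2148,2148,2148,2148,2151] .nil .nil)) (.node [1124,1188,1124,1124,1059,1061,1186,1124] .nil .nil)) (.node [562,557,668,612,612,559,666,564] .nil (.node [1636,1616,1636,1685,1636,1582,1688,1676] .nil .nil))) (.node [396,356,356,356,318,398,391,320] (.node [] .nil (.node [1320,1442,1380,1380,1423,1318,1380,1437] .nil .nil)) (.node [928,868,808,868,927,809,868,868] .nil (.node [1853,1892,1892,1892,1920,1892,1866,1854] .nil .nil)))) (.node [198,228,206,262,199,228,228,228] (.node [] (.node [] .nil (.node [1314,1252,1189,1252,1252,1313,1252,1252] .nil .nil)) (.node [740,740,790,740,740,740,682,799] .nil (.node [1807,1764,1717,1808,1718,1806,1800,1731] .nil .nil))) (.node [484,484,437,534,527,438,484,532] (.node [] .nil (.node [1560,1508,1508,1508,1451,1508,1562,1454] .nil .nil)) (.node [996,1060,996,934,936,1059,943,996] .nil (.node [2020,1996,1997,2042,1998,2020,2001,2037] .nil .nil))))))) (.node [20,20,26,15,25,20,20,16] (.node [] (.node [] (.node [] (.node [] (.node [] (.node [] .nil (.node [2048,2083,2068,2049,2084,2051,2081,2068] .nil .nil)) (.node [983,986,1044,1095,1105,984,1044,1044] .nil .nil)) (.node [532,532,481,583,578,482,582,484] .nil (.node [1606,1556,1556,1595,1500,1556,1608,1503] .nil .nil))) (.node [313,276,276,240,314,242,312,249] (.node [] .nil (.node [1239,1363,1300,1238,1362,1255,1240,1359] .nil .nil)) (.node [821,729,788,788,728,850,788,734] .nil (.node [1854,1812,1768,1812,1846,1812,1769,1853] .nil .nil)))) (.node [148,126,148,173,148,169,132,148] (.node [] (.node [] .nil (.node [1233,1172,1111,1234,1115,1112,1232,1172] .nil .nil)) (.node [622,606,718,605,717,660,713,660] .nil (.node [1632,1653,1638,1732,1733,1635,1684,1720] .nil .nil))) (.node [448,450,369,362,449,404,364,447] (.node [] .nil (.node [1489,1477,1367,1372,1428,1428,1487,1428] .nil .nil)) (.node [980,916,853,916,854,979,916,973] .nil (.node [1909,1971,1970,1908,1969,1922,1910,1966] .nil .nil))))) (.node [84,69,70,101,99,72,84,95] (.node [] (.node [] (.node [] (.node [] .nil (.node [2132,2132,2123,2132,2132,2138,2132,2127] .nil .nil)) (.node [1169,1046,1048,1167,1108,1108,1108,1108] .nil .nil)) (.node [645,544,562,651,596,545,650,550] .nil (.node [1575,1569,1668,1669,1620,1620,1571,1620] .nil .nil))) (.node [340,300,301,382,381,340,340,340] (.node [] .nil (.node [1423,1425,1308,1412,1320,1301,1364,1421] .nil .nil)) (.node [887,852,799,914,852,852,796,790] .nil (.node [1910,1912,1876,1838,1911,1840,1909,1876] .nil .nil)))) (.node [245,240,182,212,212,183,244,191] (.node [] (.node [] .nil (.node [1297,1174,1236,1236,1236,1295,1236,1236] .nil .nil)) (.node [755,665,666,784,724,724,668,724] .nil (.node [1793,1772,1699,1748,1748,1700,1748,1748] .nil .nil))) (.node [468,519,420,468,468,468,468,422] (.node [] .nil (.node [1550,1492,1431,1541,1435,1549,1492,1433] .nil .nil)) (.node [916,980,1015,980,917,1042,980,1038] .nil (.node [2028,2004,1976,2004,2004,1981,2023,2004] .nil .nil)))))) (.node [63,65,52,41,64,43,62,45] (.node [] (.node [] (.node [] (.node [] (.node [] .nil (.node [2112,2089,2086,2113,2087,2111,2100,2093] .nil .nil)) (.node [1076,1076,1076,1135,1011,1076,1140,1026] .nil .nil)) (.node [514,510,618,564,564,512,564,612] .nil (.node [1532,1547,1534,1641,1588,1588,1635,1588] .nil .nil))) (.node [269,342,308,308,334,279,270,347] (.node [] .nil (.node [1271,1392,1332,1332,1332,1269,1332,1387] .nil .nil)) (.node [820,820,760,882,761,820,876,771] .nil (.node [1883,1804,1844,1832,1878,1881,1810,1844] .nil .nil)))) (.node [180,156,209,180,155,208,200,161] (.node [] (.node [] .nil (.node [1141,1204,1165,1266,1204,1204,1253,1142] .nil .nil)) (.node [692,745,749,638,692,692,692,748] .nil (.node [1762,1696,1669,1759,1761,1716,1672,1716] .nil .nil))) (.node [481,436,436,436,476,391,483,394] (.node [] .nil (.node [1460,1460,1404,1514,1460,1403,1515,1460] .nil .nil)) (.node [914,1009,1012,887,1005,948,899,885] .nil (.node [1997,1941,1972,1999,1942,1972,1946,1995] .nil .nil))))) (.node [116,116,116,116,97,137,116,103] (.node [] (.node [] (.node [] .nil (.node [1140,1140,1140,1198,1075,1203,1076,1202] .nil .nil)) (.node [628,628,680,628,575,683,574,684] .nil (.node [1703,1683,1598,1704,1599,1652,1652,1697] .nil .nil))) (.node [417,330,407,337,418,332,414,372] (.node [] .nil (.node [1396,1337,1450,1396,1396,1446,1338,1396] .nil .nil)) (.node [884,824,821,947,822,946,884,834] .nil (.node [1874,1908,1908,1940,1908,1885,1875,1938] .nil .nil)))) (.node [279,274,211,244,244,269,212,278] (.node [] (.node [] .nil (.node [1329,1205,1213,1268,1331,1268,1317,1208] .nil .nil)) (.node [706,756,815,698,814,756,701,756] .nil (.node [1734,1825,1824,1733,1822,1780,1780,1809] .nil .nil))) (.node [464,553,451,552,452,500,547,500] (.node [] .nil (.node [1524,1578,1468,1524,1524,1469,1524,1570] .nil .nil)) (.node [1012,1074,948,1012,1071,1012,963,949] .nil (.node [2036,2055,2036,2015,2036,2036,2036,2019] .nil .nil)))))))) (.node [12,8,12,16,12,12,9,15] (.node [] (.node [] (.node [] (.node [] (.node [] (.node [] (.node [] .nil (.node [2060,2042,2078,2041,2077,2060,2046,2072] .nil .nil)) (.node [1063,1036,1101,975,1036,1096,972,1100] .nil .nil)) (.node [476,524,578,557,481,474,577,477] .nil (.node [1548,1548,1603,1490,1548,1548,1491,1548] .nil .nil))) (.node [268,302,307,236,294,243,268,233] (.node [] .nil (.node [1351,1353,1292,1232,1352,1292,1234,1350] .nil .nil)) (.node [780,839,719,780,780,720,842,780] .nil (.node [1843,1844,1804,1761,1840,1842,1767,1804] .nil .nil)))) (.node [165,162,118,119,164,140,140,157] (.node [] (.node [] .nil (.node [1101,1164,1191,1164,1164,1225,1102,1226] .nil .nil)) (.node [617,709,652,598,708,600,652,699] .nil (.node [1676,1665,1676,1721,1676,1625,1724,1636] .nil .nil))) (.node [356,396,441,396,355,440,434,357] (.node [] .nil (.node [1361,1359,1420,1420,1480,1377,1420,1363] .nil .nil)) (.node [933,970,908,908,908,846,971,908] .nil (.node [1932,1899,1900,1962,1932,1901,1961,1956] .nil .nil))))) (.node [90,62,76,76,92,76,65,76] (.node [] (.node [] (.node [] (.node [] .nil (.node [2114,2128,2124,2124,2124,2124,2115,2124] .nil .nil)) (.node [1127,1100,1163,1039,1100,1160,1040,1036] .nil .nil)) (.node [588,641,588,588,537,588,639,539] .nil (.node [1612,1612,1560,1663,1561,1612,1662,1563] .nil .nil))) (.node [374,293,366,299,332,372,332,332] (.node [] .nil (.node [1295,1293,1416,1356,1415,1297,1411,1356] .nil .nil)) (.node [871,782,801,906,783,905,785,844] .nil (.node [1902,1904,1834,1868,1830,1868,1868,1868] .nil .nil)))) (.node [175,232,204,176,235,227,184,204] (.node [] (.node [] .nil (.node [1167,1166,1287,1169,1285,1228,1228,1228] .nil .nil)) (.node [677,716,716,774,716,658,776,765] .nil (.node [1740,1740,1786,1694,1740,1782,1740,1691] .nil .nil))) (.node [496,513,412,460,511,460,416,506] (.node [] .nil (.node [1425,1423,1484,1542,1442,1424,1484,1537] .nil .nil)) (.node [999,972,1037,911,972,909,1036,915] .nil (.node [1996,2020,1969,2019,1970,1996,1973,2015] .nil .nil)))))) (.node [35,44,44,55,44,36,44,51] (.node [] (.node [] (.node [] (.node [] (.node [] .nil (.node [2092,2079,2105,2092,2092,2077,2092,2099] .nil .nil)) (.node [1068,1006,1002,1134,1010,1119,1003,1133] .nil .nil)) (.node [518,556,556,556,504,609,556,556] .nil (.node [1580,1580,1634,1526,1633,1630,1531,1623] .nil .nil))) (.node [300,340,262,271,338,300,300,300] (.node [] .nil (.node [1324,1386,1378,1265,1368,1261,1385,1263] .nil .nil)) (.node [783,754,812,872,871,812,758,812] .nil (.node [1836,1797,1836,1872,1798,1836,1836,1836] .nil .nil)))) (.node [199,172,147,197,198,150,172,172] (.node [] (.node [] .nil (.node [1132,1131,1196,1196,1196,1259,1243,1147] .nil .nil)) (.node [684,684,739,684,629,741,684,628] .nil (.node [1708,1660,1751,1708,1708,1708,1708,1754] .nil .nil))) (.node [474,428,428,457,384,476,428,386] (.node [] .nil (.node [1394,1452,1510,1392,1509,1393,1452,1505] .nil .nil)) (.node [940,881,878,1004,879,1003,993,891] .nil (.node [1991,1964,1935,1936,1981,1964,1964,1964] .nil .nil))))) (.node [108,89,90,129,127,108,95,108] (.node [] (.node [] (.node [] (.node [] .nil (.node [2156,2154,2156,2157,2155,2156,2156,2156] .nil .nil)) (.node [1196,1066,1070,1132,1132,1195,1180,1082] .nil .nil)) (.node [656,675,620,566,676,674,569,670] .nil (.node [1594,1669,1696,1591,1695,1644,1592,1644] .nil .nil))) (.node [405,407,330,324,406,326,404,364] (.node [] .nil (.node [1331,1328,1388,1449,1329,1448,1438,1333] .nil .nil)) (.node [876,876,814,936,815,935,820,876] .nil (.node [1862,1861,1932,1900,1900,1864,1931,1925] .nil .nil)))) (.node [236,236,236,268,236,214,236,205] (.node [] (.node [] .nil (.node [1322,1194,1200,1323,1195,1260,1321,1211] .nil .nil)) (.node [748,802,806,691,748,748,805,692] .nil (.node [1814,1748,1725,1815,1772,1726,1772,1772] .nil .nil))) (.node [447,543,542,446,541,492,492,448] (.node [] .nil (.node [1462,1516,1568,1516,1516,1516,1516,1461] .nil .nil)) (.node [1004,1070,1066,940,1004,1069,1056,955] .nil (.node [2004,2028,2049,2028,2028,2008,2045,2028] .nil .nil))))))) (.node [36,28,21,37,22,35,23,33] (.node [] (.node [] (.node [] (.node [] (.node [] (.node [] .nil (.node [2076,2076,2076,2088,2070,2058,2091,2064] .nil .nil)) (.node [1116,1052,990,1117,991,1115,1000,1052] .nil .nil)) (.node [540,490,540,540,590,491,540,589] .nil (.node [1564,1574,1564,1511,1615,1564,1564,1512] .nil .nil))) (.node [321,284,284,284,249,284,320,314] (.node [] .nil (.node [1308,1370,1364,1308,1263,1245,1308,1368] .nil .nil)) (.node [837,796,741,858,796,739,852,736] .nil (.node [1777,1820,1820,1861,1784,1778,1859,1847] .nil .nil)))) (.node [156,180,183,135,133,182,174,139] (.node [] (.node [] .nil (.node [1243,1117,1121,1180,1180,1242,1132,1180] .nil .nil)) (.node [700,611,612,727,668,614,724,618] .nil (.node [1742,1692,1639,1692,1692,1640,1741,1692] .nil .nil))) (.node [369,461,460,368,459,412,370,456] (.node [] .nil (.node [1374,1436,1436,1436,1494,1436,1375,1495] .nil .nil)) (.node [924,982,985,867,864,924,924,924] .nil (.node [1948,1979,1915,1978,1916,1973,1948,1948] .nil .nil))))) (.node [107,75,92,110,76,109,80,92] (.node [] (.node [] (.node [] (.node [] .nil (.node [2136,2140,2146,2140,2135,2145,2137,2140] .nil .nil)) (.node [1052,1116,1098,1179,1053,1177,1065,1116] .nil .nil)) (.node [654,604,604,550,659,551,604,651] .nil (.node [1680,1596,1576,1628,1679,1577,1678,1584] .nil .nil))) (.node [348,382,348,309,389,348,348,348] (.node [] .nil (.node [1434,1372,1310,1428,1313,1372,1433,1372] .nil .nil)) (.node [860,800,905,921,860,801,860,860] .nil (.node [1920,1884,1845,1921,1853,1907,1858,1846] .nil .nil)))) (.node [252,247,190,220,220,220,191,251] (.node [] (.node [] .nil (.node [1244,1307,1299,1181,1306,1197,1244,1182] .nil .nil)) (.node [768,674,732,673,792,675,732,786] .nil (.node [1756,1710,1756,1756,1756,1798,1711,1756] .nil .nil))) (.node [524,476,476,508,436,428,526,431] (.node [] .nil (.node [1553,1500,1500,1440,1556,1441,1555,1444] .nil .nil)) (.node [1047,1048,1046,927,988,988,988,988] .nil (.node [2012,2012,2012,1987,2034,2012,2032,1988] .nil .nil)))))) (.node [60,48,49,73,60,60,72,60] (.node [] (.node [] (.node [] (.node [] (.node [] .nil (.node [2095,2116,2108,2108,2108,2096,2108,2115] .nil .nil)) (.node [1084,1150,1143,1018,1149,1084,1019,1148] .nil .nil)) (.node [572,572,615,519,626,572,572,520] .nil (.node [1651,1628,1540,1549,1650,1541,1649,1545] .nil .nil))) (.node [278,349,316,316,316,347,286,279] (.node [] .nil (.node [1397,1398,1340,1279,1340,1340,1340,1281] .nil .nil)) (.node [792,769,891,888,768,890,828,878] .nil (.node [1810,1809,1891,1833,1890,1852,1883,1825] .nil .nil)))) (.node [217,164,161,218,162,216,188,209] (.node [] (.node [] .nil (.node [1212,1276,1267,1153,1148,1275,1261,1149] .nil .nil)) (.node [668,644,645,759,700,647,755,653] .nil (.node [1724,1712,1724,1768,1724,1724,1676,1771] .nil .nil))) (.node [444,491,444,400,444,490,401,489] (.node [] .nil (.node [1412,1525,1524,1423,1468,1409,1468,1517] .nil .nil)) (.node [919,1017,1021,956,899,956,1005,892] .nil (.node [1951,1980,2007,1949,1963,2002,1980,1980] .nil .nil))))) (.node [124,146,105,145,124,106,124,124] (.node [] (.node [] (.node [] .nil (.node [1148,1213,1205,1083,1212,1148,1197,1084] .nil .nil)) (.node [636,691,636,686,583,636,689,585] .nil (.node [1660,1708,1704,1609,1660,1660,1660,1707] .nil .nil))) (.node [337,336,424,417,380,339,423,380] (.node [] .nil (.node [1348,1404,1460,1404,1404,1347,1461,1404] .nil .nil)) (.node [856,953,957,892,835,892,830,956] .nil (.node [1916,1950,1879,1894,1948,1882,1916,1916] .nil .nil)))) (.node [220,281,252,252,252,252,221,286] (.node [] (.node [] .nil (.node [1276,1212,1331,1276,1213,1338,1325,1215] .nil .nil)) (.node [764,822,703,704,824,819,764,715] .nil (.node [1829,1802,1743,1830,1788,1744,1788,1788] .nil .nil))) (.node [557,562,544,476,508,457,561,462] (.node [] .nil (.node [1588,1488,1475,1587,1532,1532,1581,1532] .nil .nil)) (.node [1020,955,1082,959,1020,1086,1020,1070] .nil (.node [2044,2044,2044,2061,2022,2064,2027,2058] .nil .nil)))))))))) (.node [2,2,1,3,2,2,2,2] (.node [] (.node [] (.node [] (.node [] (.node [] (.node [] (.node [] (.node [] (.node [] .nil (.node [2069,2030,2029,2050,2050,2066,2050,2050] .nil .nil)) (.node [1026,1026,1026,1085,962,1026,1090,1076] .nil .nil)) (.node [564,462,550,514,514,463,514,562] .nil (.node [1483,1573,1593,1480,1538,1592,1538,1485] .nil .nil))) (.node [258,290,295,258,233,258,225,294] (.node [] .nil (.node [1221,1344,1343,1220,1282,1222,1341,1282] .nil .nil)) (.node [770,829,710,712,831,715,770,819] .nil (.node [1751,1750,1794,1825,1794,1794,1794,1833] .nil .nil)))) (.node [147,130,153,109,152,110,130,130] (.node [] (.node [] .nil (.node [1154,1154,1154,1214,1092,1090,1154,1216] .nil .nil)) (.node [642,642,696,590,642,642,642,695] .nil (.node [1666,1688,1666,1666,1666,1617,1616,1713] .nil .nil))) (.node [429,386,386,413,343,431,345,428] (.node [] .nil (.node [1410,1471,1351,1399,1469,1410,1355,1464] .nil .nil)) (.node [898,898,898,834,898,962,840,947] .nil (.node [1886,1955,1954,1885,1922,1940,1887,1952] .nil .nil))))) (.node [66,81,53,66,66,78,66,58] (.node [] (.node [] (.node [] (.node [] .nil (.node [2124,2120,2102,2114,2114,2114,2103,2114] .nil .nil)) (.node [1090,1090,1090,1149,1025,1154,1026,1153] .nil .nil)) (.node [578,578,524,631,532,525,630,527] .nil (.node [1545,1638,1653,1551,1654,1546,1602,1651] .nil .nil))) (.node [322,322,283,322,360,285,358,354] (.node [] .nil (.node [1346,1346,1288,1287,1403,1346,1346,1346] .nil .nil)) (.node [834,775,772,898,773,897,778,884] .nil (.node [1895,1858,1818,1896,1826,1858,1884,1819] .nil .nil)))) (.node [194,168,194,222,169,194,194,194] (.node [] (.node [] .nil (.node [1231,1218,1279,1218,1160,1218,1218,1156] .nil .nil)) (.node [756,706,706,650,766,706,651,706] .nil (.node [1730,1730,1777,1730,1685,1681,1776,1763] .nil .nil))) (.node [497,404,414,450,499,450,407,494] (.node [] .nil (.node [1474,1414,1415,1531,1416,1474,1526,1474] .nil .nil)) (.node [962,962,962,897,1026,898,1025,1011] .nil (.node [1986,1958,1986,1986,2005,1986,1986,1986] .nil .nil)))))) (.node [26,34,34,34,42,34,34,29] (.node [] (.node [] (.node [] (.node [] (.node [] .nil (.node [2097,2067,2065,2098,2066,2082,2093,2082] .nil .nil)) (.node [1058,1119,994,1123,1058,1006,995,1122] .nil .nil)) (.node [498,599,598,546,546,495,546,591] .nil (.node [1570,1621,1517,1570,1570,1518,1619,1524] .nil .nil))) (.node [290,258,328,323,264,290,255,327] (.node [] .nil (.node [1252,1314,1314,1314,1314,1375,1314,1314] .nil .nil)) (.node [802,748,862,744,802,802,861,745] .nil (.node [1866,1826,1782,1826,1858,1786,1853,1783] .nil .nil)))) (.node [189,140,138,162,188,162,162,181] (.node [] (.node [] .nil (.node [1186,1250,1186,1186,1123,1186,1124,1248] .nil .nil)) (.node [710,732,674,618,733,620,674,727] .nil (.node [1646,1720,1651,1698,1746,1647,1745,1653] .nil .nil))) (.node [465,371,454,418,372,418,463,418] (.node [] .nil (.node [1382,1380,1442,1501,1484,1381,1442,1497] .nil .nil)) (.node [906,930,991,871,990,989,877,930] .nil (.node [1954,1984,1922,1954,1954,1970,1924,1982] .nil .nil))))) (.node [98,117,98,82,98,98,98,111] (.node [] (.node [] (.node [] (.node [] .nil (.node [2146,2146,2140,2150,2141,2149,2143,2146] .nil .nil)) (.node [1122,1181,1057,1185,1122,1071,1122,1058] .nil .nil)) (.node [561,666,665,577,610,610,557,610] .nil (.node [1687,1634,1580,1581,1686,1682,1587,1674] .nil .nil))) (.node [354,354,313,354,395,315,393,322] (.node [] .nil (.node [1437,1440,1324,1378,1421,1316,1439,1320] .nil .nil)) (.node [806,923,866,866,866,866,926,807] .nil (.node [1850,1849,1926,1890,1852,1925,1914,1864] .nil .nil)))) (.node [260,256,196,261,197,259,226,226] (.node [] (.node [] .nil (.node [1250,1186,1250,1312,1187,1250,1188,1311] .nil .nil)) (.node [779,797,738,680,738,795,679,798] .nil (.node [1716,1745,1727,1801,1803,1762,1720,1762] .nil .nil))) (.node [482,482,434,533,435,532,441,438] (.node [] .nil (.node [1506,1506,1449,1506,1506,1561,1554,1453] .nil .nil)) (.node [971,1054,1058,994,994,941,933,1057] .nil (.node [2038,2018,2040,1995,2018,2018,2018,1999] .nil .nil))))))) (.node [24,18,13,18,23,14,22,18] (.node [] (.node [] (.node [] (.node [] (.node [] (.node [] .nil (.node [2083,2048,2046,2066,2082,2050,2078,2066] .nil .nil)) (.node [979,1042,1079,1042,1042,980,1104,1102] .nil .nil)) (.node [530,576,530,530,530,530,530,480] .nil (.node [1554,1554,1498,1554,1554,1607,1506,1502] .nil .nil))) (.node [311,244,239,312,274,303,240,310] (.node [] .nil (.node [1237,1298,1286,1359,1349,1253,1298,1238] .nil .nil)) (.node [817,727,786,726,848,728,845,732] .nil (.node [1852,1767,1810,1792,1850,1810,1844,1781] .nil .nil)))) (.node [146,124,125,170,146,127,146,146] (.node [] (.node [] .nil (.node [1229,1109,1110,1230,1170,1170,1170,1170] .nil .nil)) (.node [621,658,658,714,603,716,608,705] .nil (.node [1732,1682,1630,1632,1731,1634,1682,1718] .nil .nil))) (.node [446,402,361,447,402,402,402,362] (.node [] .nil (.node [1485,1473,1487,1365,1426,1486,1367,1483] .nil .nil)) (.node [948,977,914,852,976,914,858,851] .nil (.node [1907,1938,1938,1966,1938,1920,1938,1908] .nil .nil))))) (.node [82,99,68,98,69,82,82,93] (.node [] (.node [] (.node [] (.node [] .nil (.node [2122,2130,2138,2121,2137,2123,2135,2125] .nil .nil)) (.node [1166,1167,1106,1043,1159,1106,1106,1106] .nil .nil)) (.node [560,542,543,649,647,594,594,549] .nil (.node [1618,1643,1618,1568,1667,1618,1618,1567] .nil .nil))) (.node [338,381,298,338,300,379,338,338] (.node [] .nil (.node [1301,1424,1362,1409,1300,1423,1303,1419] .nil .nil)) (.node [883,789,850,850,911,788,913,794] .nil (.node [1908,1874,1837,1909,1874,1846,1838,1907] .nil .nil)))) (.node [181,184,210,210,241,210,232,189] (.node [] (.node [] .nil (.node [1293,1295,1234,1172,1294,1174,1292,1234] .nil .nil)) (.node [681,722,722,722,781,722,722,664] .nil (.node [1697,1766,1702,1791,1698,1746,1789,1703] .nil .nil))) (.node [502,416,417,517,516,419,513,466] (.node [] .nil (.node [1490,1429,1539,1548,1446,1490,1430,1490] .nil .nil)) (.node [1013,978,1041,918,978,978,915,1040] .nil (.node [1976,2002,2026,1974,2002,1980,2021,2002] .nil .nil)))))) (.node [61,50,40,62,50,50,41,50] (.node [] (.node [] (.node [] (.node [] (.node [] .nil (.node [2109,2098,2098,2082,2098,2098,2107,2098] .nil .nil)) (.node [1074,1012,1009,1139,1133,1074,1024,1010] .nil .nil)) (.node [612,508,596,562,562,509,616,514] .nil (.node [1586,1586,1640,1533,1531,1639,1633,1586] .nil .nil))) (.node [267,306,346,266,306,344,277,306] (.node [] .nil (.node [1387,1390,1275,1330,1330,1267,1389,1271] .nil .nil)) (.node [787,878,881,818,759,880,873,769] .nil (.node [1879,1881,1842,1802,1880,1804,1842,1842] .nil .nil)))) (.node [206,178,152,207,153,178,178,178] (.node [] (.node [] .nil (.node [1202,1202,1202,1261,1139,1265,1153,1140] .nil .nil)) (.node [690,635,690,690,747,640,637,690] .nil (.node [1714,1714,1759,1668,1758,1714,1670,1714] .nil .nil))) (.node [391,434,482,434,390,481,396,392] (.node [] .nil (.node [1458,1476,1458,1401,1513,1402,1512,1458] .nil .nil)) (.node [946,886,883,1011,1003,884,1010,897] .nil (.node [1970,1998,1940,1970,1996,1954,1944,1993] .nil .nil))))) (.node [114,114,114,95,135,97,129,101] (.node [] (.node [] (.node [] .nil (.node [1138,1072,1138,1199,1138,1187,1073,1201] .nil .nil)) (.node [626,626,671,626,572,682,626,573] .nil (.node [1702,1679,1595,1650,1596,1650,1700,1601] .nil .nil))) (.node [330,417,416,329,415,331,412,370] (.node [] .nil (.node [1452,1394,1394,1334,1454,1335,1394,1451] .nil .nil)) (.node [882,944,882,820,943,882,936,832] .nil (.node [1937,1936,1872,1906,1906,1906,1906,1906] .nil .nil)))) (.node [277,242,242,209,242,276,267,218] (.node [] (.node [] .nil (.node [1205,1329,1266,1204,1328,1266,1315,1206] .nil .nil)) (.node [723,812,754,697,811,754,699,754] .nil (.node [1731,1778,1778,1822,1732,1820,1778,1807] .nil .nil))) (.node [546,550,462,498,498,449,498,544] (.node [] .nil (.node [1571,1466,1522,1576,1522,1467,1575,1472] .nil .nil)) (.node [1010,949,945,1075,1068,1010,946,1074] .nil (.node [2034,2034,2034,2034,2012,2054,2052,2013] .nil .nil)))))))) (.node [10,10,14,7,10,13,10,10] (.node [] (.node [] (.node [] (.node [] (.node [] (.node [] (.node [] .nil (.node [2058,2058,2058,2073,2039,2076,2058,2044] .nil .nil)) (.node [1054,971,1034,1096,1034,975,970,1099] .nil .nil)) (.node [522,522,571,473,574,472,575,522] .nil (.node [1487,1585,1600,1494,1546,1602,1489,1597] .nil .nil))) (.node [231,235,266,306,232,304,241,266] (.node [] .nil (.node [1349,1290,1231,1350,1237,1290,1290,1232] .nil .nil)) (.node [778,720,717,840,718,839,834,778] .nil (.node [1841,1788,1760,1842,1802,1761,1802,1802] .nil .nil)))) (.node [138,118,162,117,161,138,138,155] (.node [] (.node [] .nil (.node [1097,1162,1177,1162,1220,1098,1225,1162] .nil .nil)) (.node [698,595,616,706,650,650,596,650] .nil (.node [1723,1674,1623,1624,1722,1718,1674,1634] .nil .nil))) (.node [437,394,394,394,431,352,394,436] (.node [] .nil (.node [1418,1402,1418,1358,1478,1476,1418,1418] .nil .nil)) (.node [930,906,969,844,968,967,847,906] .nil (.node [1930,1961,1897,1930,1930,1930,1899,1959] .nil .nil))))) (.node [62,90,89,61,88,74,63,74] (.node [] (.node [] (.node [] (.node [] .nil (.node [2130,2122,2122,2111,2131,2113,2129,2117] .nil .nil)) (.node [1032,1098,1116,1098,1033,1162,1038,1098] .nil .nil)) (.node [586,534,586,586,638,535,586,637] .nil (.node [1562,1610,1662,1610,1559,1661,1560,1610] .nil .nil))) (.node [370,372,364,291,371,293,369,330] (.node [] .nil (.node [1294,1415,1414,1303,1293,1354,1409,1354] .nil .nil)) (.node [842,902,779,842,842,900,780,904] .nil (.node [1826,1866,1866,1866,1895,1828,1892,1827] .nil .nil)))) (.node [202,230,234,177,225,174,233,202] (.node [] (.node [] .nil (.node [1163,1226,1253,1226,1226,1286,1165,1164] .nil .nil)) (.node [676,772,775,658,656,774,661,763] .nil (.node [1738,1713,1738,1782,1738,1694,1771,1688] .nil .nil))) (.node [507,411,494,421,509,458,458,414] (.node [] .nil (.node [1537,1421,1430,1540,1440,1422,1539,1425] .nil .nil)) (.node [992,908,970,1031,970,907,1034,970] .nil (.node [1968,1966,2017,1994,2016,1983,1994,1971] .nil .nil)))))) (.node [33,42,42,53,34,51,42,36] (.node [] (.node [] (.node [] (.node [] (.node [] .nil (.node [2074,2101,2090,2075,2104,2090,2090,2081] .nil .nil)) (.node [1131,1132,1004,1000,1066,1130,1117,1016] .nil .nil)) (.node [503,554,607,501,554,554,602,554] .nil (.node [1578,1524,1525,1630,1578,1526,1578,1621] .nil .nil))) (.node [261,339,338,260,262,336,298,298] (.node [] .nil (.node [1260,1258,1322,1384,1259,1322,1381,1273] .nil .nil)) (.node [752,810,810,810,810,810,869,753] .nil (.node [1834,1871,1868,1797,1795,1834,1834,1834] .nil .nil)))) (.node [170,195,197,146,196,149,170,170] (.node [] (.node [] .nil (.node [1258,1260,1135,1194,1130,1194,1256,1145] .nil .nil)) (.node [682,682,730,682,682,626,740,627] .nil (.node [1706,1706,1656,1753,1657,1752,1658,1706] .nil .nil))) (.node [426,389,426,472,382,473,426,426] (.node [] .nil (.node [1504,1389,1396,1507,1450,1499,1390,1450] .nil .nil)) (.node [1001,938,877,938,1000,938,991,889] .nil (.node [1962,1962,1962,1932,1989,1933,1988,1985] .nil .nil))))) (.node [106,127,88,126,89,124,93,106] (.node [] (.node [] (.node [] (.node [] .nil (.node [2154,2156,2154,2154,2152,2154,2154,2154] .nil .nil)) (.node [1193,1195,1069,1064,1194,1066,1192,1080] .nil .nil)) (.node [653,563,564,674,618,566,618,668] .nil (.node [1642,1617,1642,1691,1590,1688,1589,1694] .nil .nil))) (.node [403,362,323,404,362,362,324,402] (.node [] .nil (.node [1386,1324,1440,1386,1430,1325,1446,1326] .nil .nil)) (.node [874,932,813,815,934,874,819,874] .nil (.node [1931,1860,1898,1898,1898,1898,1862,1929] .nil .nil)))) (.node [270,265,202,234,259,203,269,234] (.node [] (.node [] .nil (.node [1194,1322,1258,1258,1193,1258,1318,1209] .nil .nil)) (.node [746,804,746,800,693,689,746,746] .nil (.node [1722,1770,1770,1770,1723,1813,1770,1737] .nil .nil))) (.node [490,540,490,443,539,444,490,537] (.node [] .nil (.node [1514,1535,1514,1460,1566,1459,1567,1514] .nil .nil)) (.node [975,941,1068,1063,945,1054,939,1067] .nil (.node [2049,2026,2002,2048,2026,2007,2043,2026] .nil .nil))))))) (.node [34,26,20,26,33,26,26,22] (.node [] (.node [] (.node [] (.node [] (.node [] (.node [] .nil (.node [2090,2087,2056,2057,2089,2074,2074,2062] .nil .nil)) (.node [1113,1050,989,1050,1112,991,1050,1050] .nil .nil)) (.node [538,489,538,538,538,589,584,491] .nil (.node [1610,1562,1562,1562,1507,1613,1508,1562] .nil .nil))) (.node [319,282,282,247,320,282,249,318] (.node [] .nil (.node [1306,1369,1360,1306,1244,1368,1306,1245] .nil .nil)) (.node [833,735,794,794,855,734,857,850] .nil (.node [1818,1818,1858,1818,1782,1818,1845,1776] .nil .nil)))) (.node [131,154,176,154,154,179,136,154] (.node [] (.node [] .nil (.node [1240,1242,1120,1115,1241,1117,1239,1178] .nil .nil)) (.node [616,610,724,666,666,666,612,666] .nil (.node [1739,1690,1690,1637,1690,1690,1690,1729] .nil .nil))) (.node [367,375,410,456,383,410,410,368] (.node [] .nil (.node [1372,1434,1434,1489,1375,1434,1494,1434] .nil .nil)) (.node [984,865,861,969,922,983,862,922] .nil (.node [1974,1911,1946,1976,1912,1918,1972,1946] .nil .nil))))) (.node [76,74,108,90,107,90,79,90] (.node [] (.node [] (.node [] (.node [] .nil (.node [2138,2138,2130,2138,2143,2132,2141,2134] .nil .nil)) (.node [1096,1114,1176,1054,1171,1063,1051,1175] .nil .nil)) (.node [551,602,657,548,602,654,554,648] .nil (.node [1669,1594,1678,1575,1677,1626,1576,1626] .nil .nil))) (.node [346,346,306,346,346,388,315,346] (.node [] .nil (.node [1370,1308,1425,1432,1326,1309,1370,1430] .nil .nil)) (.node [899,920,858,796,919,798,914,795] .nil (.node [1882,1919,1843,1857,1913,1916,1851,1882] .nil .nil)))) (.node [250,218,218,188,218,249,218,242] (.node [] (.node [] .nil (.node [1304,1178,1184,1242,1305,1180,1302,1242] .nil .nil)) (.node [765,730,682,789,730,671,790,677] .nil (.node [1754,1707,1792,1754,1754,1754,1796,1708] .nil .nil))) (.node [428,474,525,505,427,524,474,429] (.node [] .nil (.node [1441,1498,1554,1438,1498,1553,1449,1443] .nil .nil)) (.node [925,1044,986,986,1045,926,986,986] .nil (.node [2010,2010,2010,1984,2033,2022,1985,2032] .nil .nil)))))) (.node [58,72,46,58,58,69,48,66] (.node [] (.node [] (.node [] (.node [] (.node [] .nil (.node [2093,2096,2106,2118,2094,2116,2097,2112] .nil .nil)) (.node [1147,1016,1020,1082,1082,1146,1082,1132] .nil .nil)) (.node [608,570,521,623,517,624,621,570] .nil (.node [1644,1626,1649,1539,1648,1594,1540,1594] .nil .nil))) (.node [353,314,314,314,276,314,352,284] (.node [] .nil (.node [1338,1275,1390,1338,1338,1276,1396,1277] .nil .nil)) (.node [875,826,826,826,826,766,826,826] .nil (.node [1890,1808,1850,1850,1810,1888,1878,1823] .nil .nil)))) (.node [186,186,186,186,214,186,167,160] (.node [] (.node [] .nil (.node [1146,1144,1210,1210,1273,1147,1270,1259] .nil .nil)) (.node [650,643,755,756,698,698,645,698] .nil (.node [1770,1722,1673,1722,1674,1769,1722,1686] .nil .nil))) (.node [487,442,442,442,442,483,398,442] (.node [] .nil (.node [1517,1522,1466,1421,1466,1407,1521,1412] .nil .nil)) (.node [954,893,890,1019,897,891,1018,1003] .nil (.node [1978,2005,1978,1948,1958,2000,1978,1978] .nil .nil))))) (.node [122,122,122,122,142,103,143,137] (.node [] (.node [] (.node [] .nil (.node [1210,1080,1086,1146,1211,1082,1208,1195] .nil .nil)) (.node [634,580,673,634,688,581,634,687] .nil (.node [1658,1658,1606,1707,1607,1658,1706,1609] .nil .nil))) (.node [423,335,378,414,378,378,337,421] (.node [] .nil (.node [1402,1418,1402,1345,1459,1458,1402,1402] .nil .nil)) (.node [855,830,954,950,833,828,953,939] .nil (.node [1878,1877,1947,1914,1883,1945,1890,1914] .nil .nil)))) (.node [218,250,285,217,250,283,250,277] (.node [] (.node [] .nil (.node [1336,1274,1274,1211,1274,1274,1335,1323] .nil .nil)) (.node [728,703,822,702,821,817,762,713] .nil (.node [1828,1786,1740,1786,1786,1826,1786,1741] .nil .nil))) (.node [542,560,456,506,558,506,506,460] (.node [] .nil (.node [1585,1487,1473,1530,1530,1584,1477,1577] .nil .nil)) (.node [1018,957,953,1084,961,1018,954,1083] .nil (.node [2042,2060,2062,2020,2061,2042,2025,2056] .nil .nil))))))))) (.node [6,9,6,6,6,4,8,6] (.node [] (.node [] (.node [] (.node [] (.node [] (.node [] (.node [] (.node [] .nil (.node [2054,2054,2054,2054,2054,2034,2071,2035] .nil .nil)) (.node [1095,1030,967,983,1094,969,1030,1030] .nil .nil)) (.node [556,518,472,518,467,571,518,518] .nil (.node [1486,1579,1599,1484,1598,1485,1542,1592] .nil .nil))) (.node [229,301,300,228,298,262,262,262] (.node [] .nil (.node [1224,1286,1298,1286,1339,1226,1286,1225] .nil .nil)) (.node [735,833,836,716,830,714,835,823] .nil (.node [1798,1755,1798,1798,1836,1756,1798,1798] .nil .nil)))) (.node [158,134,113,157,134,134,150,119] (.node [] (.node [] .nil (.node [1094,1158,1173,1222,1095,1220,1158,1158] .nil .nil)) (.node [613,702,646,592,646,699,646,600] .nil (.node [1670,1670,1718,1621,1717,1623,1714,1630] .nil .nil))) (.node [350,390,435,349,434,427,355,351] (.node [] .nil (.node [1414,1474,1354,1414,1355,1414,1469,1414] .nil .nil)) (.node [902,842,838,965,902,961,839,964] .nil (.node [1926,1889,1890,1957,1891,1956,1947,1901] .nil .nil))))) (.node [57,55,84,70,83,59,70,79] (.node [] (.node [] (.node [] (.node [] .nil (.node [2107,2118,2127,2106,2118,2125,2109,2123] .nil .nil)) (.node [1158,1094,1029,1159,1030,1157,1094,1094] .nil .nil)) (.node [582,582,531,635,630,536,532,582] .nil (.node [1556,1606,1658,1645,1553,1606,1656,1557] .nil .nil))) (.node [365,366,293,288,326,364,326,326] (.node [] .nil (.node [1406,1408,1350,1290,1407,1350,1350,1292] .nil .nil)) (.node [797,779,902,838,838,896,777,901] .nil (.node [1900,1821,1862,1862,1862,1823,1898,1888] .nil .nil)))) (.node [228,198,171,229,172,198,198,198] (.node [] (.node [] .nil (.node [1159,1285,1284,1158,1166,1282,1222,1222] .nil .nil)) (.node [674,768,770,653,769,656,710,759] .nil (.node [1780,1781,1734,1683,1779,1734,1734,1767] .nil .nil))) (.node [501,406,418,503,407,454,499,454] (.node [] .nil (.node [1478,1459,1478,1478,1418,1535,1478,1478] .nil .nil)) (.node [966,966,966,966,903,966,1028,966] .nil (.node [2014,1990,1963,1990,2007,1990,1990,1990] .nil .nil)))))) (.node [31,49,48,30,38,38,46,38] (.node [] (.node [] (.node [] (.node [] (.node [] .nil (.node [2086,2073,2100,2086,2072,2099,2086,2077] .nil .nil)) (.node [1062,997,1062,1062,1126,998,1062,1062] .nil .nil)) (.node [599,498,514,604,550,499,550,596] .nil (.node [1574,1564,1574,1520,1625,1574,1574,1528] .nil .nil))) (.node [294,327,333,294,268,294,294,258] (.node [] .nil (.node [1256,1381,1318,1318,1255,1380,1258,1376] .nil .nil)) (.node [866,862,748,806,806,806,865,749] .nil (.node [1867,1869,1795,1788,1868,1790,1830,1830] .nil .nil)))) (.node [166,166,166,190,143,166,142,193] (.node [] (.node [] .nil (.node [1253,1190,1127,1254,1190,1237,1141,1128] .nil .nil)) (.node [717,623,678,678,622,737,734,678] .nil (.node [1650,1728,1746,1702,1651,1702,1749,1654] .nil .nil))) (.node [422,470,377,422,422,422,379,468] (.node [] .nil (.node [1446,1385,1499,1446,1490,1396,1386,1446] .nil .nil)) (.node [934,993,873,996,874,995,881,934] .nil (.node [1958,1986,1958,1927,1978,1958,1958,1958] .nil .nil))))) (.node [121,102,85,102,102,102,102,115] (.node [] (.node [] (.node [] (.node [] .nil (.node [2150,2153,2150,2146,2150,2152,2147,2150] .nil .nil)) (.node [1126,1061,1126,1189,1062,1188,1126,1126] .nil .nil)) (.node [647,558,559,670,560,668,614,566] .nil (.node [1584,1602,1684,1638,1689,1585,1638,1680] .nil .nil))) (.node [358,358,319,358,400,358,322,397] (.node [] .nil (.node [1442,1320,1326,1444,1425,1321,1382,1440] .nil .nil)) (.node [843,929,870,870,870,811,870,870] .nil (.node [1894,1894,1855,1916,1927,1857,1894,1894] .nil .nil)))) (.node [230,202,265,230,255,200,264,230] (.node [] (.node [] .nil (.node [1315,1317,1197,1190,1316,1299,1205,1192] .nil .nil)) (.node [742,801,782,689,685,800,686,742] .nil (.node [1719,1746,1728,1809,1720,1766,1803,1733] .nil .nil))) (.node [486,439,486,486,486,486,535,445] (.node [] .nil (.node [1510,1510,1452,1510,1563,1453,1510,1561] .nil .nil)) (.node [998,936,998,998,1060,1062,944,998] .nil (.node [2022,2022,2022,1998,2044,2010,2003,2039] .nil .nil))))))) (.node [29,22,16,22,28,22,18,26] (.node [] (.node [] (.node [] (.node [] (.node [] (.node [] .nil (.node [2070,2070,2070,2070,2076,2052,2085,2053] .nil .nil)) (.node [1107,1108,988,985,1046,1046,1046,1046] .nil .nil)) (.node [534,586,534,484,585,485,534,583] .nil (.node [1558,1558,1501,1558,1609,1502,1558,1607] .nil .nil))) (.node [316,310,243,278,278,307,251,244] (.node [] .nil (.node [1363,1239,1246,1302,1365,1257,1242,1361] .nil .nil)) (.node [825,790,740,851,790,790,730,852] .nil (.node [1772,1793,1841,1855,1814,1773,1814,1814] .nil .nil)))) (.node [176,150,128,175,150,172,134,150] (.node [] (.node [] .nil (.node [1235,1236,1174,1112,1174,1234,1174,1174] .nil .nil)) (.node [662,718,606,607,720,662,715,662] .nil (.node [1737,1686,1633,1686,1634,1736,1640,1722] .nil .nil))) (.node [451,454,371,406,364,406,449,406] (.node [] .nil (.node [1430,1368,1482,1491,1386,1369,1490,1370] .nil .nil)) (.node [953,856,918,978,857,918,855,981] .nil (.node [1971,1909,1942,1942,1972,1923,1912,1968] .nil .nil))))) (.node [86,86,86,72,103,101,73,97] (.node [] (.node [] (.node [] (.node [] .nil (.node [2134,2134,2125,2134,2139,2127,2134,2138] .nil .nil)) (.node [1048,1047,1170,1110,1110,1110,1110,1110] .nil .nil)) (.node [563,653,546,652,598,547,598,644] .nil (.node [1576,1592,1672,1571,1671,1573,1669,1579] .nil .nil))) (.node [303,308,342,385,368,311,304,383] (.node [] .nil (.node [1305,1303,1366,1427,1304,1366,1424,1366] .nil .nil)) (.node [917,854,791,803,916,854,854,910] .nil (.node [1914,1840,1878,1878,1844,1912,1850,1878] .nil .nil)))) (.node [214,214,214,243,186,236,193,185] (.node [] (.node [] .nil (.node [1176,1238,1225,1300,1291,1191,1177,1298] .nil .nil)) (.node [758,667,687,786,785,669,783,673] .nil (.node [1704,1794,1750,1703,1750,1750,1750,1791] .nil .nil))) (.node [470,422,423,520,470,470,424,519] (.node [] .nil (.node [1433,1494,1494,1546,1436,1551,1434,1550] .nil .nil)) (.node [982,924,1043,982,921,982,982,982] .nil (.node [2006,2029,2030,1979,2006,2025,2006,2006] .nil .nil)))))) (.node [67,43,54,54,54,65,54,47] (.node [] (.node [] (.node [] (.node [] (.node [] .nil (.node [2102,2110,2114,2091,2102,2102,2088,2102] .nil .nil)) (.node [1142,1078,1013,1143,1078,1078,1014,1141] .nil .nil)) (.node [601,511,512,620,513,618,516,614] .nil (.node [1590,1567,1590,1590,1642,1590,1535,1643] .nil .nil))) (.node [349,278,273,350,310,341,280,274] (.node [] .nil (.node [1392,1271,1277,1394,1334,1272,1334,1390] .nil .nil)) (.node [822,764,762,822,884,879,822,773] .nil (.node [1885,1846,1805,1886,1812,1874,1806,1884] .nil .nil)))) (.node [182,208,212,159,182,156,211,163] (.node [] (.node [] .nil (.node [1143,1270,1206,1142,1269,1206,1144,1266] .nil .nil)) (.node [694,639,694,751,640,750,641,694] .nil (.node [1765,1718,1670,1672,1764,1674,1759,1682] .nil .nil))) (.node [438,438,392,485,393,484,395,482] (.node [] .nil (.node [1516,1462,1462,1462,1462,1462,1462,1405] .nil .nil)) (.node [915,950,1014,890,950,888,1013,999] .nil (.node [1946,1943,2001,2002,1945,1949,1997,1974] .nil .nil))))) (.node [118,138,140,99,139,118,118,133] (.node [] (.node [] (.node [] .nil (.node [1078,1142,1104,1206,1142,1142,1079,1204] .nil .nil)) (.node [630,630,577,685,582,630,578,630] .nil (.node [1601,1689,1703,1654,1602,1654,1654,1702] .nil .nil))) (.node [332,331,419,339,374,417,374,374] (.node [] .nil (.node [1456,1340,1398,1398,1398,1398,1398,1342] .nil .nil)) (.node [886,946,823,886,942,824,949,836] .nil (.node [1876,1945,1944,1875,1943,1877,1940,1910] .nil .nil)))) (.node [246,219,280,246,246,246,273,215] (.node [] (.node [] .nil (.node [1208,1206,1270,1270,1333,1270,1210,1329] .nil .nil)) (.node [726,699,758,817,816,702,812,709] .nil (.node [1782,1782,1826,1738,1818,1740,1811,1735] .nil .nil))) (.node [466,452,453,555,553,455,549,502] (.node [] .nil (.node [1526,1469,1470,1580,1471,1578,1474,1572] .nil .nil)) (.node [1079,1014,950,1080,1014,951,1078,1064] .nil (.node [2018,2038,2057,2016,2038,2038,2038,2021] .nil .nil)))))))) (.node [19,14,10,14,14,18,14,14] (.node [] (.node [] (.node [] (.node [] (.node [] (.node [] (.node [] .nil (.node [2081,2078,2042,2043,2080,2062,2048,2074] .nil .nil)) (.node [973,1038,1065,1038,974,1102,1098,980] .nil .nil)) (.node [577,526,526,561,483,526,476,526] .nil (.node [1492,1550,1550,1597,1495,1604,1550,1494] .nil .nil))) (.node [234,304,270,270,296,235,308,270] (.node [] .nil (.node [1354,1357,1294,1241,1234,1294,1352,1294] .nil .nil)) (.node [811,844,742,782,723,843,725,782] .nil (.node [1847,1806,1763,1848,1769,1764,1846,1777] .nil .nil)))) (.node [142,142,142,163,122,120,166,159] (.node [] (.node [] .nil (.node [1106,1228,1227,1105,1222,1166,1166,1166] .nil .nil)) (.node [604,654,712,599,711,602,654,701] .nil (.node [1727,1649,1626,1678,1726,1678,1628,1678] .nil .nil))) (.node [440,398,398,398,398,356,442,359] (.node [] .nil (.node [1480,1360,1369,1483,1361,1482,1422,1365] .nil .nil)) (.node [974,910,847,862,973,910,969,854] .nil (.node [1904,1902,1934,1963,1903,1934,1934,1934] .nil .nil))))) (.node [78,95,63,78,93,66,89,69] (.node [] (.node [] (.node [] (.node [] .nil (.node [2133,2126,2126,2126,2117,2126,2126,2131] .nil .nil)) (.node [1037,1102,1129,1102,1102,1038,1164,1042] .nil .nil)) (.node [590,539,590,642,540,590,590,641] .nil (.node [1614,1664,1614,1563,1614,1614,1614,1663] .nil .nil))) (.node [295,368,334,377,308,334,296,375] (.node [] .nil (.node [1358,1296,1297,1418,1358,1416,1358,1358] .nil .nil)) (.node [873,907,846,846,784,908,787,846] .nil (.node [1832,1831,1870,1883,1870,1903,1833,1870] .nil .nil)))) (.node [178,206,228,237,179,206,206,206] (.node [] (.node [] .nil (.node [1288,1230,1230,1170,1289,1230,1230,1230] .nil .nil)) (.node [718,662,660,718,778,718,773,718] .nil (.node [1692,1742,1742,1742,1742,1693,1787,1742] .nil .nil))) (.node [510,514,498,431,462,413,462,508] (.node [] .nil (.node [1542,1529,1545,1425,1544,1426,1486,1540] .nil .nil)) (.node [910,974,1001,923,1038,974,1033,917] .nil (.node [1998,1970,1971,2022,2020,1984,1975,2017] .nil .nil)))))) (.node [37,59,58,36,46,55,38,53] (.node [] (.node [] (.node [] (.node [] (.node [] .nil (.node [2078,2081,2094,2094,2106,2094,2083,2101] .nil .nil)) (.node [1070,1004,1132,1008,1070,1136,1121,1020] .nil .nil)) (.node [592,614,505,613,506,611,558,511] .nil (.node [1582,1565,1582,1633,1528,1636,1533,1625] .nil .nil))) (.node [302,268,341,302,327,273,302,264] (.node [] .nil (.node [1326,1263,1382,1326,1370,1264,1326,1386] .nil .nil)) (.node [766,814,876,814,756,875,760,814] .nil (.node [1875,1838,1799,1876,1838,1800,1874,1838] .nil .nil)))) (.node [174,200,203,151,149,202,156,174] (.node [] (.node [] .nil (.node [1198,1264,1256,1140,1134,1263,1135,1261] .nil .nil)) (.node [686,744,725,636,631,686,742,633] .nil (.node [1710,1756,1710,1662,1710,1755,1663,1710] .nil .nil))) (.node [430,430,385,430,478,393,388,475] (.node [] .nil (.node [1509,1454,1454,1454,1394,1454,1454,1508] .nil .nil)) (.node [942,1003,880,1007,886,881,1006,893] .nil (.node [1939,1994,1993,1938,1992,1952,1966,1940] .nil .nil))))) (.node [128,110,131,92,110,130,96,110] (.node [] (.node [] (.node [] (.node [] .nil (.node [2159,2158,2157,2158,2158,2158,2158,2158] .nil .nil)) (.node [1134,1199,1192,1068,1198,1182,1069,1197] .nil .nil)) (.node [660,569,622,568,678,622,675,622] .nil (.node [1698,1672,1592,1646,1697,1593,1696,1599] .nil .nil))) (.node [409,326,332,366,366,407,366,366] (.node [] .nil (.node [1448,1330,1338,1451,1390,1331,1450,1334] .nil .nil)) (.node [848,818,940,937,817,939,931,828] .nil (.node [1868,1934,1902,1902,1867,1902,1902,1902] .nil .nil)))) (.node [272,207,238,238,238,238,238,238] (.node [] (.node [] .nil (.node [1262,1197,1317,1201,1325,1307,1213,1199] .nil .nil)) (.node [750,693,750,808,804,694,750,750] .nil (.node [1816,1774,1774,1726,1774,1815,1729,1774] .nil .nil))) (.node [543,447,458,494,545,494,494,450] (.node [] .nil (.node [1518,1572,1463,1518,1464,1570,1518,1469] .nil .nil)) (.node [1006,1068,941,1072,949,1058,942,1071] .nil (.node [2051,2050,2006,2007,2030,2048,2030,2030] .nil .nil))))))) (.node [23,30,30,38,24,30,36,30] (.node [] (.node [] (.node [] (.node [] (.node [] (.node [] .nil (.node [2094,2062,2060,2078,2093,2078,2066,2087] .nil .nil)) (.node [1034,994,1119,1114,1054,1002,992,1118] .nil .nil)) (.node [506,594,492,542,592,542,542,496] .nil (.node [1566,1589,1566,1566,1514,1513,1617,1566] .nil .nil))) (.node [251,317,286,286,286,286,316,252] (.node [] .nil (.node [1310,1310,1372,1247,1251,1310,1371,1310] .nil .nil)) (.node [841,859,798,739,798,858,798,738] .nil (.node [1779,1864,1863,1778,1780,1861,1822,1849] .nil .nil)))) (.node [134,158,136,184,158,158,176,141] (.node [] (.node [] .nil (.node [1182,1246,1239,1119,1245,1134,1120,1244] .nil .nil)) (.node [703,728,670,614,729,727,670,620] .nil (.node [1694,1667,1694,1740,1643,1738,1694,1642] .nil .nil))) (.node [461,369,450,378,463,414,372,458] (.node [] .nil (.node [1379,1376,1438,1498,1377,1497,1388,1381] .nil .nil)) (.node [865,984,926,926,926,986,866,926] .nil (.node [1950,1916,1917,1950,1979,1919,1950,1950] .nil .nil))))) (.node [80,77,112,113,79,94,107,83] (.node [] (.node [] (.node [] (.node [] .nil (.node [2145,2142,2142,2142,2142,2136,2142,2142] .nil .nil)) (.node [1099,1057,1181,1175,1118,1067,1118,1054] .nil .nil)) (.node [569,660,662,553,661,606,656,606] .nil (.node [1630,1630,1682,1578,1681,1580,1630,1670] .nil .nil))) (.node [390,350,350,310,391,384,318,312] (.node [] .nil (.node [1436,1374,1312,1374,1433,1374,1313,1435] .nil .nil)) (.node [923,806,802,910,862,862,922,803] .nil (.node [1922,1923,1886,1846,1886,1909,1848,1921] .nil .nil)))) (.node [222,222,254,194,253,222,222,222] (.node [] (.node [] .nil (.node [1246,1182,1302,1187,1309,1199,1184,1307] .nil .nil)) (.node [772,676,734,734,675,794,678,788] .nil (.node [1758,1758,1800,1758,1714,1799,1717,1758] .nil .nil))) (.node [478,478,429,528,430,527,432,525] (.node [] .nil (.node [1502,1502,1443,1502,1502,1558,1445,1554] .nil .nil)) (.node [968,990,1052,931,930,1051,937,990] .nil (.node [1990,2014,1991,2014,2031,2014,2014,2014] .nil .nil)))))) (.node [74,76,62,50,75,62,52,62] (.node [] (.node [] (.node [] (.node [] (.node [] .nil (.node [2110,2102,2120,2110,2110,2110,2099,2110] .nil .nil)) (.node [1086,1019,1146,1023,1151,1020,1150,1136] .nil .nil)) (.node [574,574,624,574,522,521,628,574] .nil (.node [1544,1631,1652,1557,1542,1598,1598,1645] .nil .nil))) (.node [355,318,318,280,356,318,350,282] (.node [] .nil (.node [1400,1281,1342,1342,1342,1342,1283,1398] .nil .nil)) (.node [793,890,893,830,774,769,892,880] .nil (.node [1812,1854,1854,1854,1885,1854,1813,1892] .nil .nil)))) (.node [190,215,220,166,190,190,163,219] (.node [] (.node [] .nil (.node [1214,1277,1271,1154,1214,1149,1214,1275] .nil .nil)) (.node [669,646,702,762,702,758,702,655] .nil (.node [1773,1700,1677,1774,1678,1772,1679,1726] .nil .nil))) (.node [402,446,446,492,446,446,446,403] (.node [] .nil (.node [1413,1409,1526,1527,1411,1525,1415,1519] .nil .nil)) (.node [958,1023,958,893,958,894,1022,1007] .nil (.node [1982,2009,1952,1982,1982,1993,1959,1954] .nil .nil))))) (.node [126,148,126,106,126,145,111,126] (.node [] (.node [] (.node [] .nil (.node [1150,1084,1208,1088,1215,1150,1086,1213] .nil .nil)) (.node [638,585,638,692,586,638,638,691] .nil (.node [1662,1662,1610,1710,1611,1709,1612,1662] .nil .nil))) (.node [382,348,382,340,426,382,382,382] (.node [] .nil (.node [1350,1465,1464,1349,1463,1406,1406,1351] .nil .nil)) (.node [894,959,894,831,832,958,894,943] .nil (.node [1949,1880,1918,1951,1881,1946,1918,1918] .nil .nil)))) (.node [289,254,222,254,288,254,254,254] (.node [] (.node [] .nil (.node [1278,1278,1278,1337,1217,1327,1216,1278] .nil .nil)) (.node [814,766,766,766,706,826,707,766] .nil (.node [1831,1832,1753,1744,1790,1830,1747,1790] .nil .nil))) (.node [462,564,563,477,510,459,510,557] (.node [] .nil (.node [1477,1489,1588,1534,1534,1534,1585,1534] .nil .nil)) (.node [1022,1088,1022,957,1022,1022,958,1087] .nil (.node [2046,2025,2066,2024,2065,2029,2060,2046] .nil .nil))))))))))) (.node [0,1,2,1,1,1,1,1] (.node [] (.node [] (.node [] (.node [] (.node [] (.node [] (.node [] (.node [] (.node [] (.node [] .nil (.node [2026,2049,2028,2068,2049,2031,2063,2049] .nil .nil)) (.node [1025,1025,1025,961,1090,965,962,1089] .nil .nil)) (.node [549,460,461,567,566,513,466,560] .nil (.node [1482,1479,1537,1592,1497,1480,1591,1484] .nil .nil))) (.node [224,227,257,257,292,232,257,257] (.node [] .nil (.node [1341,1342,1281,1219,1281,1281,1221,1340] .nil .nil)) (.node [733,828,831,769,710,830,769,818] .nil (.node [1748,1814,1829,1793,1793,1749,1793,1793] .nil .nil)))) (.node [129,129,129,108,151,129,114,129] (.node [] (.node [] .nil (.node [1153,1153,1153,1212,1089,1216,1202,1090] .nil .nil)) (.node [641,588,641,695,589,641,694,590] .nil (.node [1665,1676,1665,1665,1665,1615,1712,1616] .nil .nil))) (.node [343,385,430,342,429,351,344,427] (.node [] .nil (.node [1352,1470,1469,1362,1351,1468,1354,1463] .nil .nil)) (.node [897,836,833,962,954,834,961,946] .nil (.node [1952,1953,1921,1884,1921,1939,1896,1886] .nil .nil))))) (.node [79,52,65,65,80,54,76,57] (.node [] (.node [] (.node [] (.node [] .nil (.node [2123,2113,2113,2100,2113,2122,2113,2107] .nil .nil)) (.node [1089,1089,1089,1024,1153,1027,1139,1025] .nil .nil)) (.node [526,577,630,610,531,577,524,577] .nil (.node [1654,1637,1544,1601,1545,1601,1601,1650] .nil .nil))) (.node [284,321,360,321,283,321,357,353] (.node [] .nil (.node [1345,1284,1285,1402,1287,1401,1345,1345] .nil .nil)) (.node [794,774,897,833,890,772,896,883] .nil (.node [1857,1857,1816,1882,1857,1894,1817,1857] .nil .nil)))) (.node [193,193,193,219,167,193,214,166] (.node [] (.node [] .nil (.node [1217,1217,1217,1217,1278,1217,1155,1217] .nil .nil)) (.node [671,705,705,763,649,765,705,658] .nil (.node [1775,1729,1729,1679,1729,1729,1774,1690] .nil .nil))) (.node [495,499,413,449,404,498,406,493] (.node [] .nil (.node [1527,1426,1530,1413,1473,1529,1417,1523] .nil .nil)) (.node [961,900,896,1025,1018,902,897,1024] .nil (.node [1985,1985,1985,1956,2011,1957,2010,1962] .nil .nil)))))) (.node [42,33,25,43,26,41,33,28] (.node [] (.node [] (.node [] (.node [] (.node [] .nil (.node [2062,2094,2081,2063,2096,2081,2068,2090] .nil .nil)) (.node [1035,1118,1122,1057,1057,1005,1057,994] .nil .nil)) (.node [593,493,509,597,494,596,545,499] .nil (.node [1521,1620,1619,1536,1569,1569,1517,1569] .nil .nil))) (.node [254,289,289,289,325,289,289,289] (.node [] .nil (.node [1375,1313,1251,1313,1372,1252,1374,1313] .nil .nil)) (.node [801,742,844,861,743,860,744,801] .nil (.node [1781,1780,1865,1794,1864,1825,1825,1852] .nil .nil)))) (.node [161,139,188,161,138,187,161,180] (.node [] (.node [] .nil (.node [1185,1249,1185,1122,1248,1137,1185,1123] .nil .nil)) (.node [709,617,634,732,731,619,673,726] .nil (.node [1746,1719,1645,1747,1646,1697,1744,1652] .nil .nil))) (.node [372,370,466,380,465,374,461,417] (.node [] .nil (.node [1498,1441,1441,1379,1441,1500,1391,1383] .nil .nil)) (.node [905,870,929,989,929,871,929,929] .nil (.node [1983,1921,1953,1953,1953,1968,1929,1923] .nil .nil))))) (.node [97,97,97,81,116,114,97,86] (.node [] (.node [] (.node [] (.node [] .nil (.node [2142,2145,2149,2145,2145,2140,2145,2145] .nil .nil)) (.node [1121,1056,1180,1060,1121,1184,1070,1121] .nil .nil)) (.node [571,609,609,609,663,556,664,609] .nil (.node [1633,1633,1686,1582,1580,1685,1586,1673] .nil .nil))) (.node [314,353,395,353,313,353,392,321] (.node [] .nil (.node [1317,1315,1377,1377,1438,1420,1329,1319] .nil .nil)) (.node [926,922,805,865,865,925,806,865] .nil (.node [1889,1926,1849,1889,1851,1924,1913,1863] .nil .nil)))) (.node [225,255,259,225,202,196,258,225] (.node [] (.node [] .nil (.node [1249,1185,1249,1307,1311,1201,1249,1187] .nil .nil)) (.node [777,679,737,737,737,678,797,737] .nil (.node [1803,1744,1715,1804,1716,1802,1719,1761] .nil .nil))) (.node [436,481,532,481,524,434,531,437] (.node [] .nil (.node [1451,1505,1561,1448,1560,1449,1559,1452] .nil .nil)) (.node [993,934,931,1056,932,1055,940,993] .nil (.node [2017,1993,1994,2039,2037,2009,2017,1998] .nil .nil))))))) (.node [17,17,23,17,13,17,21,17] (.node [] (.node [] (.node [] (.node [] (.node [] (.node [] .nil (.node [2065,2047,2082,2065,2046,2065,2077,2065] .nil .nil)) (.node [1104,1041,978,1041,1041,1041,979,1103] .nil .nil)) (.node [529,479,568,529,529,529,581,529] .nil (.node [1500,1553,1607,1497,1606,1498,1605,1501] .nil .nil))) (.node [273,243,310,273,273,302,246,239] (.node [] .nil (.node [1236,1235,1358,1297,1297,1356,1297,1297] .nil .nil)) (.node [816,725,744,847,726,785,844,731] .nil (.node [1767,1852,1851,1766,1849,1809,1843,1780] .nil .nil)))) (.node [145,169,145,124,168,126,145,145] (.node [] (.node [] .nil (.node [1108,1107,1229,1228,1169,1169,1169,1169] .nil .nil)) (.node [657,657,602,715,657,712,607,704] .nil (.node [1681,1681,1731,1681,1630,1730,1681,1717] .nil .nil))) (.node [401,445,401,360,401,401,444,439] (.node [] .nil (.node [1484,1364,1370,1486,1382,1365,1425,1482] .nil .nil)) (.node [945,851,913,913,975,913,850,977] .nil (.node [1906,1965,1937,1937,1937,1937,1937,1937] .nil .nil))))) (.node [81,66,67,97,81,95,81,72] (.node [] (.node [] (.node [] (.node [] .nil (.node [2135,2129,2129,2120,2136,2129,2122,2129] .nil .nil)) (.node [1043,1045,1105,1166,1044,1105,1105,1105] .nil .nil)) (.node [545,541,647,648,543,645,593,548] .nil (.node [1617,1642,1617,1617,1567,1666,1566,1667] .nil .nil))) (.node [380,297,337,372,337,299,378,337] (.node [] .nil (.node [1420,1299,1307,1361,1422,1317,1361,1302] .nil .nil)) (.node [880,911,849,849,789,787,912,793] .nil (.node [1873,1873,1907,1873,1873,1845,1873,1837] .nil .nil)))) (.node [241,183,180,242,181,240,231,188] (.node [] (.node [] .nil (.node [1172,1233,1220,1293,1177,1173,1291,1233] .nil .nil)) (.node [680,721,721,779,664,776,663,781] .nil (.node [1696,1762,1701,1745,1789,1745,1698,1745] .nil .nil))) (.node [418,415,516,465,417,465,512,465] (.node [] .nil (.node [1428,1534,1547,1434,1489,1489,1546,1489] .nil .nil)) (.node [1009,914,977,977,1039,977,920,913] .nil (.node [2001,1973,1974,2025,1975,1979,2020,2001] .nil .nil)))))) (.node [39,38,60,49,49,49,59,49] (.node [] (.node [] (.node [] (.node [] (.node [] .nil (.node [2082,2084,2097,2109,2083,2097,2106,2097] .nil .nil)) (.node [1073,1007,1073,1136,1073,1008,1138,1023] .nil .nil)) (.node [610,616,595,526,561,561,508,561] .nil (.node [1530,1546,1635,1585,1585,1638,1534,1629] .nil .nil))) (.node [344,305,305,265,345,267,343,305] (.node [] .nil (.node [1268,1266,1329,1329,1388,1329,1377,1270] .nil .nil)) (.node [786,759,879,758,878,762,872,768] .nil (.node [1802,1829,1814,1879,1841,1803,1841,1841] .nil .nil)))) (.node [177,177,177,202,177,151,205,177] (.node [] (.node [] .nil (.node [1201,1137,1201,1262,1201,1249,1152,1138] .nil .nil)) (.node [689,747,689,742,635,746,636,689] .nil (.node [1713,1738,1713,1713,1713,1667,1757,1666] .nil .nil))) (.node [433,473,433,433,433,389,480,433] (.node [] .nil (.node [1457,1399,1400,1512,1457,1457,1401,1511] .nil .nil)) (.node [913,885,1010,945,1002,945,883,1009] .nil (.node [1941,1997,1996,1969,1940,1969,1943,1992] .nil .nil))))) (.node [96,113,134,94,113,113,128,100] (.node [] (.node [] (.node [] .nil (.node [1137,1201,1137,1071,1137,1185,1087,1072] .nil .nil)) (.node [664,625,575,625,680,625,571,681] .nil (.node [1701,1678,1594,1603,1700,1649,1596,1649] .nil .nil))) (.node [412,414,404,328,413,369,330,411] (.node [] .nil (.node [1335,1393,1453,1333,1393,1452,1336,1449] .nil .nil)) (.node [881,940,818,943,819,942,934,831] .nil (.node [1905,1872,1936,1871,1905,1905,1905,1905] .nil .nil)))) (.node [209,213,241,277,210,275,266,217] (.node [] (.node [] .nil (.node [1265,1265,1265,1324,1265,1202,1327,1203] .nil .nil)) (.node [696,753,753,753,753,753,753,810] .nil (.node [1820,1777,1730,1821,1736,1731,1819,1806] .nil .nil))) (.node [450,448,549,497,548,497,453,543] (.node [] .nil (.node [1569,1575,1521,1481,1521,1521,1466,1521] .nil .nil)) (.node [977,948,1074,1009,1067,1009,960,945] .nil (.node [2033,2033,2033,2033,2010,2053,2011,2052] .nil .nil)))))))) (.node [9,6,9,13,9,7,12,9] (.node [] (.node [] (.node [] (.node [] (.node [] (.node [] (.node [] .nil (.node [2075,2057,2038,2074,2057,2057,2057,2043] .nil .nil)) (.node [969,1033,1053,984,1098,1095,974,1033] .nil .nil)) (.node [521,521,570,521,471,574,573,521] .nil (.node [1602,1584,1486,1493,1601,1487,1545,1596] .nil .nil))) (.node [304,234,230,305,291,231,303,265] (.node [] .nil (.node [1347,1289,1289,1289,1230,1348,1289,1289] .nil .nil)) (.node [737,719,839,777,777,717,838,777] .nil (.node [1759,1801,1801,1762,1839,1801,1765,1801] .nil .nil)))) (.node [137,137,137,137,159,116,160,122] (.node [] (.node [] .nil (.node [1225,1161,1096,1161,1219,1101,1097,1224] .nil .nil)) (.node [615,649,649,594,705,649,649,603] .nil (.node [1673,1673,1722,1625,1623,1721,1673,1633] .nil .nil))) (.node [393,393,351,393,438,430,354,435] (.node [] .nil (.node [1475,1367,1477,1357,1417,1417,1473,1417] .nil .nil)) (.node [929,843,860,967,905,844,905,905] .nil (.node [1960,1896,1929,1929,1929,1929,1953,1898] .nil .nil))))) (.node [73,73,73,60,87,73,86,73] (.node [] (.node [] (.node [] (.node [] .nil (.node [2111,2115,2121,2130,2121,2112,2128,2116] .nil .nil)) (.node [1162,1097,1031,1097,1157,1032,1161,1097] .nil .nil)) (.node [585,638,585,633,534,585,585,636] .nil (.node [1609,1609,1557,1660,1558,1609,1609,1658] .nil .nil))) (.node [291,296,329,370,304,292,368,329] (.node [] .nil (.node [1411,1292,1353,1353,1413,1353,1295,1408] .nil .nil)) (.node [798,901,904,781,841,899,841,779] .nil (.node [1865,1824,1825,1865,1901,1865,1865,1891] .nil .nil)))) (.node [232,175,173,201,231,224,181,201] (.node [] (.node [] .nil (.node [1161,1225,1238,1225,1280,1164,1162,1286] .nil .nil)) (.node [675,656,773,655,772,768,660,762] .nil (.node [1686,1737,1737,1737,1687,1784,1693,1770] .nil .nil))) (.node [505,509,493,428,411,508,457,413] (.node [] .nil (.node [1536,1539,1429,1521,1439,1481,1421,1481] .nil .nil)) (.node [1033,969,906,922,1032,1030,910,969] .nil (.node [1993,2017,1966,1993,2015,1982,1993,1970] .nil .nil)))))) (.node [51,41,32,52,41,33,50,35] (.node [] (.node [] (.node [] (.node [] (.node [] .nil (.node [2104,2100,2073,2089,2074,2103,2089,2080] .nil .nil)) (.node [1000,1065,1038,1131,1001,1129,1116,1015] .nil .nil)) (.node [516,500,501,606,502,553,601,553] .nil (.node [1629,1541,1523,1577,1577,1628,1577,1530] .nil .nil))) (.node [336,337,297,259,297,261,335,297] (.node [] .nil (.node [1381,1256,1264,1383,1257,1382,1260,1379] .nil .nil)) (.node [869,809,751,809,809,868,752,809] .nil (.node [1792,1791,1833,1852,1833,1833,1870,1794] .nil .nil)))) (.node [169,145,169,195,194,148,169,169] (.node [] (.node [] .nil (.node [1130,1259,1193,1129,1258,1131,1255,1144] .nil .nil)) (.node [722,681,629,681,739,681,681,625] .nil (.node [1659,1705,1752,1743,1661,1656,1705,1705] .nil .nil))) (.node [425,425,467,381,472,471,425,425] (.node [] .nil (.node [1391,1449,1506,1388,1449,1505,1498,1393] .nil .nil)) (.node [909,937,1000,878,877,999,990,888] .nil (.node [1961,1930,1931,1988,1961,1961,1932,1987] .nil .nil))))) (.node [91,125,124,105,105,88,105,105] (.node [] (.node [] (.node [] (.node [] .nil (.node [2153,2150,2153,2153,2153,2155,2151,2153] .nil .nil)) (.node [1064,1129,1102,1193,1129,1065,1191,1079] .nil .nil)) (.node [652,673,580,563,672,565,617,667] .nil (.node [1587,1641,1641,1588,1693,1641,1687,1641] .nil .nil))) (.node [361,361,402,327,361,361,361,323] (.node [] .nil (.node [1385,1446,1439,1327,1429,1337,1324,1385] .nil .nil)) (.node [846,931,934,873,813,933,818,873] .nil (.node [1860,1931,1930,1859,1897,1897,1861,1928] .nil .nil)))) (.node [233,264,269,205,258,211,202,268] (.node [] (.node [] .nil (.node [1319,1192,1199,1257,1321,1302,1195,1317] .nil .nil)) (.node [745,692,803,688,745,745,745,802] .nil (.node [1813,1769,1721,1769,1806,1722,1812,1736] .nil .nil))) (.node [489,538,489,441,489,537,533,444] (.node [] .nil (.node [1513,1533,1513,1513,1458,1566,1565,1513] .nil .nil)) (.node [938,1001,974,1001,1065,1001,1053,952] .nil (.node [2025,2046,2048,2001,2047,2006,2042,2025] .nil .nil))))))) (.node [25,25,33,25,20,32,25,21] (.node [] (.node [] (.node [] (.node [] (.node [] (.node [] .nil (.node [2073,2086,2089,2058,2056,2088,2073,2061] .nil .nil)) (.node [1029,1049,1112,1049,989,1111,1049,1049] .nil .nil)) (.node [537,589,537,488,588,489,587,490] .nil (.node [1561,1561,1505,1561,1612,1506,1611,1510] .nil .nil))) (.node [247,252,281,319,281,281,248,317] (.node [] .nil (.node [1366,1241,1247,1367,1242,1305,1365,1305] .nil .nil)) (.node [830,855,793,793,735,733,856,849] .nil (.node [1817,1817,1775,1851,1817,1817,1857,1785] .nil .nil)))) (.node [179,153,130,153,178,131,153,153] (.node [] (.node [] .nil (.node [1115,1177,1162,1240,1233,1116,1238,1177] .nil .nil)) (.node [697,724,610,723,665,665,611,665] .nil (.node [1637,1654,1733,1739,1638,1689,1689,1728] .nil .nil))) (.node [366,365,455,409,409,453,409,409] (.node [] .nil (.node [1494,1433,1371,1487,1374,1493,1372,1492] .nil .nil)) (.node [921,864,983,860,982,861,921,921] .nil (.node [1912,1910,1975,1945,1974,1914,1971,1945] .nil .nil))))) (.node [89,108,74,89,106,89,78,89] (.node [] (.node [] (.node [] (.node [] .nil (.node [2131,2137,2143,2137,2130,2137,2140,2133] .nil .nil)) (.node [1050,1113,1095,1113,1173,1053,1113,1113] .nil .nil)) (.node [566,547,548,656,549,653,553,647] .nil (.node [1625,1615,1625,1673,1574,1676,1625,1582] .nil .nil))) (.node [387,345,345,371,305,345,386,345] (.node [] .nil (.node [1369,1306,1422,1431,1307,1430,1369,1309] .nil .nil)) (.node [896,795,857,857,918,797,794,920] .nil (.node [1917,1842,1881,1869,1918,1844,1881,1881] .nil .nil)))) (.node [188,192,217,250,189,248,217,241] (.node [] (.node [] .nil (.node [1303,1305,1183,1294,1178,1241,1301,1241] .nil .nil)) (.node [763,788,729,671,670,789,729,676] .nil (.node [1753,1796,1790,1706,1753,1795,1707,1753] .nil .nil))) (.node [473,433,473,522,473,426,523,473] (.node [] .nil (.node [1440,1437,1497,1553,1537,1438,1552,1442] .nil .nil)) (.node [1045,1043,924,1046,925,985,985,985] .nil (.node [2009,1982,1983,2032,2009,2017,1987,1984] .nil .nil)))))) (.node [70,45,57,57,71,47,57,65] (.node [] (.node [] (.node [] (.node [] (.node [] .nil (.node [2116,2095,2092,2117,2105,2093,2105,2111] .nil .nil)) (.node [1016,1147,1081,1015,1081,1144,1081,1131] .nil .nil)) (.node [606,622,569,516,623,569,620,569] .nil (.node [1647,1624,1538,1593,1593,1646,1593,1543] .nil .nil))) (.node [276,313,354,275,353,277,351,283] (.node [] .nil (.node [1337,1396,1389,1278,1337,1385,1275,1337] .nil .nil)) (.node [790,825,825,885,825,825,765,887] .nil (.node [1808,1890,1889,1807,1809,1887,1877,1822] .nil .nil)))) (.node [185,185,185,211,160,205,159,214] (.node [] (.node [] .nil (.node [1145,1273,1209,1209,1144,1209,1269,1258] .nil .nil)) (.node [665,755,643,754,697,697,644,697] .nil (.node [1721,1721,1769,1676,1763,1673,1768,1685] .nil .nil))) (.node [441,441,396,489,397,488,482,400] (.node [] .nil (.node [1408,1406,1520,1465,1519,1465,1465,1411] .nil .nil)) (.node [918,892,1018,1013,896,953,890,1017] .nil (.node [1977,1977,1977,1947,1977,2003,1957,1977] .nil .nil))))) (.node [102,121,141,121,121,121,121,136] (.node [] (.node [] (.node [] .nil (.node [1209,1211,1085,1145,1080,1145,1207,1194] .nil .nil)) (.node [633,688,672,585,580,633,633,686] .nil (.node [1657,1657,1605,1657,1706,1611,1607,1657] .nil .nil))) (.node [335,423,422,334,377,377,336,420] (.node [] .nil (.node [1401,1343,1344,1458,1401,1345,1457,1401] .nil .nil)) (.node [952,889,827,889,951,889,889,938] .nil (.node [1913,1947,1877,1913,1882,1944,1889,1913] .nil .nil)))) (.node [283,249,249,216,284,218,282,276] (.node [] (.node [] .nil (.node [1211,1209,1273,1336,1210,1273,1333,1322] .nil .nil)) (.node [761,761,701,819,820,704,815,712] .nil (.node [1785,1785,1739,1824,1785,1785,1785,1817] .nil .nil))) (.node [457,559,558,474,456,557,505,459] (.node [] .nil (.node [1579,1486,1584,1472,1583,1473,1529,1576] .nil .nil)) (.node [981,956,1083,1077,960,1017,1067,953] .nil (.node [2041,2019,2041,2060,2041,2041,2024,2055] .nil .nil))))))))) (.node [5,3,5,5,7,5,5,5] (.node [] (.node [] (.node [] (.node [] (.node [] (.node [] (.node [] (.node [] .nil (.node [2053,2053,2053,2053,2064,2033,2053,2070] .nil .nil)) (.node [1049,1029,1094,1029,967,1093,1029,1029] .nil .nil)) (.node [555,517,471,466,570,467,567,517] .nil (.node [1597,1577,1483,1492,1541,1596,1541,1487] .nil .nil))) (.node [298,299,261,226,229,297,261,261] (.node [] .nil (.node [1223,1222,1345,1285,1228,1344,1285,1285] .nil .nil)) (.node [773,715,713,773,834,829,718,822] .nil (.node [1797,1836,1797,1834,1755,1797,1797,1797] .nil .nil)))) (.node [133,155,157,112,156,133,149,118] (.node [] (.node [] .nil (.node [1220,1157,1093,1221,1097,1094,1219,1157] .nil .nil)) (.node [596,591,700,701,645,593,698,599] .nil (.node [1626,1644,1716,1620,1715,1669,1622,1669] .nil .nil))) (.node [389,426,389,389,348,433,389,389] (.node [] .nil (.node [1470,1352,1413,1473,1353,1472,1357,1467] .nil .nil)) (.node [859,841,964,901,901,960,901,838] .nil (.node [1888,1887,1956,1925,1925,1890,1955,1900] .nil .nil))))) (.node [69,84,55,69,82,58,69,78] (.node [] (.node [] (.node [] (.node [] .nil (.node [2125,2117,2117,2105,2126,2107,2117,2122] .nil .nil)) (.node [1111,1093,1157,1093,1031,1029,1156,1093] .nil .nil)) (.node [581,528,619,581,581,634,529,632] .nil (.node [1555,1605,1657,1552,1656,1559,1553,1605] .nil .nil))) (.node [288,325,325,365,289,363,325,325] (.node [] .nil (.node [1290,1349,1339,1406,1298,1349,1349,1291] .nil .nil)) (.node [796,837,837,899,837,781,887,776] .nil (.node [1821,1900,1899,1820,1861,1822,1897,1887] .nil .nil)))) (.node [227,224,170,172,226,175,197,197] (.node [] (.node [] .nil (.node [1282,1283,1221,1157,1221,1159,1281,1221] .nil .nil)) (.node [673,652,709,768,767,655,709,758] .nil (.node [1683,1703,1689,1780,1684,1733,1733,1766] .nil .nil))) (.node [407,405,502,453,501,409,497,453] (.node [] .nil (.node [1534,1428,1417,1477,1477,1477,1530,1477] .nil .nil)) (.node [965,965,965,902,1028,1025,903,1027] .nil (.node [1989,1989,1989,1989,1962,1989,2013,2011] .nil .nil)))))) (.node [46,47,37,28,37,45,31,43] (.node [] (.node [] (.node [] (.node [] (.node [] .nil (.node [2085,2085,2085,2085,2091,2071,2070,2085] .nil .nil)) (.node [1061,1126,1061,1061,997,1124,1061,1061] .nil .nil)) (.node [513,496,497,603,601,549,502,594] .nil (.node [1523,1538,1624,1519,1573,1622,1573,1527] .nil .nil))) (.node [331,332,326,256,293,330,293,293] (.node [] .nil (.node [1377,1254,1262,1317,1379,1361,1268,1257] .nil .nil)) (.node [805,861,865,747,805,864,748,805] .nil (.node [1788,1841,1793,1867,1829,1789,1829,1829] .nil .nil)))) (.node [140,189,165,141,192,165,165,184] (.node [] (.node [] .nil (.node [1189,1189,1252,1126,1189,1251,1189,1189] .nil .nil)) (.node [716,677,627,735,677,621,736,730] .nil (.node [1649,1727,1745,1655,1749,1701,1651,1701] .nil .nil))) (.node [469,376,421,458,421,421,421,378] (.node [] .nil (.node [1445,1445,1384,1445,1445,1445,1502,1395] .nil .nil)) (.node [908,992,995,933,933,873,994,933] .nil (.node [1957,1957,1957,1926,1957,1985,1977,1933] .nil .nil))))) (.node [101,101,101,84,120,86,101,114] (.node [] (.node [] (.node [] (.node [] .nil (.node [2149,2149,2145,2152,2149,2146,2149,2149] .nil .nil)) (.node [1125,1059,1125,1184,1188,1060,1187,1125] .nil .nil)) (.node [646,669,579,558,613,667,613,565] .nil (.node [1689,1601,1583,1690,1584,1637,1637,1679] .nil .nil))) (.node [320,357,400,357,319,399,321,396] (.node [] .nil (.node [1321,1318,1381,1443,1319,1442,1322,1438] .nil .nil)) (.node [809,869,869,869,869,928,810,869] .nil (.node [1856,1893,1927,1893,1855,1893,1893,1893] .nil .nil)))) (.node [262,263,229,198,261,229,229,229] (.node [] (.node [] .nil (.node [1190,1253,1226,1315,1253,1298,1204,1191] .nil .nil)) (.node [741,741,796,741,741,684,799,683] .nil (.node [1718,1765,1765,1720,1807,1723,1801,1732] .nil .nil))) (.node [485,535,485,438,485,534,439,533] (.node [] .nil (.node [1454,1509,1563,1509,1452,1509,1509,1560] .nil .nil)) (.node [997,1062,997,935,1061,936,997,997] .nil (.node [1999,2021,2043,1997,2021,2021,2002,2038] .nil .nil))))))) (.node [21,21,28,21,16,27,17,25] (.node [] (.node [] (.node [] (.node [] (.node [] (.node [] .nil (.node [2050,2051,2069,2069,2069,2083,2069,2069] .nil .nil)) (.node [985,1105,1045,1107,986,1045,1045,1045] .nil .nil)) (.node [533,584,533,482,533,583,489,485] .nil (.node [1503,1557,1609,1598,1501,1557,1557,1606] .nil .nil))) (.node [242,277,315,241,277,313,306,250] (.node [] .nil (.node [1362,1365,1245,1352,1239,1364,1241,1360] .nil .nil)) (.node [823,850,789,730,849,729,851,735] .nil (.node [1769,1813,1813,1813,1847,1770,1854,1784] .nil .nil)))) (.node [149,173,175,127,174,170,133,149] (.node [] (.node [] .nil (.node [1112,1173,1158,1235,1113,1233,1173,1173] .nil .nil)) (.node [623,717,720,608,606,719,714,661] .nil (.node [1685,1685,1736,1636,1730,1633,1735,1721] .nil .nil))) (.node [364,453,452,363,451,365,448,405] (.node [] .nil (.node [1429,1490,1481,1429,1385,1429,1368,1429] .nil .nil)) (.node [854,917,952,863,980,917,917,974] .nil (.node [1969,1972,1941,1941,1909,1941,1911,1967] .nil .nil))))) (.node [100,85,102,71,85,85,85,96] (.node [] (.node [] (.node [] (.node [] .nil (.node [2126,2133,2139,2133,2125,2133,2133,2137] .nil .nil)) (.node [1168,1170,1047,1109,1109,1109,1109,1109] .nil .nil)) (.node [648,597,597,545,597,651,597,551] .nil (.node [1621,1570,1571,1670,1621,1572,1668,1578] .nil .nil))) (.node [383,307,302,384,367,310,341,303] (.node [] .nil (.node [1424,1301,1309,1426,1302,1425,1305,1422] .nil .nil)) (.node [888,853,916,792,791,915,853,909] .nil (.node [1840,1914,1913,1839,1843,1910,1849,1877] .nil .nil)))) (.node [183,241,213,213,184,245,235,192] (.node [] (.node [] .nil (.node [1298,1237,1175,1299,1290,1190,1237,1176] .nil .nil)) (.node [757,785,686,725,667,725,782,672] .nil (.node [1700,1773,1789,1749,1701,1793,1702,1749] .nil .nil))) (.node [421,420,519,507,469,469,469,423] (.node [] .nil (.node [1551,1493,1432,1545,1493,1433,1493,1549] .nil .nil)) (.node [1017,919,981,1040,920,981,1039,918] .nil (.node [2005,1978,2005,2029,1986,2024,2005,2005] .nil .nil)))))) (.node [43,67,66,42,53,63,53,46] (.node [] (.node [] (.node [] (.node [] (.node [] .nil (.node [2087,2090,2101,2101,2112,2101,2101,2094] .nil .nil)) (.node [1040,1077,1141,1017,1077,1077,1127,1013] .nil .nil)) (.node [600,619,528,511,565,617,515,613] .nil (.node [1589,1566,1589,1639,1535,1533,1642,1589] .nil .nil))) (.node [309,271,272,348,309,309,309,309] (.node [] .nil (.node [1272,1269,1333,1393,1270,1392,1273,1388] .nil .nil)) (.node [788,763,884,821,762,883,821,772] .nil (.node [1845,1845,1884,1845,1811,1873,1818,1805] .nil .nil)))) (.node [210,157,155,181,209,181,201,162] (.node [] (.node [] .nil (.node [1266,1268,1148,1141,1267,1205,1254,1143] .nil .nil)) (.node [693,750,693,693,746,639,693,693] .nil (.node [1717,1717,1764,1717,1670,1763,1758,1681] .nil .nil))) (.node [394,437,484,437,477,392,437,481] (.node [] .nil (.node [1405,1461,1515,1461,1461,1461,1404,1516] .nil .nil)) (.node [949,1010,885,949,1006,949,886,1012] .nil (.node [1973,2001,1943,2000,1944,1948,1996,1973] .nil .nil))))) (.node [117,98,117,138,117,117,117,132] (.node [] (.node [] (.node [] .nil (.node [1204,1141,1077,1205,1141,1141,1190,1078] .nil .nil)) (.node [629,629,681,576,684,629,629,575] .nil (.node [1599,1684,1602,1653,1703,1600,1653,1698] .nil .nil))) (.node [408,419,331,373,373,416,373,373] (.node [] .nil (.node [1340,1456,1455,1339,1397,1397,1397,1341] .nil .nil)) (.node [851,945,949,825,941,885,823,948] .nil (.node [1940,1942,1909,1874,1941,1886,1876,1939] .nil .nil)))) (.node [212,275,245,245,245,213,279,221] (.node [] (.node [] .nil (.node [1207,1333,1269,1269,1206,1332,1209,1328] .nil .nil)) (.node [725,816,757,757,699,757,811,708] .nil (.node [1825,1734,1781,1751,1823,1781,1781,1810] .nil .nil))) (.node [454,451,553,554,453,501,548,501] (.node [] .nil (.node [1472,1468,1578,1579,1525,1470,1525,1571] .nil .nil)) (.node [978,1013,1078,953,1013,1013,950,1077] .nil (.node [2037,2015,2016,2056,2017,2037,2037,2020] .nil .nil)))))))) (.node [13,13,18,9,17,10,16,13] (.node [] (.node [] (.node [] (.node [] (.node [] (.node [] (.node [] .nil (.node [2061,2077,2080,2044,2042,2079,2047,2073] .nil .nil)) (.node [1102,1037,972,1037,1037,973,1101,979] .nil .nil)) (.node [525,525,474,579,475,578,525,478] .nil (.node [1604,1549,1491,1596,1549,1492,1603,1493] .nil .nil))) (.node [308,303,233,269,295,244,234,307] (.node [] .nil (.node [1234,1356,1355,1233,1354,1235,1351,1293] .nil .nil)) (.node [739,781,781,841,722,837,781,721] .nil (.node [1805,1805,1846,1805,1768,1837,1763,1845] .nil .nil)))) (.node [119,141,121,165,141,141,141,158] (.node [] (.node [] .nil (.node [1103,1165,1204,1165,1165,1165,1226,1104] .nil .nil)) (.node [618,598,599,710,653,601,653,700] .nil (.node [1715,1648,1726,1677,1626,1725,1627,1677] .nil .nil))) (.node [397,397,355,397,441,397,435,358] (.node [] .nil (.node [1479,1482,1368,1466,1378,1360,1481,1364] .nil .nil)) (.node [937,909,973,848,847,972,968,853] .nil (.node [1933,1933,1933,1901,1933,1962,1933,1957] .nil .nil))))) (.node [64,94,93,77,63,77,88,68] (.node [] (.node [] (.node [] (.node [] .nil (.node [2117,2125,2134,2116,2133,2118,2125,2130] .nil .nil)) (.node [1164,1101,1036,1101,1101,1161,1037,1163] .nil .nil)) (.node [589,537,589,589,641,538,640,540] .nil (.node [1661,1613,1613,1613,1659,1562,1613,1613] .nil .nil))) (.node [375,367,294,376,307,333,333,295] (.node [] .nil (.node [1415,1294,1357,1417,1295,1357,1413,1357] .nil .nil)) (.node [872,784,845,783,907,845,786,845] .nil (.node [1903,1830,1835,1881,1904,1832,1869,1869] .nil .nil)))) (.node [205,205,205,233,205,185,177,236] (.node [] (.node [] .nil (.node [1170,1168,1169,1288,1229,1229,1229,1229] .nil .nil)) (.node [678,661,778,717,660,777,772,717] .nil (.node [1787,1741,1691,1741,1741,1783,1692,1786] .nil .nil))) (.node [414,412,513,423,512,461,417,507] (.node [] .nil (.node [1426,1527,1543,1424,1485,1542,1427,1538] .nil .nil)) (.node [1038,973,909,973,910,1037,1032,916] .nil (.node [1972,1969,2020,2021,1971,1997,1974,2016] .nil .nil)))))) (.node [55,57,45,35,56,37,45,52] (.node [] (.node [] (.node [] (.node [] (.node [] .nil (.node [2106,2080,2077,2107,2078,2105,2082,2100] .nil .nil)) (.node [1069,1136,1130,1003,1135,1004,1134,1019] .nil .nil)) (.node [508,612,611,524,557,505,610,510] .nil (.node [1635,1543,1527,1634,1581,1632,1532,1624] .nil .nil))) (.node [263,262,340,301,339,301,301,301] (.node [] .nil (.node [1325,1261,1379,1325,1262,1386,1276,1264] .nil .nil)) (.node [784,872,874,755,873,813,759,813] .nil (.node [1837,1837,1874,1837,1837,1805,1799,1873] .nil .nil)))) (.node [173,149,201,148,200,195,155,173] (.node [] (.node [] .nil (.node [1197,1262,1254,1133,1261,1244,1148,1134] .nil .nil)) (.node [685,743,723,630,742,685,631,685] .nil (.node [1709,1709,1661,1755,1752,1662,1709,1709] .nil .nil))) (.node [386,429,478,459,385,477,387,474] (.node [] .nil (.node [1453,1453,1393,1453,1453,1510,1395,1506] .nil .nil)) (.node [912,1002,1006,941,885,994,880,1005] .nil (.node [1936,1937,1965,1991,1965,1965,1965,1965] .nil .nil))))) (.node [125,91,109,130,109,92,109,109] (.node [] (.node [] (.node [] (.node [] .nil (.node [2157,2157,2158,2156,2157,2157,2157,2157] .nil .nil)) (.node [1133,1071,1067,1197,1074,1181,1083,1068] .nil .nil)) (.node [658,621,573,676,567,677,570,671] .nil (.node [1595,1671,1697,1606,1592,1645,1695,1598] .nil .nil))) (.node [326,409,408,325,365,405,365,365] (.node [] .nil (.node [1447,1450,1337,1389,1389,1439,1330,1389] .nil .nil)) (.node [847,877,938,816,937,877,930,827] .nil (.node [1901,1863,1864,1933,1865,1932,1901,1926] .nil .nil)))) (.node [207,272,271,206,237,237,237,237] (.node [] (.node [] .nil (.node [1261,1325,1316,1202,1197,1324,1212,1198] .nil .nil)) (.node [807,803,692,749,749,749,749,806] .nil (.node [1726,1749,1803,1816,1727,1814,1728,1773] .nil .nil))) (.node [541,545,457,493,447,544,493,449] (.node [] .nil (.node [1466,1571,1570,1479,1517,1463,1569,1468] .nil .nil)) (.node [976,1067,1071,1005,948,1057,956,941] .nil (.node [2029,2006,2050,2005,2029,2046,2029,2029] .nil .nil))))))) (.node [22,29,29,29,36,29,24,34] (.node [] (.node [] (.node [] (.node [] (.node [] (.node [] .nil (.node [2077,2061,2093,2077,2060,2092,2065,2086] .nil .nil)) (.node [991,1053,1033,1053,1116,1113,1001,1053] .nil .nil)) (.node [493,593,592,541,492,591,541,495] .nil (.node [1565,1582,1565,1565,1512,1616,1513,1615] .nil .nil))) (.node [285,285,250,285,285,322,285,315] (.node [] .nil (.node [1309,1245,1365,1371,1246,1370,1247,1369] .nil .nil)) (.node [838,738,797,797,797,857,737,859] .nil (.node [1861,1862,1821,1777,1821,1779,1860,1848] .nil .nil)))) (.node [184,181,133,134,183,157,175,140] (.node [] (.node [] .nil (.node [1181,1122,1118,1244,1181,1133,1181,1119] .nil .nil)) (.node [702,613,632,728,669,726,669,619] .nil (.node [1640,1693,1693,1693,1641,1742,1737,1693] .nil .nil))) (.node [459,463,449,386,369,462,371,457] (.node [] .nil (.node [1378,1497,1437,1437,1479,1376,1496,1380] .nil .nil)) (.node [986,983,864,925,985,865,925,925] .nil (.node [1918,1915,1979,1980,1917,1974,1949,1949] .nil .nil))))) (.node [93,112,77,111,78,93,106,82] (.node [] (.node [] (.node [] (.node [] .nil (.node [2141,2141,2135,2141,2146,2141,2138,2141] .nil .nil)) (.node [1179,1180,1056,1052,1117,1178,1066,1117] .nil .nil)) (.node [568,552,605,660,605,605,655,605] .nil (.node [1577,1597,1675,1629,1629,1680,1629,1585] .nil .nil))) (.node [310,316,349,390,349,383,317,311] (.node [] .nil (.node [1373,1373,1435,1311,1431,1373,1373,1312] .nil .nil)) (.node [861,805,922,801,861,921,802,861] .nil (.node [1846,1885,1885,1922,1854,1908,1847,1920] .nil .nil)))) (.node [191,248,221,221,221,192,252,245] (.node [] (.node [] .nil (.node [1245,1309,1301,1245,1182,1308,1183,1306] .nil .nil)) (.node [769,792,733,733,674,793,733,787] .nil (.node [1757,1771,1757,1757,1757,1757,1713,1712] .nil .nil))) (.node [431,477,527,510,437,429,477,524] (.node [] .nil (.node [1444,1501,1558,1442,1557,1443,1501,1553] .nil .nil)) (.node [967,989,1050,929,1049,930,989,989] .nil (.node [2013,2013,2013,2013,1988,2035,1989,2034] .nil .nil)))))) (.node [50,61,61,74,61,61,51,61] (.node [] (.node [] (.node [] (.node [] (.node [] .nil (.node [2098,2109,2119,2097,2109,2109,2118,2109] .nil .nil)) (.node [1085,1151,1145,1026,1019,1085,1149,1135] .nil .nil)) (.node [573,573,621,573,520,627,521,626] .nil (.node [1541,1629,1647,1550,1597,1651,1597,1546] .nil .nil))) (.node [280,286,317,355,317,317,349,281] (.node [] .nil (.node [1281,1400,1399,1280,1341,1341,1282,1397] .nil .nil)) (.node [829,770,768,829,891,773,829,879] .nil (.node [1892,1853,1811,1853,1884,1853,1826,1812] .nil .nil)))) (.node [162,165,189,189,217,189,189,210] (.node [] (.node [] .nil (.node [1213,1148,1268,1152,1276,1213,1262,1150] .nil .nil)) (.node [651,701,761,645,760,648,756,654] .nil (.node [1760,1699,1772,1725,1725,1677,1725,1725] .nil .nil))) (.node [445,401,445,445,445,445,491,486] (.node [] .nil (.node [1469,1526,1409,1469,1410,1524,1414,1518] .nil .nil)) (.node [957,1018,892,1022,900,957,893,1021] .nil (.node [2008,1981,1951,1981,1964,2004,1981,1981] .nil .nil))))) (.node [109,105,146,147,125,107,125,125] (.node [] (.node [] (.node [] .nil (.node [1149,1215,1207,1090,1084,1214,1085,1212] .nil .nil)) (.node [637,583,637,637,691,584,690,586] .nil (.node [1613,1661,1709,1661,1705,1610,1661,1661] .nil .nil))) (.node [381,338,339,425,340,424,381,381] (.node [] .nil (.node [1461,1405,1405,1405,1405,1405,1348,1462] .nil .nil)) (.node [893,954,830,958,836,831,957,942] .nil (.node [1881,1879,1950,1903,1949,1883,1917,1917] .nil .nil)))) (.node [253,253,288,223,222,287,253,253] (.node [] (.node [] .nil (.node [1277,1214,1334,1277,1277,1215,1277,1338] .nil .nil)) (.node [730,765,765,823,765,705,825,716] .nil (.node [1744,1803,1749,1831,1745,1829,1746,1789] .nil .nil))) (.node [559,457,545,509,458,562,509,463] (.node [] .nil (.node [1533,1513,1533,1586,1476,1589,1582,1533] .nil .nil)) (.node [1021,1083,956,1087,963,1021,1071,957] .nil (.node [2023,2045,2063,2045,2045,2045,2028,2059] .nil .nil)))))))))) (.node [3,5,3,2,4,3,3,3] (.node [] (.node [] (.node [] (.node [] (.node [] (.node [] (.node [] (.node [] (.node [] .nil (.node [2030,2069,2051,2031,2051,2068,2051,2051] .nil .nil)) (.node [1027,1027,1027,964,1091,1089,1027,965] .nil .nil)) (.node [552,568,479,464,515,515,565,515] .nil (.node [1591,1481,1490,1594,1499,1539,1482,1539] .nil .nil))) (.node [296,291,225,297,234,226,295,259] (.node [] .nil (.node [1344,1221,1283,1283,1283,1223,1342,1283] .nil .nil)) (.node [771,771,711,832,712,771,771,820] .nil (.node [1795,1835,1830,1752,1834,1753,1795,1795] .nil .nil)))) (.node [154,131,110,131,131,153,115,131] (.node [] (.node [] .nil (.node [1155,1155,1155,1155,1216,1091,1217,1092] .nil .nil)) (.node [595,698,697,643,643,643,591,643] .nil (.node [1667,1694,1667,1667,1618,1713,1667,1617] .nil .nil))) (.node [345,387,432,415,344,387,429,387] (.node [] .nil (.node [1353,1351,1471,1411,1470,1411,1356,1465] .nil .nil)) (.node [858,960,963,837,956,841,948,835] .nil (.node [1955,1886,1923,1923,1923,1942,1888,1953] .nil .nil))))) (.node [54,53,81,67,67,79,67,59] (.node [] (.node [] (.node [] (.node [] .nil (.node [2103,2121,2115,2115,2115,2104,2124,2108] .nil .nil)) (.node [1091,1091,1091,1091,1027,1155,1091,1028] .nil .nil)) (.node [579,632,613,525,579,631,579,528] .nil (.node [1655,1603,1548,1649,1603,1603,1549,1603] .nil .nil))) (.node [323,323,362,290,323,323,287,361] (.node [] .nil (.node [1289,1347,1403,1347,1288,1404,1347,1347] .nil .nil)) (.node [795,896,900,776,892,779,774,899] .nil (.node [1819,1859,1859,1897,1827,1859,1820,1895] .nil .nil)))) (.node [195,170,224,169,223,173,195,195] (.node [] (.node [] .nil (.node [1280,1219,1156,1281,1161,1219,1157,1279] .nil .nil)) (.node [760,707,707,707,651,707,766,659] .nil (.node [1778,1731,1681,1779,1682,1777,1731,1764] .nil .nil))) (.node [406,501,500,451,405,451,495,451] (.node [] .nil (.node [1417,1427,1532,1415,1475,1475,1527,1475] .nil .nil)) (.node [963,1024,899,963,1021,904,1012,900] .nil (.node [1987,1959,1960,2012,1987,1987,2009,1961] .nil .nil)))))) (.node [44,35,27,45,35,28,35,41] (.node [] (.node [] (.node [] (.node [] (.node [] .nil (.node [2066,2068,2083,2083,2097,2069,2094,2083] .nil .nil)) (.node [1059,1125,1059,995,1124,996,1123,1059] .nil .nil)) (.node [511,601,495,600,496,598,500,592] .nil (.node [1522,1517,1621,1622,1571,1519,1620,1525] .nil .nil))) (.node [329,259,255,330,265,256,328,291] (.node [] .nil (.node [1254,1377,1315,1253,1376,1359,1266,1255] .nil .nil)) (.node [863,749,745,854,803,803,803,862] .nil (.node [1783,1827,1827,1827,1859,1787,1784,1866] .nil .nil)))) (.node [163,187,191,142,163,139,190,182] (.node [] (.node [] .nil (.node [1187,1123,1187,1246,1250,1138,1125,1249] .nil .nil)) (.node [713,620,675,619,734,732,622,728] .nil (.node [1743,1725,1748,1659,1699,1648,1699,1699] .nil .nil))) (.node [455,373,374,467,419,466,419,419] (.node [] .nil (.node [1383,1443,1502,1381,1443,1501,1384,1498] .nil .nil)) (.node [907,873,993,990,872,992,878,931] .nil (.node [1923,1922,1984,1955,1955,1971,1925,1983] .nil .nil))))) (.node [99,82,83,118,84,99,99,112] (.node [] (.node [] (.node [] (.node [] .nil (.node [2147,2151,2147,2143,2147,2147,2150,2144] .nil .nil)) (.node [1123,1187,1123,1058,1186,1072,1059,1185] .nil .nil)) (.node [644,668,557,667,611,558,665,563] .nil (.node [1581,1600,1585,1687,1635,1684,1588,1675] .nil .nil))) (.node [318,355,397,317,396,355,390,319] (.node [] .nil (.node [1438,1316,1325,1441,1317,1440,1331,1321] .nil .nil)) (.node [867,867,927,924,808,867,867,867] .nil (.node [1891,1851,1852,1891,1926,1891,1919,1865] .nil .nil)))) (.node [197,257,227,199,260,204,227,227] (.node [] (.node [] .nil (.node [1251,1251,1313,1188,1310,1189,1312,1251] .nil .nil)) (.node [781,739,684,798,681,796,739,680] .nil (.node [1763,1763,1806,1763,1721,1717,1805,1730] .nil .nil))) (.node [531,483,483,483,526,442,436,483] (.node [] .nil (.node [1559,1507,1507,1450,1562,1555,1451,1507] .nil .nil)) (.node [995,1055,933,1059,995,934,1058,995] .nil (.node [2019,2041,2019,1996,2019,2019,2000,2036] .nil .nil))))))) (.node [14,19,19,19,19,24,19,19] (.node [] (.node [] (.node [] (.node [] (.node [] (.node [] .nil (.node [2084,2082,2047,2067,2048,2067,2080,2067] .nil .nil)) (.node [1105,985,982,1106,983,1043,1043,1043] .nil .nil)) (.node [483,531,582,531,577,487,481,531] .nil (.node [1605,1555,1555,1499,1608,1507,1500,1555] .nil .nil))) (.node [240,245,275,313,275,241,311,248] (.node [] .nil (.node [1359,1361,1244,1237,1360,1254,1299,1239] .nil .nil)) (.node [818,848,787,787,727,849,846,733] .nil (.node [1811,1811,1853,1771,1845,1811,1782,1768] .nil .nil)))) (.node [130,147,172,125,171,128,147,147] (.node [] (.node [] .nil (.node [1156,1171,1232,1171,1114,1171,1111,1231] .nil .nil)) (.node [711,659,659,659,604,659,659,707] .nil (.node [1733,1652,1631,1734,1632,1683,1683,1719] .nil .nil))) (.node [362,403,403,448,403,403,363,446] (.node [] .nil (.node [1367,1475,1488,1366,1427,1427,1485,1427] .nil .nil)) (.node [950,915,979,855,915,853,978,972] .nil (.node [1966,1968,1939,1907,1967,1921,1939,1909] .nil .nil))))) (.node [71,68,99,100,70,83,83,94] (.node [] (.node [] (.node [] (.node [] .nil (.node [2137,2131,2131,2131,2122,2131,2136,2126] .nil .nil)) (.node [1046,1169,1168,1045,1107,1107,1107,1107] .nil .nil)) (.node [643,650,561,595,595,595,544,595] .nil (.node [1619,1668,1569,1619,1619,1619,1570,1619] .nil .nil))) (.node [299,298,381,374,301,380,339,339] (.node [] .nil (.node [1302,1300,1363,1363,1424,1319,1304,1420] .nil .nil)) (.node [885,913,851,790,912,851,789,914] .nil (.node [1838,1875,1875,1910,1875,1839,1908,1875] .nil .nil)))) (.node [211,239,244,185,211,233,182,243] (.node [] (.node [] .nil (.node [1174,1297,1296,1173,1235,1293,1235,1235] .nil .nil)) (.node [754,783,685,665,782,723,667,723] .nil (.node [1791,1792,1707,1697,1747,1747,1790,1704] .nil .nil))) (.node [504,467,425,419,518,517,467,467] (.node [] .nil (.node [1491,1491,1549,1430,1491,1431,1548,1432] .nil .nil)) (.node [1042,979,915,979,979,916,1041,1037] .nil (.node [2003,2003,2003,1975,2027,1977,2022,2003] .nil .nil)))))) (.node [41,51,51,63,51,42,61,44] (.node [] (.node [] (.node [] (.node [] (.node [] .nil (.node [2099,2088,2111,2099,2099,2086,2110,2092] .nil .nil)) (.node [1075,1075,1075,1010,1140,1075,1011,1139] .nil .nil)) (.node [598,618,510,617,563,511,563,611] .nil (.node [1641,1587,1531,1532,1640,1587,1634,1587] .nil .nil))) (.node [347,341,268,307,333,278,307,269] (.node [] .nil (.node [1388,1267,1276,1391,1268,1390,1379,1272] .nil .nil)) (.node [819,879,759,761,881,764,874,770] .nil (.node [1804,1883,1882,1803,1877,1879,1809,1843] .nil .nil)))) (.node [153,179,199,179,206,154,179,179] (.node [] (.node [] .nil (.node [1203,1203,1203,1263,1203,1140,1203,1265] .nil .nil)) (.node [691,636,691,748,637,691,747,638] .nil (.node [1677,1695,1761,1715,1669,1760,1671,1715] .nil .nil))) (.node [435,435,390,435,482,475,397,393] (.node [] .nil (.node [1459,1478,1459,1403,1402,1514,1459,1459] .nil .nil)) (.node [947,947,947,884,947,1011,947,898] .nil (.node [1942,1940,1998,1971,1997,1955,1945,1994] .nil .nil))))) (.node [136,115,96,115,115,115,131,102] (.node [] (.node [] (.node [] .nil (.node [1139,1139,1139,1074,1202,1139,1089,1075] .nil .nil)) (.node [627,627,677,627,627,573,683,682] .nil (.node [1596,1680,1698,1604,1702,1597,1701,1602] .nil .nil))) (.node [415,418,406,345,330,371,413,371] (.node [] .nil (.node [1395,1395,1336,1395,1395,1395,1453,1445] .nil .nil)) (.node [850,823,946,883,939,821,945,833] .nil (.node [1938,1907,1873,1939,1907,1884,1907,1874] .nil .nil)))) (.node [243,273,278,214,243,268,219,211] (.node [] (.node [] .nil (.node [1328,1331,1212,1267,1205,1330,1316,1207] .nil .nil)) (.node [724,697,698,813,755,755,700,755] .nil (.node [1822,1823,1779,1731,1734,1821,1779,1808] .nil .nil))) (.node [548,449,463,551,450,550,454,545] (.node [] .nil (.node [1573,1483,1577,1467,1523,1576,1523,1473] .nil .nil)) (.node [1011,1011,1011,946,1076,947,1075,962] .nil (.node [2035,2035,2035,2035,2035,2013,2035,2054] .nil .nil)))))))) (.node [11,15,11,11,11,11,11,8] (.node [] (.node [] (.node [] (.node [] (.node [] (.node [] (.node [] .nil (.node [2040,2059,2075,2059,2059,2059,2059,2045] .nil .nil)) (.node [1057,1099,1035,1035,1035,976,1035,971] .nil .nil)) (.node [523,480,523,575,523,523,473,576] .nil (.node [1488,1588,1489,1547,1547,1547,1600,1547] .nil .nil))) (.node [306,267,267,231,267,305,242,267] (.node [] .nil (.node [1232,1291,1280,1351,1238,1291,1233,1349] .nil .nil)) (.node [738,838,842,721,779,835,719,841] .nil (.node [1761,1789,1773,1843,1762,1841,1766,1803] .nil .nil)))) (.node [139,161,164,120,118,163,139,156] (.node [] (.node [] .nil (.node [1226,1163,1100,1163,1163,1224,1103,1101] .nil .nil)) (.node [701,651,651,596,707,597,706,604] .nil (.node [1624,1647,1629,1723,1675,1720,1675,1635] .nil .nil))) (.node [395,395,353,439,354,395,438,360] (.node [] .nil (.node [1360,1480,1419,1463,1359,1479,1419,1362] .nil .nil)) (.node [931,846,907,968,845,970,848,907] .nil (.node [1898,1897,1961,1931,1931,1931,1900,1960] .nil .nil))))) (.node [88,92,75,75,62,91,64,75] (.node [] (.node [] (.node [] (.node [] .nil (.node [2113,2123,2132,2112,2123,2130,2123,2118] .nil .nil)) (.node [1118,1035,1099,1160,1099,1039,1099,1034] .nil .nil)) (.node [587,640,587,536,639,635,537,587] .nil (.node [1611,1611,1559,1611,1662,1657,1561,1611] .nil .nil))) (.node [293,374,373,292,331,370,331,331] (.node [] .nil (.node [1355,1416,1293,1343,1414,1296,1410,1355] .nil .nil)) (.node [870,905,800,843,843,782,843,843] .nil (.node [1830,1903,1867,1829,1902,1831,1867,1867] .nil .nil)))) (.node [235,231,174,203,175,234,183,203] (.node [] (.node [] .nil (.node [1227,1287,1166,1227,1284,1227,1227,1227] .nil .nil)) (.node [715,773,656,657,775,770,662,764] .nil (.node [1690,1739,1785,1689,1739,1739,1739,1775] .nil .nil))) (.node [413,512,511,429,412,510,415,505] (.node [] .nil (.node [1538,1523,1541,1422,1483,1540,1483,1426] .nil .nil)) (.node [994,1034,971,971,971,912,908,1035] .nil (.node [2016,1967,1995,2018,1968,1995,1995,1972] .nil .nil)))))) (.node [53,54,43,33,43,52,43,37] (.node [] (.node [] (.node [] (.node [] (.node [] .nil (.node [2091,2091,2091,2102,2085,2091,2076,2091] .nil .nil)) (.node [1039,1005,1133,1127,1009,1118,1017,1002] .nil .nil)) (.node [517,555,555,502,608,504,603,555] .nil (.node [1529,1542,1632,1525,1631,1527,1579,1622] .nil .nil))) (.node [339,261,299,332,263,337,299,299] (.node [] .nil (.node [1384,1323,1323,1260,1323,1323,1383,1274] .nil .nil)) (.node [782,871,811,811,754,870,757,811] .nil (.node [1835,1795,1869,1835,1871,1796,1835,1835] .nil .nil)))) (.node [152,171,198,171,147,171,171,171] (.node [] (.node [] .nil (.node [1259,1130,1136,1195,1260,1132,1257,1146] .nil .nil)) (.node [683,683,736,683,683,628,627,741] .nil (.node [1707,1754,1747,1658,1707,1707,1753,1660] .nil .nil))) (.node [384,427,475,383,474,390,427,385] (.node [] .nil (.node [1505,1451,1451,1390,1508,1391,1507,1394] .nil .nil)) (.node [911,880,1003,999,883,878,1002,890] .nil (.node [1935,1963,1990,1934,1980,1963,1963,1963] .nil .nil))))) (.node [92,88,127,128,90,125,94,107] (.node [] (.node [] (.node [] (.node [] .nil (.node [2155,2152,2155,2155,2156,2153,2155,2155] .nil .nil)) (.node [1066,1196,1131,1065,1131,1193,1179,1081] .nil .nil)) (.node [655,565,581,675,619,673,568,669] .nil (.node [1643,1618,1643,1643,1694,1643,1643,1590] .nil .nil))) (.node [324,363,363,405,363,325,403,363] (.node [] .nil (.node [1330,1448,1387,1387,1387,1328,1447,1332] .nil .nil)) (.node [826,875,935,875,875,814,875,875] .nil (.node [1899,1932,1861,1899,1899,1863,1930,1924] .nil .nil)))) (.node [203,266,235,235,204,270,213,235] (.node [] (.node [] .nil (.node [1195,1193,1259,1259,1322,1196,1319,1210] .nil .nil)) (.node [747,689,747,805,690,804,691,747] .nil (.node [1771,1757,1771,1811,1771,1771,1738,1724] .nil .nil))) (.node [491,444,491,491,491,540,445,538] (.node [] .nil (.node [1515,1515,1461,1567,1515,1515,1460,1568] .nil .nil)) (.node [1003,942,939,1069,946,940,1068,954] .nil (.node [2027,2027,2027,2047,2003,2027,2044,2027] .nil .nil))))))) (.node [27,27,35,27,27,21,27,32] (.node [] (.node [] (.node [] (.node [] (.node [] (.node [] .nil (.node [2057,2075,2059,2090,2075,2075,2075,2063] .nil .nil)) (.node [1031,1051,1115,992,1111,990,1114,1051] .nil .nil)) (.node [539,590,539,539,490,539,539,588] .nil (.node [1563,1563,1509,1614,1510,1563,1563,1612] .nil .nil))) (.node [249,283,322,248,321,250,319,313] (.node [] .nil (.node [1307,1244,1361,1249,1369,1262,1307,1246] .nil .nil)) (.node [835,857,795,736,856,738,735,858] .nil (.node [1859,1819,1776,1860,1783,1819,1777,1858] .nil .nil)))) (.node [155,133,181,132,180,155,173,138] (.node [] (.node [] .nil (.node [1117,1243,1179,1116,1179,1240,1131,1179] .nil .nil)) (.node [699,726,631,611,725,613,723,617] .nil (.node [1691,1691,1741,1642,1691,1735,1639,1740] .nil .nil))) (.node [456,458,447,367,457,411,411,369] (.node [] .nil (.node [1495,1435,1373,1435,1492,1435,1435,1374] .nil .nil)) (.node [862,866,923,974,923,923,984,863] .nil (.node [1947,1913,1914,1977,1919,1975,1926,1947] .nil .nil))))) (.node [105,109,91,91,91,75,91,91] (.node [] (.node [] (.node [] (.node [] .nil (.node [2139,2139,2133,2144,2134,2139,2139,2143] .nil .nil)) (.node [1177,1115,1051,1178,1172,1052,1176,1115] .nil .nil)) (.node [567,603,603,549,658,603,555,649] .nil (.node [1671,1595,1679,1627,1576,1627,1677,1583] .nil .nil))) (.node [307,383,347,347,375,316,347,308] (.node [] .nil (.node [1371,1371,1433,1309,1312,1432,1310,1431] .nil .nil)) (.node [901,798,859,859,859,920,859,797] .nil (.node [1844,1843,1919,1870,1914,1917,1852,1883] .nil .nil)))) (.node [219,246,251,193,219,219,243,190] (.node [] (.node [] .nil (.node [1180,1179,1243,1243,1243,1304,1196,1243] .nil .nil)) (.node [767,672,688,791,673,731,731,785] .nil (.node [1755,1798,1755,1709,1797,1710,1755,1755] .nil .nil))) (.node [475,475,427,475,525,435,475,430] (.node [] .nil (.node [1552,1439,1446,1555,1539,1450,1440,1499] .nil .nil)) (.node [927,987,987,1047,928,987,987,987] .nil (.node [2011,2011,2011,2011,1985,2011,2033,1989] .nil .nil)))))) (.node [47,46,72,59,59,70,49,67] (.node [] (.node [] (.node [] (.node [] (.node [] .nil (.node [2118,2107,2107,2093,2107,2117,2098,2113] .nil .nil)) (.node [1083,1021,1017,1148,1024,1083,1133,1018] .nil .nil)) (.node [609,571,522,571,624,518,625,571] .nil (.node [1645,1627,1650,1556,1540,1595,1648,1544] .nil .nil))) (.node [315,315,277,315,315,354,346,285] (.node [] .nil (.node [1279,1339,1349,1397,1286,1339,1339,1280] .nil .nil)) (.node [791,827,889,767,888,827,827,877] .nil (.node [1851,1891,1809,1817,1889,1851,1882,1824] .nil .nil)))) (.node [187,163,216,187,187,161,215,208] (.node [] (.node [] .nil (.node [1273,1145,1151,1274,1146,1211,1272,1260] .nil .nil)) (.node [667,758,699,644,757,646,754,652] .nil (.node [1674,1723,1723,1675,1770,1765,1723,1687] .nil .nil))) (.node [443,443,399,490,443,400,443,488] (.node [] .nil (.node [1519,1407,1467,1523,1408,1522,1467,1413] .nil .nil)) (.node [955,1020,1016,891,955,1019,955,1004] .nil (.node [1979,1948,1949,2006,1950,2001,1979,1979] .nil .nil))))) (.node [123,123,123,123,123,143,104,144] (.node [] (.node [] (.node [] .nil (.node [1082,1081,1147,1147,1147,1210,1147,1196] .nil .nil)) (.node [635,690,635,582,689,587,583,635] .nil (.node [1705,1659,1659,1699,1613,1608,1659,1659] .nil .nil))) (.node [379,424,336,379,379,338,422,379] (.node [] .nil (.node [1403,1403,1347,1459,1346,1460,1403,1403] .nil .nil)) (.node [891,831,828,955,829,954,891,940] .nil (.node [1880,1949,1948,1915,1879,1943,1915,1915] .nil .nil)))) (.node [286,280,219,251,251,251,278,220] (.node [] (.node [] .nil (.node [1275,1338,1330,1216,1275,1212,1337,1214] .nil .nil)) (.node [729,821,824,705,703,823,763,714] .nil (.node [1741,1787,1787,1787,1787,1827,1742,1828] .nil .nil))) (.node [458,456,560,469,559,507,507,461] (.node [] .nil (.node [1531,1531,1587,1474,1586,1531,1580,1531] .nil .nil)) (.node [1019,1086,1080,954,1085,955,1084,1069] .nil (.node [2063,2043,2021,2062,2043,2043,2026,2057] .nil .nil))))))))) (.node [7,4,7,10,5,9,7,7] (.node [] (.node [] (.node [] (.node [] (.node [] (.node [] (.node [] (.node [] .nil (.node [2055,2036,2055,2072,2055,2055,2055,2041] .nil .nil)) (.node [1051,1031,1097,970,1093,968,1096,1031] .nil .nil)) (.node [519,468,469,572,519,519,519,470] .nil (.node [1600,1581,1485,1543,1543,1599,1488,1593] .nil .nil))) (.node [301,229,263,263,299,263,263,263] (.node [] .nil (.node [1287,1227,1228,1346,1345,1287,1287,1287] .nil .nil)) (.node [775,834,714,775,715,836,720,824] .nil (.node [1799,1799,1838,1799,1799,1758,1837,1799] .nil .nil)))) (.node [135,135,135,156,114,159,151,120] (.node [] (.node [] .nil (.node [1222,1223,1159,1094,1106,1221,1159,1159] .nil .nil)) (.node [614,592,593,703,594,700,647,601] .nil (.node [1627,1645,1719,1671,1622,1671,1715,1631] .nil .nil))) (.node [434,391,391,391,350,436,356,352] (.node [] .nil (.node [1357,1354,1474,1475,1356,1415,1470,1415] .nil .nil)) (.node [903,903,903,839,966,840,965,903] .nil (.node [1927,1927,1893,1958,1894,1927,1927,1927] .nil .nil))))) (.node [83,56,71,85,57,71,71,80] (.node [] (.node [] (.node [] (.node [] .nil (.node [2119,2119,2109,2119,2119,2119,2127,2119] .nil .nil)) (.node [1030,1095,1113,1044,1158,1033,1095,1095] .nil .nil)) (.node [583,637,583,532,636,533,635,534] .nil (.node [1607,1607,1553,1607,1658,1554,1657,1558] .nil .nil))) (.node [327,294,367,361,302,327,327,290] (.node [] .nil (.node [1292,1411,1410,1291,1409,1351,1293,1406] .nil .nil)) (.node [839,780,777,903,839,778,902,839] .nil (.node [1863,1901,1822,1863,1824,1899,1863,1889] .nil .nil)))) (.node [172,199,179,227,228,176,199,199] (.node [] (.node [] .nil (.node [1285,1159,1223,1223,1167,1283,1223,1223] .nil .nil)) (.node [659,711,771,711,654,711,711,760] .nil (.node [1735,1735,1783,1688,1776,1691,1685,1782] .nil .nil))) (.node [419,408,409,504,455,502,455,455] (.node [] .nil (.node [1421,1537,1479,1517,1437,1419,1536,1423] .nil .nil)) (.node [989,967,1030,905,1029,906,967,967] .nil (.node [1964,1991,2014,1965,2008,1991,1991,1991] .nil .nil)))))) (.node [49,31,39,39,39,39,47,39] (.node [] (.node [] (.node [] (.node [] (.node [] .nil (.node [2101,2074,2072,2087,2100,2087,2087,2078] .nil .nil)) (.node [1036,1063,1128,1002,1063,1114,999,1127] .nil .nil)) (.node [602,551,551,499,551,604,503,597] .nil (.node [1620,1521,1575,1626,1575,1575,1522,1575] .nil .nil))) (.node [334,328,258,335,269,295,259,333] (.node [] .nil (.node [1257,1255,1319,1319,1381,1363,1259,1377] .nil .nil)) (.node [749,863,807,807,807,807,807,866] .nil (.node [1790,1870,1831,1789,1831,1867,1791,1831] .nil .nil)))) (.node [167,167,167,167,193,144,186,143] (.node [] (.node [] .nil (.node [1128,1191,1164,1255,1191,1238,1129,1253] .nil .nil)) (.node [719,737,679,624,679,623,738,679] .nil (.node [1652,1733,1654,1750,1653,1703,1703,1746] .nil .nil))) (.node [378,377,470,461,423,423,380,469] (.node [] .nil (.node [1389,1504,1447,1447,1447,1496,1387,1447] .nil .nil)) (.node [935,935,875,997,935,876,935,935] .nil (.node [1959,1987,1928,1959,1959,1959,1982,1930] .nil .nil))))) (.node [103,103,103,103,86,122,87,116] (.node [] (.node [] (.node [] (.node [] .nil (.node [2151,2147,2151,2151,2151,2151,2153,2148] .nil .nil)) (.node [1100,1127,1190,1067,1127,1175,1077,1063] .nil .nil)) (.node [649,615,572,560,671,615,615,567] .nil (.node [1639,1639,1692,1589,1639,1586,1691,1639] .nil .nil))) (.node [399,359,359,359,359,320,359,398] (.node [] .nil (.node [1443,1383,1383,1321,1383,1444,1323,1441] .nil .nil)) (.node [844,811,871,930,812,929,816,871] .nil (.node [1858,1895,1895,1928,1866,1895,1920,1859] .nil .nil)))) (.node [266,203,200,267,201,265,209,231] (.node [] (.node [] .nil (.node [1192,1319,1255,1191,1318,1300,1193,1315] .nil .nil)) (.node [743,685,783,743,801,743,687,743] .nil (.node [1809,1810,1767,1719,1808,1767,1804,1734] .nil .nil))) (.node [442,487,536,487,487,531,440,487] (.node [] .nil (.node [1511,1455,1456,1564,1511,1511,1511,1457] .nil .nil)) (.node [972,999,1064,939,999,937,1063,950] .nil (.node [2045,2023,1999,2023,2023,2023,2004,2040] .nil .nil))))))) (.node [30,23,17,31,18,23,28,23] (.node [] (.node [] (.node [] (.node [] (.node [] (.node [] .nil (.node [2071,2071,2071,2071,2071,2085,2054,2071] .nil .nil)) (.node [988,1110,1109,987,1047,1047,1047,1047] .nil .nil)) (.node [535,485,535,535,535,586,486,584] .nil (.node [1507,1559,1611,1504,1610,1605,1505,1559] .nil .nil))) (.node [244,311,279,279,279,308,245,316] (.node [] .nil (.node [1241,1366,1303,1354,1240,1303,1362,1303] .nil .nil)) (.node [827,791,854,731,853,791,791,847] .nil (.node [1855,1815,1815,1772,1856,1774,1815,1815] .nil .nil)))) (.node [151,151,151,174,129,177,135,151] (.node [] (.node [] .nil (.node [1160,1175,1237,1118,1231,1127,1175,1114] .nil .nil)) (.node [624,663,663,719,609,608,721,663] .nil (.node [1634,1687,1687,1635,1737,1732,1641,1723] .nil .nil))) (.node [453,364,372,407,454,366,450,407] (.node [] .nil (.node [1431,1431,1492,1369,1373,1491,1431,1371] .nil .nil)) (.node [956,981,919,919,858,919,976,856] .nil (.node [1911,1974,1973,1943,1910,1915,1969,1943] .nil .nil))))) (.node [87,87,87,87,73,104,103,87] (.node [] (.node [] (.node [] (.node [] .nil (.node [2129,2135,2141,2128,2140,2135,2130,2135] .nil .nil)) (.node [1093,1111,1172,1111,1051,1049,1171,1111] .nil .nil)) (.node [550,546,653,654,599,548,599,645] .nil (.node [1623,1623,1674,1572,1673,1670,1623,1580] .nil .nil))) (.node [385,343,343,303,386,312,305,384] (.node [] .nil (.node [1427,1417,1428,1305,1367,1367,1426,1367] .nil .nil)) (.node [890,793,855,915,794,792,918,911] .nil (.node [1842,1917,1916,1841,1915,1843,1879,1879] .nil .nil)))) (.node [215,190,247,215,215,215,187,246] (.node [] (.node [] .nil (.node [1300,1302,1182,1176,1301,1192,1178,1299] .nil .nil)) (.node [759,786,727,668,787,670,784,674] .nil (.node [1794,1704,1708,1781,1751,1751,1751,1792] .nil .nil))) (.node [471,471,517,424,521,425,520,471] (.node [] .nil (.node [1435,1495,1495,1495,1550,1495,1495,1436] .nil .nil)) (.node [1044,925,921,1030,1043,922,983,983] .nil (.node [2031,2007,1980,2030,1990,2026,2007,2007] .nil .nil)))))) (.node [45,70,69,44,68,46,55,63] (.node [] (.node [] (.node [] (.node [] (.node [] .nil (.node [2115,2111,2088,2103,2103,2089,2114,2095] .nil .nil)) (.node [1014,1079,1042,1144,1079,1015,1142,1129] .nil .nil)) (.node [603,567,520,513,621,567,517,615] .nil (.node [1539,1536,1591,1644,1552,1591,1537,1591] .nil .nil))) (.node [274,279,311,351,311,342,275,349] (.node [] .nil (.node [1393,1335,1335,1272,1335,1394,1274,1391] .nil .nil)) (.node [789,883,886,765,880,763,885,774] .nil (.node [1806,1847,1847,1887,1813,1807,1885,1820] .nil .nil)))) (.node [213,209,156,183,157,212,203,164] (.node [] (.node [] .nil (.node [1269,1272,1149,1207,1143,1271,1145,1267] .nil .nil)) (.node [695,695,752,641,695,695,751,642] .nil (.node [1766,1697,1671,1767,1672,1719,1761,1683] .nil .nil))) (.node [439,486,439,395,439,439,485,401] (.node [] .nil (.node [1407,1519,1518,1419,1406,1517,1463,1409] .nil .nil)) (.node [1015,951,888,1016,889,1014,951,1000] .nil (.node [1975,1944,1945,2003,2001,1947,1998,1975] .nil .nil))))) (.node [141,119,100,140,119,119,119,134] (.node [] (.node [] (.node [] .nil (.node [1206,1208,1084,1078,1207,1143,1080,1205] .nil .nil)) (.node [631,687,667,578,686,579,685,580] .nil (.node [1603,1655,1655,1701,1655,1655,1604,1655] .nil .nil))) (.node [333,410,375,420,347,375,375,334] (.node [] .nil (.node [1399,1457,1341,1410,1399,1399,1343,1455] .nil .nil)) (.node [852,887,887,948,887,887,837,825] .nil (.node [1943,1946,1911,1911,1876,1880,1941,1911] .nil .nil)))) (.node [281,220,215,282,247,247,216,280] (.node [] (.node [] .nil (.node [1332,1334,1214,1271,1271,1207,1271,1330] .nil .nil)) (.node [727,817,819,700,818,703,813,710] .nil (.node [1827,1783,1735,1783,1819,1741,1736,1826] .nil .nil))) (.node [554,503,503,454,503,503,551,503] (.node [] .nil (.node [1473,1485,1581,1470,1527,1579,1475,1573] .nil .nil)) (.node [951,1015,980,1081,952,1079,1015,1065] .nil (.node [2039,2039,2039,2017,2058,2032,2039,2022] .nil .nil)))))))) (.node [15,11,15,20,15,15,15,12] (.node [] (.node [] (.node [] (.node [] (.node [] (.node [] (.node [] .nil (.node [2043,2063,2045,2081,2063,2063,2049,2075] .nil .nil)) (.node [1067,976,1039,1100,977,1099,981,975] .nil .nil)) (.node [527,527,477,580,484,478,527,578] .nil (.node [1493,1551,1551,1602,1551,1494,1551,1604] .nil .nil))) (.node [271,309,237,300,271,271,271,271] (.node [] .nil (.node [1356,1234,1295,1295,1357,1236,1353,1295] .nil .nil)) (.node [812,723,743,845,844,783,726,783] .nil (.node [1764,1807,1807,1849,1765,1847,1839,1778] .nil .nil)))) (.node [143,143,143,143,166,123,122,167] (.node [] (.node [] .nil (.node [1228,1106,1167,1108,1223,1167,1167,1167] .nil .nil)) (.node [619,600,655,713,655,709,605,702] .nil (.node [1728,1650,1627,1729,1628,1679,1726,1637] .nil .nil))) (.node [359,399,443,399,399,357,399,440] (.node [] .nil (.node [1364,1484,1423,1468,1380,1362,1423,1479] .nil .nil)) (.node [939,849,911,972,850,848,975,855] .nil (.node [1963,1935,1964,1904,1951,1935,1935,1935] .nil .nil))))) (.node [65,63,95,79,94,67,90,70] (.node [] (.node [] (.node [] (.node [] .nil (.node [2127,2127,2118,2127,2127,2134,2119,2132] .nil .nil)) (.node [1165,1103,1040,1103,1103,1103,1163,1041] .nil .nil)) (.node [544,645,644,591,591,541,643,546] .nil (.node [1615,1625,1615,1615,1564,1665,1615,1565] .nil .nil))) (.node [377,378,335,295,335,335,297,376] (.node [] .nil (.node [1299,1420,1359,1298,1419,1315,1359,1300] .nil .nil)) (.node [877,847,910,785,909,847,906,791] .nil (.node [1871,1834,1904,1905,1835,1871,1871,1871] .nil .nil)))) (.node [237,238,207,178,207,207,207,207] (.node [] (.node [] .nil (.node [1218,1231,1290,1231,1175,1231,1231,1171] .nil .nil)) (.node [679,777,780,663,719,661,779,719] .nil (.node [1699,1760,1788,1705,1743,1695,1743,1743] .nil .nil))) (.node [512,413,499,463,414,514,418,509] (.node [] .nil (.node [1546,1530,1426,1433,1487,1545,1428,1541] .nil .nil)) (.node [1002,912,975,1036,913,1034,911,1039] .nil (.node [2021,1999,2023,1972,1999,1999,1976,2018] .nil .nil)))))) (.node [59,37,47,47,47,57,39,54] (.node [] (.node [] (.node [] (.node [] (.node [] .nil (.node [2108,2105,2079,2095,2095,2080,2095,2103] .nil .nil)) (.node [1071,1133,1005,1137,1012,1122,1021,1006] .nil .nil)) (.node [509,505,614,559,507,612,559,512] .nil (.node [1631,1544,1637,1583,1529,1583,1583,1627] .nil .nil))) (.node [342,269,264,343,328,274,265,341] (.node [] .nil (.node [1327,1327,1327,1385,1327,1278,1265,1327] .nil .nil)) (.node [815,815,756,874,876,815,761,815] .nil (.node [1800,1839,1839,1877,1801,1875,1807,1839] .nil .nil)))) (.node [204,201,149,150,203,197,157,175] (.node [] (.node [] .nil (.node [1199,1134,1257,1138,1264,1246,1136,1262] .nil .nil)) (.node [687,631,726,687,744,632,743,634] .nil (.node [1711,1663,1711,1711,1711,1711,1756,1664] .nil .nil))) (.node [477,431,431,462,394,386,431,476] (.node [] .nil (.node [1455,1511,1397,1464,1455,1455,1455,1399] .nil .nil)) (.node [943,1008,943,881,882,1007,996,894] .nil (.node [1992,1995,1967,1967,1939,1967,1967,1941] .nil .nil))))) (.node [111,132,111,93,111,111,126,98] (.node [] (.node [] (.node [] (.node [] .nil (.node [2158,2159,2159,2159,2159,2159,2159,2159] .nil .nil)) (.node [1135,1200,1194,1076,1069,1135,1198,1085] .nil .nil)) (.node [661,678,623,570,569,679,676,623] .nil (.node [1593,1675,1597,1647,1647,1698,1647,1600] .nil .nil))) (.node [410,333,327,411,341,367,367,328] (.node [] .nil (.node [1449,1391,1391,1331,1391,1451,1441,1335] .nil .nil)) (.node [879,819,817,879,940,822,932,829] .nil (.node [1869,1867,1903,1917,1934,1870,1903,1903] .nil .nil)))) (.node [239,211,274,239,239,264,208,273] (.node [] (.node [] .nil (.node [1263,1326,1320,1203,1308,1198,1263,1324] .nil .nil)) (.node [751,751,809,694,751,808,695,751] .nil (.node [1729,1775,1817,1728,1775,1775,1816,1739] .nil .nil))) (.node [449,548,547,495,448,546,451,541] (.node [] .nil (.node [1467,1463,1572,1573,1465,1571,1519,1470] .nil .nil)) (.node [1007,1073,1007,942,1007,943,1072,958] .nil (.node [2007,2031,2008,2051,2014,2049,2031,2031] .nil .nil))))))) (.node [38,39,31,23,31,31,37,31] (.node [] (.node [] (.node [] (.node [] (.node [] (.node [] .nil (.node [2079,2092,2095,2064,2079,2061,2079,2088] .nil .nil)) (.node [1055,995,992,1120,1055,993,1119,1055] .nil .nil)) (.node [494,492,594,543,593,543,543,497] .nil (.node [1567,1590,1567,1515,1617,1567,1514,1618] .nil .nil))) (.node [287,287,324,255,287,253,323,287] (.node [] .nil (.node [1311,1248,1311,1373,1249,1311,1311,1250] .nil .nil)) (.node [799,799,852,799,799,799,741,740] .nil (.node [1864,1779,1823,1823,1781,1862,1823,1850] .nil .nil)))) (.node [159,159,159,182,137,135,185,142] (.node [] (.node [] .nil (.node [1183,1247,1241,1183,1120,1183,1245,1183] .nil .nil)) (.node [705,671,626,729,615,730,671,621] .nil (.node [1648,1715,1744,1656,1644,1743,1645,1695] .nil .nil))) (.node [371,465,464,387,370,415,459,415] (.node [] .nil (.node [1496,1499,1385,1439,1481,1389,1378,1439] .nil .nil)) (.node [987,927,867,988,868,927,927,927] .nil (.node [1980,1951,1981,1918,1935,1976,1951,1951] .nil .nil))))) (.node [95,78,79,114,112,81,108,84] (.node [] (.node [] (.node [] (.node [] .nil (.node [2143,2143,2137,2147,2138,2143,2146,2139] .nil .nil)) (.node [1119,1058,1054,1182,1119,1068,1055,1181] .nil .nil)) (.node [607,607,554,662,607,607,657,607] .nil (.node [1583,1598,1683,1631,1579,1631,1631,1671] .nil .nil))) (.node [312,351,393,311,392,385,313,390] (.node [] .nil (.node [1313,1375,1375,1375,1434,1314,1436,1375] .nil .nil)) (.node [803,807,863,917,863,863,863,923] .nil (.node [1848,1925,1924,1847,1887,1849,1922,1861] .nil .nil)))) (.node [223,196,256,253,195,255,223,223] (.node [] (.node [] .nil (.node [1247,1183,1305,1310,1184,1247,1309,1247] .nil .nil)) (.node [774,794,735,677,793,676,795,789] .nil (.node [1801,1759,1714,1716,1800,1759,1718,1759] .nil .nil))) (.node [479,529,515,432,479,479,528,479] (.node [] .nil (.node [1557,1503,1503,1544,1444,1503,1503,1556] .nil .nil)) (.node [1053,991,930,991,1052,1050,938,991] .nil (.node [2015,2037,1992,2036,1993,2015,2015,1996] .nil .nil)))))) (.node [52,79,78,51,77,53,74,55] (.node [] (.node [] (.node [] (.node [] (.node [] .nil (.node [2121,2103,2099,2122,2111,2100,2120,2105] .nil .nil)) (.node [1087,1152,1087,1021,1087,1087,1137,1022] .nil .nil)) (.node [575,575,625,523,628,575,522,629] .nil (.node [1653,1632,1542,1599,1652,1543,1599,1646] .nil .nil))) (.node [282,319,358,281,357,319,283,355] (.node [] .nil (.node [1343,1401,1282,1355,1343,1284,1399,1343] .nil .nil)) (.node [831,891,769,894,770,893,831,881] .nil (.node [1815,1855,1894,1814,1893,1816,1855,1855] .nil .nil)))) (.node [221,216,163,191,191,164,220,212] (.node [] (.node [] .nil (.node [1215,1149,1272,1215,1150,1277,1151,1276] .nil .nil)) (.node [670,762,764,647,763,759,703,656] .nil (.node [1678,1701,1762,1727,1773,1727,1680,1727] .nil .nil))) (.node [492,494,411,402,493,447,447,404] (.node [] .nil (.node [1471,1410,1411,1528,1526,1471,1416,1520] .nil .nil)) (.node [959,894,959,1020,895,1023,959,1008] .nil (.node [1953,1952,2009,1983,1983,1994,1960,1955] .nil .nil))))) (.node [127,106,107,149,108,146,112,127] (.node [] (.node [] (.node [] .nil (.node [1151,1085,1211,1151,1086,1151,1215,1200] .nil .nil)) (.node [639,694,639,639,587,693,588,639] .nil (.node [1663,1711,1663,1612,1663,1663,1710,1614] .nil .nil))) (.node [341,347,383,427,410,349,383,342] (.node [] .nil (.node [1463,1467,1407,1360,1350,1466,1407,1352] .nil .nil)) (.node [895,832,895,895,959,895,895,944] .nil (.node [1919,1882,1883,1919,1947,1950,1891,1919] .nil .nil)))) (.node [255,225,291,287,230,223,290,255] (.node [] (.node [] .nil (.node [1339,1279,1218,1340,1224,1279,1279,1219] .nil .nil)) (.node [731,708,767,827,709,767,767,816] .nil (.node [1747,1833,1791,1746,1791,1791,1831,1750] .nil .nil))) (.node [547,566,459,565,460,563,464,558] (.node [] .nil (.node [1535,1514,1535,1535,1589,1478,1590,1535] .nil .nil)) (.node [1023,958,1023,1086,1023,959,1088,1073] .nil (.node [2047,2065,2067,2027,2025,2047,2061,2047] .nil .nil))))))))))))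
noncomputable def parb : Trie (ℕ × ℕ) := (.node (0,0) (.node (0,0) (.node (0,0) (.node (0,0) (.node (0,0) (.node (0,0) (.node (0,0) (.node (0,0) (.node (0,0) (.node (0,0) (.node (0,0) (.node (0,0) .nil (.node (2025,2) .nil .nil)) (.node (960,2) .nil .nil)) (.node (459,1) .nil (.node (1479,6) .nil .nil))) (.node (223,2) (.node (0,0) .nil (.node (1219,0) .nil .nil)) (.node (709,3) .nil (.node (1747,1) .nil .nil)))) (.node (107,3) (.node (0,0) (.node (0,0) .nil (.node (1087,1) .nil .nil)) (.node (587,1) .nil (.node (1614,1) .nil .nil))) (.node (341,3) (.node (0,0) .nil (.node (1350,1) .nil .nil)) (.node (833,6) .nil (.node (1884,0) .nil .nil))))) (.node (52,4) (.node (0,0) (.node (0,0) (.node (0,0) (.node (0,0) .nil (.node (2100,0) .nil .nil)) (.node (1022,1) .nil .nil)) (.node (523,7) .nil (.node (1543,0) .nil .nil))) (.node (282,4) (.node (0,0) .nil (.node (1282,1) .nil .nil)) (.node (771,3) .nil (.node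 (1815,4) .nil .nil)))) (.node (164,0) (.node (0,0) (.node (0,0) .nil (.node (1153,5) .nil .nil)) (.node (648,2) .nil (.node (1679,0) .nil .nil))) (.node (403,3) (.node (0,0) .nil (.node (1412,1) .nil .nil)) (.node (896,7) .nil (.node (1954,1) .nil .nil)))))) (.node (25,5) (.node (0,0) (.node (0,0) (.node (0,0) (.node (0,0) (.node (0,0) .nil (.node (2061,2) .nil .nil)) (.node (993,3) .nil .nil)) (.node (493,5) .nil (.node (1515,7) .nil .nil))) (.node (253,2) (.node (0,0) .nil (.node (1250,3) .nil .nil)) (.node (742,5) .nil (.node (1780,2) .nil .nil)))) (.node (137,6) (.node (0,0) (.node (0,0) .nil (.node (1120,1) .nil .nil)) (.node (617,4) .nil (.node (1644,2) .nil .nil))) (.node (370,2) (.node (0,0) .nil (.node (1378,1) .nil .nil)) (.node (868,0) .nil (.node (1920,3) .nil .nil))))) (.node (80,3) (.node (0,0) (.node (0,0) (.node (0,0) (.node (0,0) .nil (.node (2139,3) .nil .nil)) (.node (1055,3) .nil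 .nil)) (.node (555,4) .nil (.node (1579,2) .nil .nil))) (.node (312,4) (.node (0,0) .nil (.node (1315,4) .nil .nil)) (.node (804,3) .nil (.node (1848,1) .nil .nil)))) (.node (195,2) (.node (0,0) (.node (0,0) .nil (.node (1185,4) .nil .nil)) (.node (677,6) .nil (.node (1715,5) .nil .nil))) (.node (433,6) (.node (0,0) .nil (.node (1447,1) .nil .nil)) (.node (931,5) .nil (.node (1992,1) .nil .nil))))))) (.node (12,3) (.node (0,0) (.node (0,0) (.node (0,0) (.node (0,0) (.node (0,0) (.node (0,0) .nil (.node (2044,5) .nil .nil)) (.node (978,7) .nil .nil)) (.node (478,3) .nil (.node (1496,1) .nil .nil))) (.node (237,1) (.node (0,0) .nil (.node (1235,2) .nil .nil)) (.node (724,3) .nil (.node (1764,3) .nil .nil)))) (.node (123,7) (.node (0,0) (.node (0,0) .nil (.node (1107,2) .nil .nil)) (.node (601,3) .nil (.node (1628,0) .nil .nil))) (.node (357,2) (.node (0,0) .nil (.node (1362,1) .nil .nil)) (.node (849,6)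 .nil (.node (1905,2) .nil .nil))))) (.node (64,1) (.node (0,0) (.node (0,0) (.node (0,0) (.node (0,0) .nil (.node (2120,0) .nil .nil)) (.node (1041,0) .nil .nil)) (.node (541,2) .nil (.node (1565,5) .nil .nil))) (.node (296,3) (.node (0,0) .nil (.node (1299,4) .nil .nil)) (.node (786,4) .nil (.node (1836,3) .nil .nil)))) (.node (180,5) (.node (0,0) (.node (0,0) .nil (.node (1171,2) .nil .nil)) (.node (661,2) .nil (.node (1695,2) .nil .nil))) (.node (415,2) (.node (0,0) .nil (.node (1427,2) .nil .nil)) (.node (912,7) .nil (.node (1973,3) .nil .nil)))))) (.node (38,2) (.node (0,0) (.node (0,0) (.node (0,0) (.node (0,0) (.node (0,0) .nil (.node (2080,0) .nil .nil)) (.node (1006,3) .nil .nil)) (.node (506,1) .nil (.node (1529,2) .nil .nil))) (.node (265,0) (.node (0,0) .nil (.node (1266,4) .nil .nil)) (.node (757,1) .nil (.node (1800,3) .nil .nil)))) (.node (150,0) (.node (0,0) (.node (0,0) .nil (.node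 (1135,1) .nil .nil)) (.node (633,1) .nil (.node (1665,6) .nil .nil))) (.node (387,2) (.node (0,0) .nil (.node (1397,1) .nil .nil)) (.node (882,1) .nil (.node (1939,1) .nil .nil))))) (.node (93,1) (.node (0,0) (.node (0,0) (.node (0,0) .nil (.node (1069,1) .nil .nil)) (.node (570,5) .nil (.node (1594,4) .nil .nil))) (.node (328,0) (.node (0,0) .nil (.node (1332,1) .nil .nil)) (.node (818,5) .nil (.node (1868,1) .nil .nil)))) (.node (208,2) (.node (0,0) (.node (0,0) .nil (.node (1198,1) .nil .nil)) (.node (695,2) .nil (.node (1730,6) .nil .nil))) (.node (448,2) (.node (0,0) .nil (.node (1464,1) .nil .nil)) (.node (943,1) .nil (.node (2009,3) .nil .nil)))))))) (.node (6,6) (.node (0,0) (.node (0,0) (.node (0,0) (.node (0,0) (.node (0,0) (.node (0,0) (.node (0,0) .nil (.node (2037,3) .nil .nil)) (.node (968,2) .nil .nil)) (.node (470,3) .nil (.node (1486,4) .nil .nil))) (.node (230,6) (.node (0,0) .nil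 (.node (1229,3) .nil .nil)) (.node (716,6) .nil (.node (1758,2) .nil .nil)))) (.node (115,0) (.node (0,0) (.node (0,0) .nil (.node (1096,7) .nil .nil)) (.node (593,3) .nil (.node (1622,2) .nil .nil))) (.node (351,4) (.node (0,0) .nil (.node (1355,1) .nil .nil)) (.node (841,2) .nil (.node (1895,3) .nil .nil))))) (.node (58,1) (.node (0,0) (.node (0,0) (.node (0,0) (.node (0,0) .nil (.node (2110,2) .nil .nil)) (.node (1031,6) .nil .nil)) (.node (533,1) .nil (.node (1555,4) .nil .nil))) (.node (290,2) (.node (0,0) .nil (.node (1292,4) .nil .nil)) (.node (778,3) .nil (.node (1822,1) .nil .nil)))) (.node (173,4) (.node (0,0) (.node (0,0) .nil (.node (1160,2) .nil .nil)) (.node (654,2) .nil (.node (1685,2) .nil .nil))) (.node (410,3) (.node (0,0) .nil (.node (1419,1) .nil .nil)) (.node (906,4) .nil (.node (1966,4) .nil .nil)))))) (.node (32,6) (.node (0,0) (.node (0,0) (.node (0,0) (.node (0,0) (.node (0,0)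 .nil (.node (2073,5) .nil .nil)) (.node (999,2) .nil .nil)) (.node (500,3) .nil (.node (1522,3) .nil .nil))) (.node (259,0) (.node (0,0) .nil (.node (1256,5) .nil .nil)) (.node (750,3) .nil (.node (1790,1) .nil .nil)))) (.node (145,4) (.node (0,0) (.node (0,0) .nil (.node (1128,3) .nil .nil)) (.node (624,6) .nil (.node (1652,3) .nil .nil))) (.node (379,1) (.node (0,0) .nil (.node (1387,1) .nil .nil)) (.node (876,3) .nil (.node (1928,1) .nil .nil))))) (.node (87,5) (.node (0,0) (.node (0,0) (.node (0,0) (.node (0,0) .nil (.node (2149,3) .nil .nil)) (.node (1063,2) .nil .nil)) (.node (561,1) .nil (.node (1586,2) .nil .nil))) (.node (321,2) (.node (0,0) .nil (.node (1322,3) .nil .nil)) (.node (812,3) .nil (.node (1858,3) .nil .nil)))) (.node (201,0) (.node (0,0) (.node (0,0) .nil (.node (1192,4) .nil .nil)) (.node (686,1) .nil (.node (1721,6) .nil .nil))) (.node (440,2) (.node (0,0) .nil (.node (1457,3)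 .nil .nil)) (.node (937,2) .nil (.node (2000,1) .nil .nil))))))) (.node (18,0) (.node (0,0) (.node (0,0) (.node (0,0) (.node (0,0) (.node (0,0) (.node (0,0) .nil (.node (2055,3) .nil .nil)) (.node (988,1) .nil .nil)) (.node (487,2) .nil (.node (1505,4) .nil .nil))) (.node (246,2) (.node (0,0) .nil (.node (1240,1) .nil .nil)) (.node (732,4) .nil (.node (1773,3) .nil .nil)))) (.node (130,4) (.node (0,0) (.node (0,0) .nil (.node (1114,2) .nil .nil)) (.node (609,6) .nil (.node (1636,6) .nil .nil))) (.node (365,2) (.node (0,0) .nil (.node (1370,3) .nil .nil)) (.node (857,7) .nil (.node (1910,2) .nil .nil))))) (.node (74,4) (.node (0,0) (.node (0,0) (.node (0,0) (.node (0,0) .nil (.node (2129,4) .nil .nil)) (.node (1049,2) .nil .nil)) (.node (547,3) .nil (.node (1573,2) .nil .nil))) (.node (304,3) (.node (0,0) .nil (.node (1306,5) .nil .nil)) (.node (793,6) .nil (.node (1842,4) .nil .nil)))) (.node (187,2)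 (.node (0,0) (.node (0,0) .nil (.node (1177,3) .nil .nil)) (.node (669,3) .nil (.node (1705,2) .nil .nil))) (.node (425,4) (.node (0,0) .nil (.node (1437,6) .nil .nil)) (.node (922,0) .nil (.node (1981,0) .nil .nil)))))) (.node (45,4) (.node (0,0) (.node (0,0) (.node (0,0) (.node (0,0) (.node (0,0) .nil (.node (2089,0) .nil .nil)) (.node (1014,3) .nil .nil)) (.node (515,1) .nil (.node (1537,3) .nil .nil))) (.node (274,3) (.node (0,0) .nil (.node (1273,3) .nil .nil)) (.node (763,2) .nil (.node (1806,3) .nil .nil)))) (.node (157,0) (.node (0,0) (.node (0,0) .nil (.node (1143,1) .nil .nil)) (.node (642,2) .nil (.node (1672,0) .nil .nil))) (.node (396,5) (.node (0,0) .nil (.node (1406,2) .nil .nil)) (.node (889,0) .nil (.node (1946,3) .nil .nil))))) (.node (101,4) (.node (0,0) (.node (0,0) (.node (0,0) .nil (.node (1079,3) .nil .nil)) (.node (579,1) .nil (.node (1605,4) .nil .nil))) (.node (333,3) (.node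 (0,0) .nil (.node (1341,1) .nil .nil)) (.node (827,4) .nil (.node (1876,1) .nil .nil)))) (.node (216,0) (.node (0,0) (.node (0,0) .nil (.node (1207,1) .nil .nil)) (.node (701,4) .nil (.node (1736,0) .nil .nil))) (.node (455,3) (.node (0,0) .nil (.node (1471,3) .nil .nil)) (.node (951,3) .nil (.node (2018,2) .nil .nil))))))))) (.node (3,4) (.node (0,0) (.node (0,0) (.node (0,0) (.node (0,0) (.node (0,0) (.node (0,0) (.node (0,0) (.node (0,0) .nil (.node (2032,4) .nil .nil)) (.node (965,4) .nil .nil)) (.node (464,1) .nil (.node (1482,3) .nil .nil))) (.node (226,0) (.node (0,0) .nil (.node (1222,2) .nil .nil)) (.node (713,4) .nil (.node (1753,1) .nil .nil)))) (.node (111,1) (.node (0,0) (.node (0,0) .nil (.node (1093,6) .nil .nil)) (.node (591,2) .nil (.node (1619,1) .nil .nil))) (.node (344,2) (.node (0,0) .nil (.node (1352,5) .nil .nil)) (.node (835,2) .nil (.node (1887,2) .nil .nil))))) (.node (55,4)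 (.node (0,0) (.node (0,0) (.node (0,0) (.node (0,0) .nil (.node (2105,0) .nil .nil)) (.node (1028,5) .nil .nil)) (.node (527,3) .nil (.node (1549,0) .nil .nil))) (.node (287,2) (.node (0,0) .nil (.node (1289,5) .nil .nil)) (.node (774,2) .nil (.node (1819,3) .nil .nil)))) (.node (170,4) (.node (0,0) (.node (0,0) .nil (.node (1157,0) .nil .nil)) (.node (652,4) .nil (.node (1682,0) .nil .nil))) (.node (405,2) (.node (0,0) .nil (.node (1416,3) .nil .nil)) (.node (901,2) .nil (.node (1961,3) .nil .nil)))))) (.node (28,0) (.node (0,0) (.node (0,0) (.node (0,0) (.node (0,0) (.node (0,0) .nil (.node (2067,0) .nil .nil)) (.node (996,1) .nil .nil)) (.node (495,1) .nil (.node (1518,1) .nil .nil))) (.node (256,0) (.node (0,0) .nil (.node (1254,4) .nil .nil)) (.node (746,1) .nil (.node (1786,0) .nil .nil)))) (.node (139,2) (.node (0,0) (.node (0,0) .nil (.node (1124,1) .nil .nil)) (.node (620,4) .nil (.node (1648,2)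 .nil .nil))) (.node (375,3) (.node (0,0) .nil (.node (1382,3) .nil .nil)) (.node (872,2) .nil (.node (1924,1) .nil .nil))))) (.node (83,3) (.node (0,0) (.node (0,0) (.node (0,0) (.node (0,0) .nil (.node (2144,1) .nil .nil)) (.node (1059,4) .nil .nil)) (.node (557,1) .nil (.node (1582,5) .nil .nil))) (.node (318,4) (.node (0,0) .nil (.node (1318,5) .nil .nil)) (.node (808,2) .nil (.node (1853,0) .nil .nil)))) (.node (198,0) (.node (0,0) (.node (0,0) .nil (.node (1189,2) .nil .nil)) (.node (682,6) .nil (.node (1717,2) .nil .nil))) (.node (437,2) (.node (0,0) .nil (.node (1451,4) .nil .nil)) (.node (934,3) .nil (.node (1996,1) .nil .nil))))))) (.node (15,3) (.node (0,0) (.node (0,0) (.node (0,0) (.node (0,0) (.node (0,0) (.node (0,0) .nil (.node (2048,0) .nil .nil)) (.node (983,0) .nil .nil)) (.node (481,2) .nil (.node (1500,4) .nil .nil))) (.node (240,3) (.node (0,0) .nil (.node (1238,3) .nil .nil))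 (.node (728,4) .nil (.node (1768,2) .nil .nil)))) (.node (126,1) (.node (0,0) (.node (0,0) .nil (.node (1111,2) .nil .nil)) (.node (605,3) .nil (.node (1632,0) .nil .nil))) (.node (362,3) (.node (0,0) .nil (.node (1367,2) .nil .nil)) (.node (853,2) .nil (.node (1908,3) .nil .nil))))) (.node (69,1) (.node (0,0) (.node (0,0) (.node (0,0) (.node (0,0) .nil (.node (2123,2) .nil .nil)) (.node (1046,1) .nil .nil)) (.node (544,1) .nil (.node (1569,1) .nil .nil))) (.node (300,1) (.node (0,0) .nil (.node (1301,5) .nil .nil)) (.node (790,7) .nil (.node (1838,3) .nil .nil)))) (.node (182,2) (.node (0,0) (.node (0,0) .nil (.node (1174,1) .nil .nil)) (.node (665,1) .nil (.node (1699,2) .nil .nil))) (.node (420,2) (.node (0,0) .nil (.node (1431,2) .nil .nil)) (.node (916,0) .nil (.node (1976,2) .nil .nil)))))) (.node (41,3) (.node (0,0) (.node (0,0) (.node (0,0) (.node (0,0) (.node (0,0) .nil (.node (2086,2) .nil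 .nil)) (.node (1011,4) .nil .nil)) (.node (510,1) .nil (.node (1532,0) .nil .nil))) (.node (269,0) (.node (0,0) .nil (.node (1269,5) .nil .nil)) (.node (760,2) .nil (.node (1804,1) .nil .nil)))) (.node (155,4) (.node (0,0) (.node (0,0) .nil (.node (1141,0) .nil .nil)) (.node (638,3) .nil (.node (1669,2) .nil .nil))) (.node (391,5) (.node (0,0) .nil (.node (1403,5) .nil .nil)) (.node (885,7) .nil (.node (1941,1) .nil .nil))))) (.node (97,4) (.node (0,0) (.node (0,0) (.node (0,0) .nil (.node (1075,4) .nil .nil)) (.node (574,6) .nil (.node (1598,2) .nil .nil))) (.node (330,1) (.node (0,0) .nil (.node (1337,1) .nil .nil)) (.node (821,2) .nil (.node (1874,0) .nil .nil)))) (.node (211,2) (.node (0,0) (.node (0,0) .nil (.node (1205,1) .nil .nil)) (.node (698,3) .nil (.node (1733,3) .nil .nil))) (.node (451,2) (.node (0,0) .nil (.node (1468,2) .nil .nil)) (.node (948,2) .nil (.node (2015,3) .nil .nil))))))))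 (.node (8,1) (.node (0,0) (.node (0,0) (.node (0,0) (.node (0,0) (.node (0,0) (.node (0,0) (.node (0,0) .nil (.node (2041,3) .nil .nil)) (.node (972,6) .nil .nil)) (.node (474,5) .nil (.node (1490,3) .nil .nil))) (.node (233,7) (.node (0,0) .nil (.node (1232,3) .nil .nil)) (.node (719,2) .nil (.node (1761,3) .nil .nil)))) (.node (118,2) (.node (0,0) (.node (0,0) .nil (.node (1101,0) .nil .nil)) (.node (598,3) .nil (.node (1625,5) .nil .nil))) (.node (355,4) (.node (0,0) .nil (.node (1359,1) .nil .nil)) (.node (846,5) .nil (.node (1899,1) .nil .nil))))) (.node (62,1) (.node (0,0) (.node (0,0) (.node (0,0) (.node (0,0) .nil (.node (2114,0) .nil .nil)) (.node (1036,7) .nil .nil)) (.node (537,4) .nil (.node (1560,2) .nil .nil))) (.node (293,1) (.node (0,0) .nil (.node (1293,1) .nil .nil)) (.node (782,1) .nil (.node (1830,4) .nil .nil)))) (.node (175,0) (.node (0,0) (.node (0,0) .nil (.node (1166,1) .nil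 .nil)) (.node (658,5) .nil (.node (1691,7) .nil .nil))) (.node (412,2) (.node (0,0) .nil (.node (1423,1) .nil .nil)) (.node (909,5) .nil (.node (1969,2) .nil .nil)))))) (.node (35,0) (.node (0,0) (.node (0,0) (.node (0,0) (.node (0,0) (.node (0,0) .nil (.node (2077,5) .nil .nil)) (.node (1002,2) .nil .nil)) (.node (504,4) .nil (.node (1526,3) .nil .nil))) (.node (262,2) (.node (0,0) .nil (.node (1261,5) .nil .nil)) (.node (754,1) .nil (.node (1797,1) .nil .nil)))) (.node (147,2) (.node (0,0) (.node (0,0) .nil (.node (1131,1) .nil .nil)) (.node (628,7) .nil (.node (1660,1) .nil .nil))) (.node (384,4) (.node (0,0) .nil (.node (1392,3) .nil .nil)) (.node (878,2) .nil (.node (1935,2) .nil .nil))))) (.node (89,1) (.node (0,0) (.node (0,0) (.node (0,0) (.node (0,0) .nil (.node (2154,1) .nil .nil)) (.node (1066,1) .nil .nil)) (.node (566,3) .nil (.node (1591,3) .nil .nil))) (.node (324,3) (.node (0,0) .nil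 (.node (1328,1) .nil .nil)) (.node (814,2) .nil (.node (1861,1) .nil .nil)))) (.node (205,7) (.node (0,0) (.node (0,0) .nil (.node (1194,1) .nil .nil)) (.node (691,3) .nil (.node (1725,2) .nil .nil))) (.node (446,3) (.node (0,0) .nil (.node (1461,7) .nil .nil)) (.node (940,3) .nil (.node (2004,0) .nil .nil))))))) (.node (21,2) (.node (0,0) (.node (0,0) (.node (0,0) (.node (0,0) (.node (0,0) (.node (0,0) .nil (.node (2058,5) .nil .nil)) (.node (990,2) .nil .nil)) (.node (490,1) .nil (.node (1511,3) .nil .nil))) (.node (249,4) (.node (0,0) .nil (.node (1245,5) .nil .nil)) (.node (736,7) .nil (.node (1777,0) .nil .nil)))) (.node (133,4) (.node (0,0) (.node (0,0) .nil (.node (1117,1) .nil .nil)) (.node (611,1) .nil (.node (1639,2) .nil .nil))) (.node (368,3) (.node (0,0) .nil (.node (1374,0) .nil .nil)) (.node (864,4) .nil (.node (1915,2) .nil .nil))))) (.node (75,1) (.node (0,0) (.node (0,0) (.node (0,0)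 (.node (0,0) .nil (.node (2135,4) .nil .nil)) (.node (1052,0) .nil .nil)) (.node (550,3) .nil (.node (1576,2) .nil .nil))) (.node (309,3) (.node (0,0) .nil (.node (1310,2) .nil .nil)) (.node (800,1) .nil (.node (1845,2) .nil .nil)))) (.node (190,2) (.node (0,0) (.node (0,0) .nil (.node (1181,3) .nil .nil)) (.node (673,3) .nil (.node (1710,1) .nil .nil))) (.node (428,5) (.node (0,0) .nil (.node (1440,3) .nil .nil)) (.node (927,3) .nil (.node (1987,3) .nil .nil)))))) (.node (48,1) (.node (0,0) (.node (0,0) (.node (0,0) (.node (0,0) (.node (0,0) .nil (.node (2095,0) .nil .nil)) (.node (1018,3) .nil .nil)) (.node (519,3) .nil (.node (1540,2) .nil .nil))) (.node (278,0) (.node (0,0) .nil (.node (1279,3) .nil .nil)) (.node (768,4) .nil (.node (1809,1) .nil .nil)))) (.node (161,2) (.node (0,0) (.node (0,0) .nil (.node (1148,4) .nil .nil)) (.node (644,1) .nil (.node (1676,6) .nil .nil))) (.node (400,3) (.node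 (0,0) .nil (.node (1409,5) .nil .nil)) (.node (892,7) .nil (.node (1949,3) .nil .nil))))) (.node (105,2) (.node (0,0) (.node (0,0) (.node (0,0) .nil (.node (1083,3) .nil .nil)) (.node (583,4) .nil (.node (1609,3) .nil .nil))) (.node (336,1) (.node (0,0) .nil (.node (1347,5) .nil .nil)) (.node (830,6) .nil (.node (1879,2) .nil .nil)))) (.node (220,0) (.node (0,0) (.node (0,0) .nil (.node (1212,1) .nil .nil)) (.node (703,2) .nil (.node (1743,2) .nil .nil))) (.node (457,5) (.node (0,0) .nil (.node (1475,2) .nil .nil)) (.node (955,1) .nil (.node (2022,4) .nil .nil)))))))))) (.node (1,2) (.node (0,0) (.node (0,0) (.node (0,0) (.node (0,0) (.node (0,0) (.node (0,0) (.node (0,0) (.node (0,0) (.node (0,0) .nil (.node (2029,2) .nil .nil)) (.node (962,4) .nil .nil)) (.node (462,1) .nil (.node (1480,3) .nil .nil))) (.node (225,6) (.node (0,0) .nil (.node (1220,3) .nil .nil)) (.node (710,2) .nil (.node (1750,1)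 .nil .nil)))) (.node (109,3) (.node (0,0) (.node (0,0) .nil (.node (1090,5) .nil .nil)) (.node (590,3) .nil (.node (1616,6) .nil .nil))) (.node (343,4) (.node (0,0) .nil (.node (1351,2) .nil .nil)) (.node (834,3) .nil (.node (1885,3) .nil .nil))))) (.node (53,2) (.node (0,0) (.node (0,0) (.node (0,0) (.node (0,0) .nil (.node (2102,2) .nil .nil)) (.node (1025,4) .nil .nil)) (.node (524,2) .nil (.node (1545,0) .nil .nil))) (.node (283,2) (.node (0,0) .nil (.node (1287,3) .nil .nil)) (.node (772,2) .nil (.node (1818,2) .nil .nil)))) (.node (168,1) (.node (0,0) (.node (0,0) .nil (.node (1156,7) .nil .nil)) (.node (650,3) .nil (.node (1681,5) .nil .nil))) (.node (404,1) (.node (0,0) .nil (.node (1414,1) .nil .nil)) (.node (897,3) .nil (.node (1958,1) .nil .nil)))))) (.node (26,0) (.node (0,0) (.node (0,0) (.node (0,0) (.node (0,0) (.node (0,0) .nil (.node (2065,2) .nil .nil)) (.node (994,2) .nil .nil))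 (.node (495,5) .nil (.node (1517,2) .nil .nil))) (.node (255,6) (.node (0,0) .nil (.node (1252,0) .nil .nil)) (.node (744,3) .nil (.node (1782,2) .nil .nil)))) (.node (138,2) (.node (0,0) (.node (0,0) .nil (.node (1123,4) .nil .nil)) (.node (618,3) .nil (.node (1646,0) .nil .nil))) (.node (371,1) (.node (0,0) .nil (.node (1380,1) .nil .nil)) (.node (871,3) .nil (.node (1922,2) .nil .nil))))) (.node (82,3) (.node (0,0) (.node (0,0) (.node (0,0) (.node (0,0) .nil (.node (2140,2) .nil .nil)) (.node (1057,2) .nil .nil)) (.node (557,6) .nil (.node (1580,2) .nil .nil))) (.node (313,2) (.node (0,0) .nil (.node (1316,5) .nil .nil)) (.node (806,0) .nil (.node (1849,1) .nil .nil)))) (.node (196,2) (.node (0,0) (.node (0,0) .nil (.node (1186,1) .nil .nil)) (.node (679,6) .nil (.node (1716,0) .nil .nil))) (.node (434,2) (.node (0,0) .nil (.node (1449,2) .nil .nil)) (.node (933,6) .nil (.node (1995,3) .nil .nil)))))))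 (.node (13,2) (.node (0,0) (.node (0,0) (.node (0,0) (.node (0,0) (.node (0,0) (.node (0,0) .nil (.node (2046,2) .nil .nil)) (.node (979,0) .nil .nil)) (.node (480,7) .nil (.node (1498,2) .nil .nil))) (.node (239,2) (.node (0,0) .nil (.node (1237,0) .nil .nil)) (.node (726,3) .nil (.node (1767,1) .nil .nil)))) (.node (124,1) (.node (0,0) (.node (0,0) .nil (.node (1109,1) .nil .nil)) (.node (603,4) .nil (.node (1630,2) .nil .nil))) (.node (361,2) (.node (0,0) .nil (.node (1365,3) .nil .nil)) (.node (851,7) .nil (.node (1907,0) .nil .nil))))) (.node (68,2) (.node (0,0) (.node (0,0) (.node (0,0) (.node (0,0) .nil (.node (2121,3) .nil .nil)) (.node (1043,3) .nil .nil)) (.node (542,1) .nil (.node (1567,7) .nil .nil))) (.node (298,2) (.node (0,0) .nil (.node (1300,4) .nil .nil)) (.node (788,5) .nil (.node (1837,2) .nil .nil)))) (.node (181,0) (.node (0,0) (.node (0,0) .nil (.node (1172,3) .nil .nil)) (.node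 (664,7) .nil (.node (1697,0) .nil .nil))) (.node (416,1) (.node (0,0) .nil (.node (1429,1) .nil .nil)) (.node (915,6) .nil (.node (1974,3) .nil .nil)))))) (.node (40,2) (.node (0,0) (.node (0,0) (.node (0,0) (.node (0,0) (.node (0,0) .nil (.node (2082,3) .nil .nil)) (.node (1009,2) .nil .nil)) (.node (508,1) .nil (.node (1531,4) .nil .nil))) (.node (266,3) (.node (0,0) .nil (.node (1267,5) .nil .nil)) (.node (759,4) .nil (.node (1802,3) .nil .nil)))) (.node (152,2) (.node (0,0) (.node (0,0) .nil (.node (1139,4) .nil .nil)) (.node (635,1) .nil (.node (1668,3) .nil .nil))) (.node (390,4) (.node (0,0) .nil (.node (1401,3) .nil .nil)) (.node (883,2) .nil (.node (1940,2) .nil .nil))))) (.node (95,3) (.node (0,0) (.node (0,0) (.node (0,0) .nil (.node (1072,1) .nil .nil)) (.node (572,4) .nil (.node (1595,2) .nil .nil))) (.node (329,3) (.node (0,0) .nil (.node (1334,3) .nil .nil)) (.node (820,3) .nil (.node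 (1872,2) .nil .nil)))) (.node (209,3) (.node (0,0) (.node (0,0) .nil (.node (1204,3) .nil .nil)) (.node (697,3) .nil (.node (1731,0) .nil .nil))) (.node (449,5) (.node (0,0) .nil (.node (1466,1) .nil .nil)) (.node (945,2) .nil (.node (2012,4) .nil .nil)))))))) (.node (7,3) (.node (0,0) (.node (0,0) (.node (0,0) (.node (0,0) (.node (0,0) (.node (0,0) (.node (0,0) .nil (.node (2039,4) .nil .nil)) (.node (970,6) .nil .nil)) (.node (472,5) .nil (.node (1487,0) .nil .nil))) (.node (231,0) (.node (0,0) .nil (.node (1231,2) .nil .nil)) (.node (717,2) .nil (.node (1760,2) .nil .nil)))) (.node (117,3) (.node (0,0) (.node (0,0) .nil (.node (1097,0) .nil .nil)) (.node (595,1) .nil (.node (1623,2) .nil .nil))) (.node (352,5) (.node (0,0) .nil (.node (1358,3) .nil .nil)) (.node (844,3) .nil (.node (1897,2) .nil .nil))))) (.node (61,3) (.node (0,0) (.node (0,0) (.node (0,0) (.node (0,0) .nil (.node (2111,3) .nil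 .nil)) (.node (1032,0) .nil .nil)) (.node (534,1) .nil (.node (1559,4) .nil .nil))) (.node (291,3) (.node (0,0) .nil (.node (1293,4) .nil .nil)) (.node (779,2) .nil (.node (1826,0) .nil .nil)))) (.node (174,5) (.node (0,0) (.node (0,0) .nil (.node (1163,0) .nil .nil)) (.node (656,4) .nil (.node (1688,7) .nil .nil))) (.node (411,1) (.node (0,0) .nil (.node (1421,1) .nil .nil)) (.node (907,5) .nil (.node (1966,1) .nil .nil)))))) (.node (33,0) (.node (0,0) (.node (0,0) (.node (0,0) (.node (0,0) (.node (0,0) .nil (.node (2074,0) .nil .nil)) (.node (1000,3) .nil .nil)) (.node (501,3) .nil (.node (1524,1) .nil .nil))) (.node (260,3) (.node (0,0) .nil (.node (1258,1) .nil .nil)) (.node (752,0) .nil (.node (1795,4) .nil .nil)))) (.node (146,3) (.node (0,0) (.node (0,0) .nil (.node (1130,4) .nil .nil)) (.node (626,5) .nil (.node (1656,2) .nil .nil))) (.node (382,4) (.node (0,0) .nil (.node (1389,1) .nil .nil))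 (.node (877,2) .nil (.node (1932,3) .nil .nil))))) (.node (88,2) (.node (0,0) (.node (0,0) (.node (0,0) (.node (0,0) .nil (.node (2152,4) .nil .nil)) (.node (1064,3) .nil .nil)) (.node (563,1) .nil (.node (1589,6) .nil .nil))) (.node (323,2) (.node (0,0) .nil (.node (1324,1) .nil .nil)) (.node (813,2) .nil (.node (1860,1) .nil .nil)))) (.node (202,2) (.node (0,0) (.node (0,0) .nil (.node (1193,4) .nil .nil)) (.node (689,5) .nil (.node (1722,0) .nil .nil))) (.node (443,3) (.node (0,0) .nil (.node (1459,5) .nil .nil)) (.node (939,6) .nil (.node (2002,2) .nil .nil))))))) (.node (20,2) (.node (0,0) (.node (0,0) (.node (0,0) (.node (0,0) (.node (0,0) (.node (0,0) .nil (.node (2056,2) .nil .nil)) (.node (989,2) .nil .nil)) (.node (489,1) .nil (.node (1507,4) .nil .nil))) (.node (247,3) (.node (0,0) .nil (.node (1244,4) .nil .nil)) (.node (734,5) .nil (.node (1776,7) .nil .nil)))) (.node (131,0) (.node (0,0)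 (.node (0,0) .nil (.node (1115,3) .nil .nil)) (.node (610,1) .nil (.node (1637,3) .nil .nil))) (.node (367,0) (.node (0,0) .nil (.node (1372,0) .nil .nil)) (.node (861,2) .nil (.node (1911,1) .nil .nil))))) (.node (74,1) (.node (0,0) (.node (0,0) (.node (0,0) (.node (0,0) .nil (.node (2130,2) .nil .nil)) (.node (1051,6) .nil .nil)) (.node (548,3) .nil (.node (1575,3) .nil .nil))) (.node (306,2) (.node (0,0) .nil (.node (1308,1) .nil .nil)) (.node (795,7) .nil (.node (1843,2) .nil .nil)))) (.node (188,3) (.node (0,0) (.node (0,0) .nil (.node (1178,1) .nil .nil)) (.node (671,5) .nil (.node (1707,1) .nil .nil))) (.node (427,4) (.node (0,0) .nil (.node (1438,3) .nil .nil)) (.node (925,0) .nil (.node (1984,3) .nil .nil)))))) (.node (46,2) (.node (0,0) (.node (0,0) (.node (0,0) (.node (0,0) (.node (0,0) .nil (.node (2093,0) .nil .nil)) (.node (1016,1) .nil .nil)) (.node (517,4) .nil (.node (1539,3) .nil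 .nil))) (.node (276,4) (.node (0,0) .nil (.node (1275,1) .nil .nil)) (.node (766,5) .nil (.node (1808,1) .nil .nil)))) (.node (160,7) (.node (0,0) (.node (0,0) .nil (.node (1144,1) .nil .nil)) (.node (643,1) .nil (.node (1673,2) .nil .nil))) (.node (398,6) (.node (0,0) .nil (.node (1407,5) .nil .nil)) (.node (890,2) .nil (.node (1948,3) .nil .nil))))) (.node (103,5) (.node (0,0) (.node (0,0) (.node (0,0) .nil (.node (1080,1) .nil .nil)) (.node (580,1) .nil (.node (1606,2) .nil .nil))) (.node (335,1) (.node (0,0) .nil (.node (1345,3) .nil .nil)) (.node (828,5) .nil (.node (1877,1) .nil .nil)))) (.node (217,3) (.node (0,0) (.node (0,0) .nil (.node (1211,3) .nil .nil)) (.node (702,3) .nil (.node (1740,2) .nil .nil))) (.node (456,2) (.node (0,0) .nil (.node (1473,2) .nil .nil)) (.node (953,2) .nil (.node (2020,3) .nil .nil))))))))) (.node (4,5) (.node (0,0) (.node (0,0) (.node (0,0) (.node (0,0) (.node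 (0,0) (.node (0,0) (.node (0,0) (.node (0,0) .nil (.node (2034,5) .nil .nil)) (.node (967,2) .nil .nil)) (.node (467,4) .nil (.node (1484,3) .nil .nil))) (.node (228,3) (.node (0,0) .nil (.node (1224,0) .nil .nil)) (.node (714,5) .nil (.node (1755,1) .nil .nil)))) (.node (113,2) (.node (0,0) (.node (0,0) .nil (.node (1094,0) .nil .nil)) (.node (592,3) .nil (.node (1621,3) .nil .nil))) (.node (349,3) (.node (0,0) .nil (.node (1354,2) .nil .nil)) (.node (838,2) .nil (.node (1889,1) .nil .nil))))) (.node (55,1) (.node (0,0) (.node (0,0) (.node (0,0) (.node (0,0) .nil (.node (2106,3) .nil .nil)) (.node (1029,2) .nil .nil)) (.node (531,2) .nil (.node (1553,4) .nil .nil))) (.node (288,3) (.node (0,0) .nil (.node (1290,3) .nil .nil)) (.node (777,6) .nil (.node (1821,1) .nil .nil)))) (.node (171,2) (.node (0,0) (.node (0,0) .nil (.node (1158,3) .nil .nil)) (.node (653,3) .nil (.node (1683,3) .nil .nil))) (.node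 (406,1) (.node (0,0) .nil (.node (1418,4) .nil .nil)) (.node (903,4) .nil (.node (1963,2) .nil .nil)))))) (.node (30,3) (.node (0,0) (.node (0,0) (.node (0,0) (.node (0,0) (.node (0,0) .nil (.node (2072,4) .nil .nil)) (.node (997,1) .nil .nil)) (.node (498,1) .nil (.node (1520,3) .nil .nil))) (.node (258,7) (.node (0,0) .nil (.node (1255,4) .nil .nil)) (.node (748,2) .nil (.node (1788,3) .nil .nil)))) (.node (142,6) (.node (0,0) (.node (0,0) .nil (.node (1127,2) .nil .nil)) (.node (622,4) .nil (.node (1650,0) .nil .nil))) (.node (377,2) (.node (0,0) .nil (.node (1385,1) .nil .nil)) (.node (873,2) .nil (.node (1927,3) .nil .nil))))) (.node (85,2) (.node (0,0) (.node (0,0) (.node (0,0) (.node (0,0) .nil (.node (2146,3) .nil .nil)) (.node (1061,1) .nil .nil)) (.node (558,1) .nil (.node (1584,0) .nil .nil))) (.node (319,2) (.node (0,0) .nil (.node (1320,1) .nil .nil)) (.node (811,5) .nil (.node (1855,2)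 .nil .nil)))) (.node (200,5) (.node (0,0) (.node (0,0) .nil (.node (1190,3) .nil .nil)) (.node (685,4) .nil (.node (1719,0) .nil .nil))) (.node (439,1) (.node (0,0) .nil (.node (1452,2) .nil .nil)) (.node (936,1) .nil (.node (1998,3) .nil .nil))))))) (.node (16,2) (.node (0,0) (.node (0,0) (.node (0,0) (.node (0,0) (.node (0,0) (.node (0,0) .nil (.node (2052,5) .nil .nil)) (.node (985,3) .nil .nil)) (.node (484,3) .nil (.node (1501,2) .nil .nil))) (.node (243,2) (.node (0,0) .nil (.node (1239,1) .nil .nil)) (.node (730,6) .nil (.node (1772,0) .nil .nil)))) (.node (128,2) (.node (0,0) (.node (0,0) .nil (.node (1112,3) .nil .nil)) (.node (606,2) .nil (.node (1633,2) .nil .nil))) (.node (364,4) (.node (0,0) .nil (.node (1368,1) .nil .nil)) (.node (855,6) .nil (.node (1909,1) .nil .nil))))) (.node (72,3) (.node (0,0) (.node (0,0) (.node (0,0) (.node (0,0) .nil (.node (2125,2) .nil .nil)) (.node (1047,1)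 .nil .nil)) (.node (546,2) .nil (.node (1571,3) .nil .nil))) (.node (303,0) (.node (0,0) .nil (.node (1303,1) .nil .nil)) (.node (791,2) .nil (.node (1840,1) .nil .nil)))) (.node (185,7) (.node (0,0) (.node (0,0) .nil (.node (1176,0) .nil .nil)) (.node (667,1) .nil (.node (1703,3) .nil .nil))) (.node (422,1) (.node (0,0) .nil (.node (1433,0) .nil .nil)) (.node (921,4) .nil (.node (1979,3) .nil .nil)))))) (.node (43,1) (.node (0,0) (.node (0,0) (.node (0,0) (.node (0,0) (.node (0,0) .nil (.node (2088,6) .nil .nil)) (.node (1013,2) .nil .nil)) (.node (511,1) .nil (.node (1535,6) .nil .nil))) (.node (273,2) (.node (0,0) .nil (.node (1271,1) .nil .nil)) (.node (762,2) .nil (.node (1805,2) .nil .nil)))) (.node (156,5) (.node (0,0) (.node (0,0) .nil (.node (1142,3) .nil .nil)) (.node (639,1) .nil (.node (1670,2) .nil .nil))) (.node (392,2) (.node (0,0) .nil (.node (1405,7) .nil .nil)) (.node (888,5) .nil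 (.node (1943,1) .nil .nil))))) (.node (99,3) (.node (0,0) (.node (0,0) (.node (0,0) .nil (.node (1078,0) .nil .nil)) (.node (577,2) .nil (.node (1601,0) .nil .nil))) (.node (331,1) (.node (0,0) .nil (.node (1340,1) .nil .nil)) (.node (823,2) .nil (.node (1875,3) .nil .nil)))) (.node (215,7) (.node (0,0) (.node (0,0) .nil (.node (1206,1) .nil .nil)) (.node (699,1) .nil (.node (1735,7) .nil .nil))) (.node (452,1) (.node (0,0) .nil (.node (1469,1) .nil .nil)) (.node (950,2) .nil (.node (2016,3) .nil .nil)))))))) (.node (10,2) (.node (0,0) (.node (0,0) (.node (0,0) (.node (0,0) (.node (0,0) (.node (0,0) (.node (0,0) .nil (.node (2042,2) .nil .nil)) (.node (973,0) .nil .nil)) (.node (476,6) .nil (.node (1492,0) .nil .nil))) (.node (234,0) (.node (0,0) .nil (.node (1234,4) .nil .nil)) (.node (723,4) .nil (.node (1763,2) .nil .nil)))) (.node (120,5) (.node (0,0) (.node (0,0) .nil (.node (1105,3) .nil .nil))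 (.node (599,3) .nil (.node (1626,2) .nil .nil))) (.node (356,5) (.node (0,0) .nil (.node (1360,1) .nil .nil)) (.node (847,2) .nil (.node (1902,1) .nil .nil))))) (.node (63,2) (.node (0,0) (.node (0,0) (.node (0,0) (.node (0,0) .nil (.node (2117,4) .nil .nil)) (.node (1037,0) .nil .nil)) (.node (539,1) .nil (.node (1563,3) .nil .nil))) (.node (295,0) (.node (0,0) .nil (.node (1296,1) .nil .nil)) (.node (784,4) .nil (.node (1831,1) .nil .nil)))) (.node (178,0) (.node (0,0) (.node (0,0) .nil (.node (1170,3) .nil .nil)) (.node (660,2) .nil (.node (1692,0) .nil .nil))) (.node (413,5) (.node (0,0) .nil (.node (1425,3) .nil .nil)) (.node (910,0) .nil (.node (1970,1) .nil .nil)))))) (.node (36,3) (.node (0,0) (.node (0,0) (.node (0,0) (.node (0,0) (.node (0,0) .nil (.node (2078,0) .nil .nil)) (.node (1004,1) .nil .nil)) (.node (505,2) .nil (.node (1528,4) .nil .nil))) (.node (264,7) (.node (0,0) .nil (.node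 (1263,1) .nil .nil)) (.node (756,4) .nil (.node (1799,2) .nil .nil)))) (.node (149,4) (.node (0,0) (.node (0,0) .nil (.node (1134,4) .nil .nil)) (.node (631,4) .nil (.node (1662,3) .nil .nil))) (.node (385,2) (.node (0,0) .nil (.node (1394,4) .nil .nil)) (.node (880,2) .nil (.node (1938,3) .nil .nil))))) (.node (92,3) (.node (0,0) (.node (0,0) (.node (0,0) (.node (0,0) .nil (.node (2157,2) .nil .nil)) (.node (1068,3) .nil .nil)) (.node (568,3) .nil (.node (1592,2) .nil .nil))) (.node (326,1) (.node (0,0) .nil (.node (1330,1) .nil .nil)) (.node (817,4) .nil (.node (1867,4) .nil .nil)))) (.node (207,1) (.node (0,0) (.node (0,0) .nil (.node (1197,1) .nil .nil)) (.node (693,1) .nil (.node (1726,3) .nil .nil))) (.node (447,1) (.node (0,0) .nil (.node (1463,2) .nil .nil)) (.node (941,2) .nil (.node (2006,2) .nil .nil))))))) (.node (23,0) (.node (0,0) (.node (0,0) (.node (0,0) (.node (0,0) (.node (0,0) (.node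 (0,0) .nil (.node (2060,2) .nil .nil)) (.node (992,6) .nil .nil)) (.node (492,2) .nil (.node (1513,5) .nil .nil))) (.node (251,0) (.node (0,0) .nil (.node (1247,3) .nil .nil)) (.node (738,7) .nil (.node (1778,3) .nil .nil)))) (.node (134,0) (.node (0,0) (.node (0,0) .nil (.node (1119,3) .nil .nil)) (.node (614,3) .nil (.node (1642,7) .nil .nil))) (.node (369,1) (.node (0,0) .nil (.node (1376,1) .nil .nil)) (.node (865,0) .nil (.node (1916,1) .nil .nil))))) (.node (77,1) (.node (0,0) (.node (0,0) (.node (0,0) (.node (0,0) .nil (.node (2136,5) .nil .nil)) (.node (1054,7) .nil .nil)) (.node (553,3) .nil (.node (1578,3) .nil .nil))) (.node (310,3) (.node (0,0) .nil (.node (1312,2) .nil .nil)) (.node (802,2) .nil (.node (1846,3) .nil .nil)))) (.node (194,3) (.node (0,0) (.node (0,0) .nil (.node (1182,1) .nil .nil)) (.node (675,4) .nil (.node (1714,4) .nil .nil))) (.node (429,2) (.node (0,0) .nil (.node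 (1443,2) .nil .nil)) (.node (930,4) .nil (.node (1990,0) .nil .nil)))))) (.node (50,3) (.node (0,0) (.node (0,0) (.node (0,0) (.node (0,0) (.node (0,0) .nil (.node (2099,6) .nil .nil)) (.node (1019,1) .nil .nil)) (.node (521,5) .nil (.node (1542,4) .nil .nil))) (.node (280,3) (.node (0,0) .nil (.node (1281,1) .nil .nil)) (.node (769,5) .nil (.node (1812,0) .nil .nil)))) (.node (163,6) (.node (0,0) (.node (0,0) .nil (.node (1149,5) .nil .nil)) (.node (646,1) .nil (.node (1677,2) .nil .nil))) (.node (402,0) (.node (0,0) .nil (.node (1409,1) .nil .nil)) (.node (893,3) .nil (.node (1952,2) .nil .nil))))) (.node (106,3) (.node (0,0) (.node (0,0) (.node (0,0) .nil (.node (1084,1) .nil .nil)) (.node (585,1) .nil (.node (1610,2) .nil .nil))) (.node (340,3) (.node (0,0) .nil (.node (1349,3) .nil .nil)) (.node (831,3) .nil (.node (1880,1) .nil .nil)))) (.node (222,2) (.node (0,0) (.node (0,0) .nil (.node (1216,6)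 .nil .nil)) (.node (706,4) .nil (.node (1744,3) .nil .nil))) (.node (459,5) (.node (0,0) .nil (.node (1477,0) .nil .nil)) (.node (957,3) .nil (.node (2024,3) .nil .nil))))))))))) (.node (0,0) (.node (0,0) (.node (0,0) (.node (0,0) (.node (0,0) (.node (0,0) (.node (0,0) (.node (0,0) (.node (0,0) (.node (0,0) (.node (0,0) .nil (.node (2026,0) .nil .nil)) (.node (961,3) .nil .nil)) (.node (460,1) .nil (.node (1479,1) .nil .nil))) (.node (224,0) (.node (0,0) .nil (.node (1219,3) .nil .nil)) (.node (710,4) .nil (.node (1748,0) .nil .nil)))) (.node (108,3) (.node (0,0) (.node (0,0) .nil (.node (1089,4) .nil .nil)) (.node (588,1) .nil (.node (1615,5) .nil .nil))) (.node (342,3) (.node (0,0) .nil (.node (1351,4) .nil .nil)) (.node (833,2) .nil (.node (1884,3) .nil .nil))))) (.node (52,1) (.node (0,0) (.node (0,0) (.node (0,0) (.node (0,0) .nil (.node (2100,3) .nil .nil)) (.node (1024,3) .nil .nil)) (.node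 (524,6) .nil (.node (1544,2) .nil .nil))) (.node (283,4) (.node (0,0) .nil (.node (1284,1) .nil .nil)) (.node (772,5) .nil (.node (1816,2) .nil .nil)))) (.node (166,7) (.node (0,0) (.node (0,0) .nil (.node (1155,6) .nil .nil)) (.node (649,4) .nil (.node (1679,3) .nil .nil))) (.node (404,4) (.node (0,0) .nil (.node (1413,3) .nil .nil)) (.node (896,2) .nil (.node (1956,3) .nil .nil)))))) (.node (25,2) (.node (0,0) (.node (0,0) (.node (0,0) (.node (0,0) (.node (0,0) .nil (.node (2062,0) .nil .nil)) (.node (994,7) .nil .nil)) (.node (493,1) .nil (.node (1517,6) .nil .nil))) (.node (254,0) (.node (0,0) .nil (.node (1251,2) .nil .nil)) (.node (742,1) .nil (.node (1780,1) .nil .nil)))) (.node (138,4) (.node (0,0) (.node (0,0) .nil (.node (1122,3) .nil .nil)) (.node (617,1) .nil (.node (1645,2) .nil .nil))) (.node (370,1) (.node (0,0) .nil (.node (1379,3) .nil .nil)) (.node (870,1) .nil (.node (1921,1) .nil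 .nil))))) (.node (81,3) (.node (0,0) (.node (0,0) (.node (0,0) (.node (0,0) .nil (.node (2140,5) .nil .nil)) (.node (1056,1) .nil .nil)) (.node (556,5) .nil (.node (1580,4) .nil .nil))) (.node (313,4) (.node (0,0) .nil (.node (1315,1) .nil .nil)) (.node (805,2) .nil (.node (1849,2) .nil .nil)))) (.node (196,5) (.node (0,0) (.node (0,0) .nil (.node (1185,1) .nil .nil)) (.node (678,5) .nil (.node (1715,2) .nil .nil))) (.node (434,5) (.node (0,0) .nil (.node (1448,3) .nil .nil)) (.node (931,2) .nil (.node (1993,1) .nil .nil))))))) (.node (13,4) (.node (0,0) (.node (0,0) (.node (0,0) (.node (0,0) (.node (0,0) (.node (0,0) .nil (.node (2046,4) .nil .nil)) (.node (978,2) .nil .nil)) (.node (479,1) .nil (.node (1497,3) .nil .nil))) (.node (239,7) (.node (0,0) .nil (.node (1235,1) .nil .nil)) (.node (725,1) .nil (.node (1766,3) .nil .nil)))) (.node (124,3) (.node (0,0) (.node (0,0) .nil (.node (1107,1) .nil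 .nil)) (.node (602,2) .nil (.node (1630,4) .nil .nil))) (.node (360,3) (.node (0,0) .nil (.node (1364,1) .nil .nil)) (.node (850,6) .nil (.node (1906,0) .nil .nil))))) (.node (66,1) (.node (0,0) (.node (0,0) (.node (0,0) (.node (0,0) .nil (.node (2120,3) .nil .nil)) (.node (1043,0) .nil .nil)) (.node (541,1) .nil (.node (1566,6) .nil .nil))) (.node (297,1) (.node (0,0) .nil (.node (1299,1) .nil .nil)) (.node (787,5) .nil (.node (1837,7) .nil .nil)))) (.node (180,2) (.node (0,0) (.node (0,0) .nil (.node (1172,0) .nil .nil)) (.node (663,6) .nil (.node (1696,0) .nil .nil))) (.node (415,1) (.node (0,0) .nil (.node (1428,0) .nil .nil)) (.node (913,7) .nil (.node (1973,1) .nil .nil)))))) (.node (38,1) (.node (0,0) (.node (0,0) (.node (0,0) (.node (0,0) (.node (0,0) .nil (.node (2082,0) .nil .nil)) (.node (1007,1) .nil .nil)) (.node (508,6) .nil (.node (1530,0) .nil .nil))) (.node (265,3) (.node (0,0) .nil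 (.node (1266,1) .nil .nil)) (.node (758,3) .nil (.node (1802,0) .nil .nil)))) (.node (151,5) (.node (0,0) (.node (0,0) .nil (.node (1137,1) .nil .nil)) (.node (635,4) .nil (.node (1666,7) .nil .nil))) (.node (389,5) (.node (0,0) .nil (.node (1399,1) .nil .nil)) (.node (883,6) .nil (.node (1940,4) .nil .nil))))) (.node (94,3) (.node (0,0) (.node (0,0) (.node (0,0) .nil (.node (1071,3) .nil .nil)) (.node (571,6) .nil (.node (1594,2) .nil .nil))) (.node (328,3) (.node (0,0) .nil (.node (1333,3) .nil .nil)) (.node (818,2) .nil (.node (1871,3) .nil .nil)))) (.node (209,0) (.node (0,0) (.node (0,0) .nil (.node (1202,5) .nil .nil)) (.node (696,0) .nil (.node (1730,2) .nil .nil))) (.node (448,1) (.node (0,0) .nil (.node (1466,6) .nil .nil)) (.node (945,7) .nil (.node (2010,4) .nil .nil)))))))) (.node (6,1) (.node (0,0) (.node (0,0) (.node (0,0) (.node (0,0) (.node (0,0) (.node (0,0) (.node (0,0) .nil (.node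 (2038,2) .nil .nil)) (.node (969,0) .nil .nil)) (.node (471,4) .nil (.node (1486,2) .nil .nil))) (.node (230,2) (.node (0,0) .nil (.node (1230,4) .nil .nil)) (.node (717,5) .nil (.node (1759,0) .nil .nil)))) (.node (116,5) (.node (0,0) (.node (0,0) .nil (.node (1096,2) .nil .nil)) (.node (594,3) .nil (.node (1623,4) .nil .nil))) (.node (351,2) (.node (0,0) .nil (.node (1357,3) .nil .nil)) (.node (843,1) .nil (.node (1896,1) .nil .nil))))) (.node (60,3) (.node (0,0) (.node (0,0) (.node (0,0) (.node (0,0) .nil (.node (2111,0) .nil .nil)) (.node (1031,2) .nil .nil)) (.node (534,4) .nil (.node (1557,2) .nil .nil))) (.node (291,0) (.node (0,0) .nil (.node (1292,1) .nil .nil)) (.node (779,7) .nil (.node (1824,1) .nil .nil)))) (.node (173,2) (.node (0,0) (.node (0,0) .nil (.node (1161,0) .nil .nil)) (.node (655,3) .nil (.node (1686,0) .nil .nil))) (.node (411,4) (.node (0,0) .nil (.node (1421,6) .nil .nil))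 (.node (906,2) .nil (.node (1966,2) .nil .nil)))))) (.node (32,2) (.node (0,0) (.node (0,0) (.node (0,0) (.node (0,0) (.node (0,0) .nil (.node (2073,2) .nil .nil)) (.node (1000,0) .nil .nil)) (.node (500,1) .nil (.node (1523,2) .nil .nil))) (.node (259,3) (.node (0,0) .nil (.node (1256,1) .nil .nil)) (.node (751,2) .nil (.node (1791,1) .nil .nil)))) (.node (145,1) (.node (0,0) (.node (0,0) .nil (.node (1129,3) .nil .nil)) (.node (625,7) .nil (.node (1656,5) .nil .nil))) (.node (381,3) (.node (0,0) .nil (.node (1388,3) .nil .nil)) (.node (877,4) .nil (.node (1930,1) .nil .nil))))) (.node (88,5) (.node (0,0) (.node (0,0) (.node (0,0) (.node (0,0) .nil (.node (2150,1) .nil .nil)) (.node (1064,0) .nil .nil)) (.node (563,3) .nil (.node (1587,0) .nil .nil))) (.node (323,7) (.node (0,0) .nil (.node (1324,6) .nil .nil)) (.node (813,4) .nil (.node (1859,3) .nil .nil)))) (.node (202,6) (.node (0,0) (.node (0,0)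 .nil (.node (1192,1) .nil .nil)) (.node (688,3) .nil (.node (1721,2) .nil .nil))) (.node (441,3) (.node (0,0) .nil (.node (1458,4) .nil .nil)) (.node (938,0) .nil (.node (2001,3) .nil .nil))))))) (.node (20,4) (.node (0,0) (.node (0,0) (.node (0,0) (.node (0,0) (.node (0,0) (.node (0,0) .nil (.node (2056,4) .nil .nil)) (.node (989,4) .nil .nil)) (.node (488,3) .nil (.node (1505,2) .nil .nil))) (.node (247,0) (.node (0,0) .nil (.node (1241,1) .nil .nil)) (.node (733,5) .nil (.node (1775,2) .nil .nil)))) (.node (130,2) (.node (0,0) (.node (0,0) .nil (.node (1115,0) .nil .nil)) (.node (610,2) .nil (.node (1637,0) .nil .nil))) (.node (365,1) (.node (0,0) .nil (.node (1371,2) .nil .nil)) (.node (860,3) .nil (.node (1910,1) .nil .nil))))) (.node (74,2) (.node (0,0) (.node (0,0) (.node (0,0) (.node (0,0) .nil (.node (2130,4) .nil .nil)) (.node (1050,0) .nil .nil)) (.node (547,1) .nil (.node (1574,4) .nil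 .nil))) (.node (305,4) (.node (0,0) .nil (.node (1306,1) .nil .nil)) (.node (794,6) .nil (.node (1842,1) .nil .nil)))) (.node (188,0) (.node (0,0) (.node (0,0) .nil (.node (1178,4) .nil .nil)) (.node (670,4) .nil (.node (1706,3) .nil .nil))) (.node (426,5) (.node (0,0) .nil (.node (1437,1) .nil .nil)) (.node (924,2) .nil (.node (1982,1) .nil .nil)))))) (.node (45,1) (.node (0,0) (.node (0,0) (.node (0,0) (.node (0,0) (.node (0,0) .nil (.node (2092,2) .nil .nil)) (.node (1015,3) .nil .nil)) (.node (516,3) .nil (.node (1538,2) .nil .nil))) (.node (275,3) (.node (0,0) .nil (.node (1275,6) .nil .nil)) (.node (765,6) .nil (.node (1807,3) .nil .nil)))) (.node (159,6) (.node (0,0) (.node (0,0) .nil (.node (1144,4) .nil .nil)) (.node (643,2) .nil (.node (1673,5) .nil .nil))) (.node (396,2) (.node (0,0) .nil (.node (1406,1) .nil .nil)) (.node (890,6) .nil (.node (1947,3) .nil .nil))))) (.node (102,0) (.node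 (0,0) (.node (0,0) (.node (0,0) .nil (.node (1080,4) .nil .nil)) (.node (580,4) .nil (.node (1605,2) .nil .nil))) (.node (334,3) (.node (0,0) .nil (.node (1343,1) .nil .nil)) (.node (827,2) .nil (.node (1877,2) .nil .nil)))) (.node (216,3) (.node (0,0) (.node (0,0) .nil (.node (1209,1) .nil .nil)) (.node (701,2) .nil (.node (1739,2) .nil .nil))) (.node (456,4) (.node (0,0) .nil (.node (1472,3) .nil .nil)) (.node (953,7) .nil (.node (2019,1) .nil .nil))))))))) (.node (3,1) (.node (0,0) (.node (0,0) (.node (0,0) (.node (0,0) (.node (0,0) (.node (0,0) (.node (0,0) (.node (0,0) .nil (.node (2033,5) .nil .nil)) (.node (967,4) .nil .nil)) (.node (466,3) .nil (.node (1483,2) .nil .nil))) (.node (226,3) (.node (0,0) .nil (.node (1222,1) .nil .nil)) (.node (713,2) .nil (.node (1755,4) .nil .nil)))) (.node (112,3) (.node (0,0) (.node (0,0) .nil (.node (1093,2) .nil .nil)) (.node (591,1) .nil (.node (1620,3)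 .nil .nil))) (.node (348,4) (.node (0,0) .nil (.node (1352,1) .nil .nil)) (.node (838,7) .nil (.node (1887,1) .nil .nil))))) (.node (55,2) (.node (0,0) (.node (0,0) (.node (0,0) (.node (0,0) .nil (.node (2105,3) .nil .nil)) (.node (1029,5) .nil .nil)) (.node (528,1) .nil (.node (1552,3) .nil .nil))) (.node (288,0) (.node (0,0) .nil (.node (1290,0) .nil .nil)) (.node (776,7) .nil (.node (1820,3) .nil .nil)))) (.node (170,2) (.node (0,0) (.node (0,0) .nil (.node (1157,3) .nil .nil)) (.node (652,1) .nil (.node (1683,0) .nil .nil))) (.node (405,1) (.node (0,0) .nil (.node (1417,2) .nil .nil)) (.node (902,3) .nil (.node (1962,4) .nil .nil)))))) (.node (28,3) (.node (0,0) (.node (0,0) (.node (0,0) (.node (0,0) (.node (0,0) .nil (.node (2070,6) .nil .nil)) (.node (997,4) .nil .nil)) (.node (496,1) .nil (.node (1519,3) .nil .nil))) (.node (256,3) (.node (0,0) .nil (.node (1254,1) .nil .nil)) (.node (747,3)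 .nil (.node (1788,0) .nil .nil)))) (.node (140,0) (.node (0,0) (.node (0,0) .nil (.node (1126,3) .nil .nil)) (.node (621,5) .nil (.node (1649,0) .nil .nil))) (.node (376,1) (.node (0,0) .nil (.node (1384,2) .nil .nil)) (.node (873,5) .nil (.node (1926,3) .nil .nil))))) (.node (84,3) (.node (0,0) (.node (0,0) (.node (0,0) (.node (0,0) .nil (.node (2145,2) .nil .nil)) (.node (1059,1) .nil .nil)) (.node (558,3) .nil (.node (1583,2) .nil .nil))) (.node (319,4) (.node (0,0) .nil (.node (1318,1) .nil .nil)) (.node (809,0) .nil (.node (1855,4) .nil .nil)))) (.node (198,3) (.node (0,0) (.node (0,0) .nil (.node (1190,0) .nil .nil)) (.node (683,7) .nil (.node (1718,0) .nil .nil))) (.node (438,3) (.node (0,0) .nil (.node (1452,4) .nil .nil)) (.node (935,3) .nil (.node (1997,3) .nil .nil))))))) (.node (16,4) (.node (0,0) (.node (0,0) (.node (0,0) (.node (0,0) (.node (0,0) (.node (0,0) .nil (.node (2050,0) .nil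 .nil)) (.node (985,0) .nil .nil)) (.node (482,3) .nil (.node (1501,4) .nil .nil))) (.node (241,3) (.node (0,0) .nil (.node (1239,4) .nil .nil)) (.node (729,5) .nil (.node (1769,0) .nil .nil)))) (.node (127,3) (.node (0,0) (.node (0,0) .nil (.node (1112,0) .nil .nil)) (.node (606,4) .nil (.node (1633,5) .nil .nil))) (.node (363,3) (.node (0,0) .nil (.node (1368,6) .nil .nil)) (.node (854,0) .nil (.node (1909,4) .nil .nil))))) (.node (71,3) (.node (0,0) (.node (0,0) (.node (0,0) (.node (0,0) .nil (.node (2125,4) .nil .nil)) (.node (1047,2) .nil .nil)) (.node (545,3) .nil (.node (1570,1) .nil .nil))) (.node (302,2) (.node (0,0) .nil (.node (1301,1) .nil .nil)) (.node (791,4) .nil (.node (1839,3) .nil .nil)))) (.node (183,0) (.node (0,0) (.node (0,0) .nil (.node (1175,2) .nil .nil)) (.node (667,4) .nil (.node (1700,0) .nil .nil))) (.node (420,1) (.node (0,0) .nil (.node (1432,2) .nil .nil)) (.node (918,7)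 .nil (.node (1978,1) .nil .nil)))))) (.node (42,3) (.node (0,0) (.node (0,0) (.node (0,0) (.node (0,0) (.node (0,0) .nil (.node (2087,0) .nil .nil)) (.node (1013,7) .nil .nil)) (.node (511,3) .nil (.node (1533,5) .nil .nil))) (.node (271,1) (.node (0,0) .nil (.node (1269,1) .nil .nil)) (.node (762,4) .nil (.node (1805,7) .nil .nil)))) (.node (155,2) (.node (0,0) (.node (0,0) .nil (.node (1141,3) .nil .nil)) (.node (639,5) .nil (.node (1670,4) .nil .nil))) (.node (392,5) (.node (0,0) .nil (.node (1404,6) .nil .nil)) (.node (885,2) .nil (.node (1943,2) .nil .nil))))) (.node (98,1) (.node (0,0) (.node (0,0) (.node (0,0) .nil (.node (1077,2) .nil .nil)) (.node (575,7) .nil (.node (1599,0) .nil .nil))) (.node (331,2) (.node (0,0) .nil (.node (1339,3) .nil .nil)) (.node (823,6) .nil (.node (1874,3) .nil .nil)))) (.node (212,0) (.node (0,0) (.node (0,0) .nil (.node (1206,4) .nil .nil)) (.node (699,4) .nil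 (.node (1734,1) .nil .nil))) (.node (451,1) (.node (0,0) .nil (.node (1468,1) .nil .nil)) (.node (950,6) .nil (.node (2015,1) .nil .nil)))))))) (.node (9,3) (.node (0,0) (.node (0,0) (.node (0,0) (.node (0,0) (.node (0,0) (.node (0,0) (.node (0,0) .nil (.node (2042,4) .nil .nil)) (.node (972,2) .nil .nil)) (.node (474,2) .nil (.node (1491,2) .nil .nil))) (.node (233,2) (.node (0,0) .nil (.node (1233,3) .nil .nil)) (.node (721,7) .nil (.node (1763,6) .nil .nil)))) (.node (119,0) (.node (0,0) (.node (0,0) .nil (.node (1103,0) .nil .nil)) (.node (598,1) .nil (.node (1626,4) .nil .nil))) (.node (355,2) (.node (0,0) .nil (.node (1360,5) .nil .nil)) (.node (847,4) .nil (.node (1901,3) .nil .nil))))) (.node (63,4) (.node (0,0) (.node (0,0) (.node (0,0) (.node (0,0) .nil (.node (2116,3) .nil .nil)) (.node (1036,2) .nil .nil)) (.node (537,1) .nil (.node (1562,5) .nil .nil))) (.node (294,2) (.node (0,0) .nil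 (.node (1294,1) .nil .nil)) (.node (783,3) .nil (.node (1830,1) .nil .nil)))) (.node (177,6) (.node (0,0) (.node (0,0) .nil (.node (1168,1) .nil .nil)) (.node (660,4) .nil (.node (1691,2) .nil .nil))) (.node (412,1) (.node (0,0) .nil (.node (1424,3) .nil .nil)) (.node (909,2) .nil (.node (1969,1) .nil .nil)))))) (.node (35,3) (.node (0,0) (.node (0,0) (.node (0,0) (.node (0,0) (.node (0,0) .nil (.node (2077,2) .nil .nil)) (.node (1003,3) .nil .nil)) (.node (505,5) .nil (.node (1527,2) .nil .nil))) (.node (262,1) (.node (0,0) .nil (.node (1261,1) .nil .nil)) (.node (755,3) .nil (.node (1799,6) .nil .nil)))) (.node (148,3) (.node (0,0) (.node (0,0) .nil (.node (1133,3) .nil .nil)) (.node (630,3) .nil (.node (1661,2) .nil .nil))) (.node (385,4) (.node (0,0) .nil (.node (1393,2) .nil .nil)) (.node (880,6) .nil (.node (1936,0) .nil .nil))))) (.node (91,1) (.node (0,0) (.node (0,0) (.node (0,0) (.node (0,0)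 .nil (.node (2156,3) .nil .nil)) (.node (1067,2) .nil .nil)) (.node (567,4) .nil (.node (1592,4) .nil .nil))) (.node (325,3) (.node (0,0) .nil (.node (1330,6) .nil .nil)) (.node (816,3) .nil (.node (1863,1) .nil .nil)))) (.node (206,3) (.node (0,0) (.node (0,0) .nil (.node (1197,4) .nil .nil)) (.node (692,2) .nil (.node (1726,0) .nil .nil))) (.node (447,4) (.node (0,0) .nil (.node (1463,5) .nil .nil)) (.node (941,7) .nil (.node (2005,3) .nil .nil))))))) (.node (22,0) (.node (0,0) (.node (0,0) (.node (0,0) (.node (0,0) (.node (0,0) (.node (0,0) .nil (.node (2060,4) .nil .nil)) (.node (991,0) .nil .nil)) (.node (492,4) .nil (.node (1512,4) .nil .nil))) (.node (250,2) (.node (0,0) .nil (.node (1245,1) .nil .nil)) (.node (737,6) .nil (.node (1777,3) .nil .nil)))) (.node (133,2) (.node (0,0) (.node (0,0) .nil (.node (1118,2) .nil .nil)) (.node (613,1) .nil (.node (1640,0) .nil .nil))) (.node (369,4) (.node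 (0,0) .nil (.node (1376,5) .nil .nil)) (.node (864,2) .nil (.node (1915,1) .nil .nil))))) (.node (77,2) (.node (0,0) (.node (0,0) (.node (0,0) (.node (0,0) .nil (.node (2135,2) .nil .nil)) (.node (1052,3) .nil .nil)) (.node (552,1) .nil (.node (1577,0) .nil .nil))) (.node (310,0) (.node (0,0) .nil (.node (1311,3) .nil .nil)) (.node (801,3) .nil (.node (1846,0) .nil .nil)))) (.node (191,0) (.node (0,0) (.node (0,0) .nil (.node (1182,4) .nil .nil)) (.node (674,4) .nil (.node (1712,7) .nil .nil))) (.node (429,5) (.node (0,0) .nil (.node (1442,3) .nil .nil)) (.node (929,3) .nil (.node (1988,4) .nil .nil)))))) (.node (50,0) (.node (0,0) (.node (0,0) (.node (0,0) (.node (0,0) (.node (0,0) .nil (.node (2097,3) .nil .nil)) (.node (1019,4) .nil .nil)) (.node (520,4) .nil (.node (1541,0) .nil .nil))) (.node (280,0) (.node (0,0) .nil (.node (1280,3) .nil .nil)) (.node (768,2) .nil (.node (1811,2) .nil .nil))))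 (.node (162,0) (.node (0,0) (.node (0,0) .nil (.node (1148,1) .nil .nil)) (.node (645,3) .nil (.node (1677,5) .nil .nil))) (.node (401,1) (.node (0,0) .nil (.node (1409,2) .nil .nil)) (.node (892,2) .nil (.node (1951,2) .nil .nil))))) (.node (105,1) (.node (0,0) (.node (0,0) (.node (0,0) .nil (.node (1084,4) .nil .nil)) (.node (583,1) .nil (.node (1610,5) .nil .nil))) (.node (338,1) (.node (0,0) .nil (.node (1348,6) .nil .nil)) (.node (830,2) .nil (.node (1879,1) .nil .nil)))) (.node (222,4) (.node (0,0) (.node (0,0) .nil (.node (1214,1) .nil .nil)) (.node (705,5) .nil (.node (1744,0) .nil .nil))) (.node (457,1) (.node (0,0) .nil (.node (1476,4) .nil .nil)) (.node (956,2) .nil (.node (2023,0) .nil .nil)))))))))) (.node (2,3) (.node (0,0) (.node (0,0) (.node (0,0) (.node (0,0) (.node (0,0) (.node (0,0) (.node (0,0) (.node (0,0) (.node (0,0) .nil (.node (2030,0) .nil .nil)) (.node (964,3) .nil .nil))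 (.node (464,3) .nil (.node (1481,1) .nil .nil))) (.node (225,2) (.node (0,0) .nil (.node (1221,1) .nil .nil)) (.node (711,2) .nil (.node (1752,3) .nil .nil)))) (.node (110,2) (.node (0,0) (.node (0,0) .nil (.node (1091,5) .nil .nil)) (.node (591,6) .nil (.node (1617,7) .nil .nil))) (.node (344,4) (.node (0,0) .nil (.node (1351,1) .nil .nil)) (.node (835,7) .nil (.node (1886,1) .nil .nil))))) (.node (53,1) (.node (0,0) (.node (0,0) (.node (0,0) (.node (0,0) .nil (.node (2103,0) .nil .nil)) (.node (1027,4) .nil .nil)) (.node (525,3) .nil (.node (1548,2) .nil .nil))) (.node (287,6) (.node (0,0) .nil (.node (1288,4) .nil .nil)) (.node (774,6) .nil (.node (1819,0) .nil .nil)))) (.node (169,3) (.node (0,0) (.node (0,0) .nil (.node (1156,2) .nil .nil)) (.node (651,4) .nil (.node (1681,2) .nil .nil))) (.node (405,4) (.node (0,0) .nil (.node (1415,3) .nil .nil)) (.node (899,2) .nil (.node (1959,1) .nil .nil))))))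 (.node (27,2) (.node (0,0) (.node (0,0) (.node (0,0) (.node (0,0) (.node (0,0) .nil (.node (2066,0) .nil .nil)) (.node (995,3) .nil .nil)) (.node (495,2) .nil (.node (1517,1) .nil .nil))) (.node (255,2) (.node (0,0) .nil (.node (1253,3) .nil .nil)) (.node (745,2) .nil (.node (1783,0) .nil .nil)))) (.node (139,5) (.node (0,0) (.node (0,0) .nil (.node (1123,1) .nil .nil)) (.node (619,3) .nil (.node (1648,5) .nil .nil))) (.node (373,1) (.node (0,0) .nil (.node (1381,3) .nil .nil)) (.node (872,4) .nil (.node (1922,1) .nil .nil))))) (.node (82,1) (.node (0,0) (.node (0,0) (.node (0,0) (.node (0,0) .nil (.node (2143,3) .nil .nil)) (.node (1058,3) .nil .nil)) (.node (557,2) .nil (.node (1581,0) .nil .nil))) (.node (317,3) (.node (0,0) .nil (.node (1316,1) .nil .nil)) (.node (808,4) .nil (.node (1851,1) .nil .nil)))) (.node (197,0) (.node (0,0) (.node (0,0) .nil (.node (1188,3) .nil .nil)) (.node (680,7) .nil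 (.node (1717,5) .nil .nil))) (.node (436,6) (.node (0,0) .nil (.node (1450,3) .nil .nil)) (.node (933,2) .nil (.node (1996,3) .nil .nil))))))) (.node (14,0) (.node (0,0) (.node (0,0) (.node (0,0) (.node (0,0) (.node (0,0) (.node (0,0) .nil (.node (2047,2) .nil .nil)) (.node (982,2) .nil .nil)) (.node (481,6) .nil (.node (1499,3) .nil .nil))) (.node (240,0) (.node (0,0) .nil (.node (1237,3) .nil .nil)) (.node (727,4) .nil (.node (1768,7) .nil .nil)))) (.node (125,3) (.node (0,0) (.node (0,0) .nil (.node (1111,6) .nil .nil)) (.node (604,4) .nil (.node (1631,2) .nil .nil))) (.node (362,0) (.node (0,0) .nil (.node (1366,3) .nil .nil)) (.node (853,5) .nil (.node (1907,3) .nil .nil))))) (.node (68,1) (.node (0,0) (.node (0,0) (.node (0,0) (.node (0,0) .nil (.node (2122,4) .nil .nil)) (.node (1045,3) .nil .nil)) (.node (544,6) .nil (.node (1569,2) .nil .nil))) (.node (298,1) (.node (0,0) .nil (.node (1300,1)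 .nil .nil)) (.node (789,6) .nil (.node (1838,0) .nil .nil)))) (.node (182,6) (.node (0,0) (.node (0,0) .nil (.node (1173,3) .nil .nil)) (.node (665,3) .nil (.node (1697,3) .nil .nil))) (.node (419,3) (.node (0,0) .nil (.node (1430,3) .nil .nil)) (.node (915,2) .nil (.node (1975,3) .nil .nil)))))) (.node (41,0) (.node (0,0) (.node (0,0) (.node (0,0) (.node (0,0) (.node (0,0) .nil (.node (2086,5) .nil .nil)) (.node (1010,3) .nil .nil)) (.node (510,2) .nil (.node (1531,2) .nil .nil))) (.node (268,2) (.node (0,0) .nil (.node (1267,1) .nil .nil)) (.node (759,2) .nil (.node (1803,3) .nil .nil)))) (.node (153,0) (.node (0,0) (.node (0,0) .nil (.node (1140,5) .nil .nil)) (.node (636,1) .nil (.node (1669,4) .nil .nil))) (.node (390,2) (.node (0,0) .nil (.node (1402,4) .nil .nil)) (.node (884,3) .nil (.node (1940,1) .nil .nil))))) (.node (96,2) (.node (0,0) (.node (0,0) (.node (0,0) .nil (.node (1074,3) .nil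 .nil)) (.node (573,5) .nil (.node (1596,0) .nil .nil))) (.node (330,4) (.node (0,0) .nil (.node (1336,2) .nil .nil)) (.node (821,5) .nil (.node (1873,2) .nil .nil)))) (.node (211,7) (.node (0,0) (.node (0,0) .nil (.node (1205,4) .nil .nil)) (.node (697,1) .nil (.node (1731,3) .nil .nil))) (.node (449,1) (.node (0,0) .nil (.node (1467,3) .nil .nil)) (.node (946,3) .nil (.node (2013,5) .nil .nil)))))))) (.node (8,7) (.node (0,0) (.node (0,0) (.node (0,0) (.node (0,0) (.node (0,0) (.node (0,0) (.node (0,0) .nil (.node (2040,0) .nil .nil)) (.node (971,7) .nil .nil)) (.node (473,6) .nil (.node (1488,0) .nil .nil))) (.node (231,3) (.node (0,0) .nil (.node (1232,0) .nil .nil)) (.node (719,6) .nil (.node (1761,0) .nil .nil)))) (.node (118,4) (.node (0,0) (.node (0,0) .nil (.node (1100,2) .nil .nil)) (.node (596,3) .nil (.node (1624,0) .nil .nil))) (.node (353,2) (.node (0,0) .nil (.node (1359,4) .nil .nil))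 (.node (845,4) .nil (.node (1897,1) .nil .nil))))) (.node (62,4) (.node (0,0) (.node (0,0) (.node (0,0) (.node (0,0) .nil (.node (2112,3) .nil .nil)) (.node (1034,7) .nil .nil)) (.node (536,3) .nil (.node (1559,2) .nil .nil))) (.node (292,3) (.node (0,0) .nil (.node (1293,2) .nil .nil)) (.node (782,5) .nil (.node (1829,3) .nil .nil)))) (.node (174,2) (.node (0,0) (.node (0,0) .nil (.node (1166,2) .nil .nil)) (.node (656,2) .nil (.node (1689,3) .nil .nil))) (.node (412,4) (.node (0,0) .nil (.node (1422,3) .nil .nil)) (.node (908,6) .nil (.node (1967,1) .nil .nil)))))) (.node (33,3) (.node (0,0) (.node (0,0) (.node (0,0) (.node (0,0) (.node (0,0) .nil (.node (2076,6) .nil .nil)) (.node (1002,7) .nil .nil)) (.node (502,3) .nil (.node (1525,3) .nil .nil))) (.node (261,1) (.node (0,0) .nil (.node (1260,3) .nil .nil)) (.node (754,4) .nil (.node (1795,1) .nil .nil)))) (.node (147,4) (.node (0,0) (.node (0,0)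 .nil (.node (1130,1) .nil .nil)) (.node (627,6) .nil (.node (1658,3) .nil .nil))) (.node (383,3) (.node (0,0) .nil (.node (1390,3) .nil .nil)) (.node (878,5) .nil (.node (1934,3) .nil .nil))))) (.node (88,1) (.node (0,0) (.node (0,0) (.node (0,0) (.node (0,0) .nil (.node (2152,1) .nil .nil)) (.node (1065,3) .nil .nil)) (.node (565,1) .nil (.node (1590,7) .nil .nil))) (.node (324,0) (.node (0,0) .nil (.node (1328,5) .nil .nil)) (.node (814,5) .nil (.node (1861,2) .nil .nil)))) (.node (203,0) (.node (0,0) (.node (0,0) .nil (.node (1193,1) .nil .nil)) (.node (689,1) .nil (.node (1724,7) .nil .nil))) (.node (444,1) (.node (0,0) .nil (.node (1460,6) .nil .nil)) (.node (939,2) .nil (.node (2003,4) .nil .nil))))))) (.node (21,5) (.node (0,0) (.node (0,0) (.node (0,0) (.node (0,0) (.node (0,0) (.node (0,0) .nil (.node (2057,0) .nil .nil)) (.node (990,5) .nil .nil)) (.node (490,4) .nil (.node (1509,2) .nil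 .nil))) (.node (248,3) (.node (0,0) .nil (.node (1244,1) .nil .nil)) (.node (735,6) .nil (.node (1776,2) .nil .nil)))) (.node (132,3) (.node (0,0) (.node (0,0) .nil (.node (1116,3) .nil .nil)) (.node (611,3) .nil (.node (1639,6) .nil .nil))) (.node (367,3) (.node (0,0) .nil (.node (1373,2) .nil .nil)) (.node (862,0) .nil (.node (1913,1) .nil .nil))))) (.node (75,5) (.node (0,0) (.node (0,0) (.node (0,0) (.node (0,0) .nil (.node (2133,2) .nil .nil)) (.node (1051,2) .nil .nil)) (.node (549,3) .nil (.node (1576,4) .nil .nil))) (.node (307,0) (.node (0,0) .nil (.node (1309,3) .nil .nil)) (.node (797,7) .nil (.node (1843,1) .nil .nil)))) (.node (190,7) (.node (0,0) (.node (0,0) .nil (.node (1179,1) .nil .nil)) (.node (672,1) .nil (.node (1709,3) .nil .nil))) (.node (427,2) (.node (0,0) .nil (.node (1439,1) .nil .nil)) (.node (927,0) .nil (.node (1985,4) .nil .nil)))))) (.node (46,1) (.node (0,0) (.node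 (0,0) (.node (0,0) (.node (0,0) (.node (0,0) .nil (.node (2093,3) .nil .nil)) (.node (1017,2) .nil .nil)) (.node (518,5) .nil (.node (1540,4) .nil .nil))) (.node (277,2) (.node (0,0) .nil (.node (1279,0) .nil .nil)) (.node (767,3) .nil (.node (1809,2) .nil .nil)))) (.node (161,5) (.node (0,0) (.node (0,0) .nil (.node (1145,1) .nil .nil)) (.node (644,3) .nil (.node (1674,0) .nil .nil))) (.node (399,2) (.node (0,0) .nil (.node (1407,1) .nil .nil)) (.node (891,3) .nil (.node (1948,1) .nil .nil))))) (.node (104,6) (.node (0,0) (.node (0,0) (.node (0,0) .nil (.node (1081,1) .nil .nil)) (.node (582,3) .nil (.node (1608,5) .nil .nil))) (.node (336,2) (.node (0,0) .nil (.node (1346,4) .nil .nil)) (.node (828,2) .nil (.node (1879,4) .nil .nil)))) (.node (219,2) (.node (0,0) (.node (0,0) .nil (.node (1212,5) .nil .nil)) (.node (703,4) .nil (.node (1741,0) .nil .nil))) (.node (456,1) (.node (0,0) .nil (.node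 (1474,3) .nil .nil)) (.node (954,3) .nil (.node (2021,2) .nil .nil))))))))) (.node (4,1) (.node (0,0) (.node (0,0) (.node (0,0) (.node (0,0) (.node (0,0) (.node (0,0) (.node (0,0) (.node (0,0) .nil (.node (2036,1) .nil .nil)) (.node (968,5) .nil .nil)) (.node (468,1) .nil (.node (1485,2) .nil .nil))) (.node (229,1) (.node (0,0) .nil (.node (1227,1) .nil .nil)) (.node (714,2) .nil (.node (1758,5) .nil .nil)))) (.node (114,4) (.node (0,0) (.node (0,0) .nil (.node (1094,3) .nil .nil)) (.node (592,1) .nil (.node (1622,4) .nil .nil))) (.node (350,4) (.node (0,0) .nil (.node (1354,1) .nil .nil)) (.node (839,3) .nil (.node (1893,2) .nil .nil))))) (.node (56,1) (.node (0,0) (.node (0,0) (.node (0,0) (.node (0,0) .nil (.node (2109,2) .nil .nil)) (.node (1030,0) .nil .nil)) (.node (532,3) .nil (.node (1553,2) .nil .nil))) (.node (290,7) (.node (0,0) .nil (.node (1291,3) .nil .nil)) (.node (777,2) .nil (.node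 (1822,2) .nil .nil)))) (.node (172,0) (.node (0,0) (.node (0,0) .nil (.node (1159,1) .nil .nil)) (.node (654,4) .nil (.node (1685,6) .nil .nil))) (.node (408,1) (.node (0,0) .nil (.node (1419,5) .nil .nil)) (.node (905,3) .nil (.node (1964,0) .nil .nil)))))) (.node (31,1) (.node (0,0) (.node (0,0) (.node (0,0) (.node (0,0) (.node (0,0) .nil (.node (2072,2) .nil .nil)) (.node (999,6) .nil .nil)) (.node (499,3) .nil (.node (1521,1) .nil .nil))) (.node (258,2) (.node (0,0) .nil (.node (1255,1) .nil .nil)) (.node (749,0) .nil (.node (1789,3) .nil .nil)))) (.node (143,7) (.node (0,0) (.node (0,0) .nil (.node (1128,0) .nil .nil)) (.node (623,5) .nil (.node (1652,0) .nil .nil))) (.node (377,1) (.node (0,0) .nil (.node (1387,6) .nil .nil)) (.node (875,2) .nil (.node (1928,2) .nil .nil))))) (.node (86,4) (.node (0,0) (.node (0,0) (.node (0,0) (.node (0,0) .nil (.node (2147,1) .nil .nil)) (.node (1063,7) .nil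 .nil)) (.node (560,3) .nil (.node (1586,5) .nil .nil))) (.node (320,5) (.node (0,0) .nil (.node (1321,3) .nil .nil)) (.node (811,1) .nil (.node (1858,0) .nil .nil)))) (.node (200,2) (.node (0,0) (.node (0,0) .nil (.node (1191,3) .nil .nil)) (.node (685,1) .nil (.node (1719,3) .nil .nil))) (.node (440,6) (.node (0,0) .nil (.node (1455,1) .nil .nil)) (.node (937,5) .nil (.node (1999,2) .nil .nil))))))) (.node (17,2) (.node (0,0) (.node (0,0) (.node (0,0) (.node (0,0) (.node (0,0) (.node (0,0) .nil (.node (2054,6) .nil .nil)) (.node (987,3) .nil .nil)) (.node (485,1) .nil (.node (1504,3) .nil .nil))) (.node (244,0) (.node (0,0) .nil (.node (1240,4) .nil .nil)) (.node (731,3) .nil (.node (1772,3) .nil .nil)))) (.node (129,4) (.node (0,0) (.node (0,0) .nil (.node (1114,7) .nil .nil)) (.node (608,5) .nil (.node (1634,0) .nil .nil))) (.node (364,1) (.node (0,0) .nil (.node (1369,3) .nil .nil)) (.node (856,7)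 .nil (.node (1910,4) .nil .nil))))) (.node (73,4) (.node (0,0) (.node (0,0) (.node (0,0) (.node (0,0) .nil (.node (2128,3) .nil .nil)) (.node (1049,5) .nil .nil)) (.node (546,1) .nil (.node (1572,3) .nil .nil))) (.node (303,3) (.node (0,0) .nil (.node (1305,3) .nil .nil)) (.node (792,5) .nil (.node (1841,3) .nil .nil)))) (.node (187,6) (.node (0,0) (.node (0,0) .nil (.node (1176,3) .nil .nil)) (.node (668,3) .nil (.node (1704,1) .nil .nil))) (.node (424,3) (.node (0,0) .nil (.node (1435,0) .nil .nil)) (.node (921,2) .nil (.node (1980,2) .nil .nil)))))) (.node (44,3) (.node (0,0) (.node (0,0) (.node (0,0) (.node (0,0) (.node (0,0) .nil (.node (2088,2) .nil .nil)) (.node (1014,0) .nil .nil)) (.node (513,3) .nil (.node (1536,1) .nil .nil))) (.node (274,0) (.node (0,0) .nil (.node (1272,3) .nil .nil)) (.node (763,5) .nil (.node (1806,0) .nil .nil)))) (.node (156,2) (.node (0,0) (.node (0,0) .nil (.node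 (1143,4) .nil .nil)) (.node (641,3) .nil (.node (1671,2) .nil .nil))) (.node (395,3) (.node (0,0) .nil (.node (1406,4) .nil .nil)) (.node (888,2) .nil (.node (1944,1) .nil .nil))))) (.node (100,2) (.node (0,0) (.node (0,0) (.node (0,0) .nil (.node (1078,3) .nil .nil)) (.node (578,3) .nil (.node (1603,0) .nil .nil))) (.node (333,0) (.node (0,0) .nil (.node (1341,2) .nil .nil)) (.node (825,7) .nil (.node (1876,4) .nil .nil)))) (.node (215,2) (.node (0,0) (.node (0,0) .nil (.node (1207,5) .nil .nil)) (.node (700,3) .nil (.node (1735,2) .nil .nil))) (.node (454,3) (.node (0,0) .nil (.node (1470,3) .nil .nil)) (.node (951,0) .nil (.node (2017,3) .nil .nil)))))))) (.node (11,1) (.node (0,0) (.node (0,0) (.node (0,0) (.node (0,0) (.node (0,0) (.node (0,0) (.node (0,0) .nil (.node (2043,0) .nil .nil)) (.node (975,7) .nil .nil)) (.node (477,2) .nil (.node (1493,0) .nil .nil))) (.node (237,2) (.node (0,0) .nil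 (.node (1234,1) .nil .nil)) (.node (723,1) .nil (.node (1764,0) .nil .nil)))) (.node (122,6) (.node (0,0) (.node (0,0) .nil (.node (1106,1) .nil .nil)) (.node (600,1) .nil (.node (1627,2) .nil .nil))) (.node (357,5) (.node (0,0) .nil (.node (1362,5) .nil .nil)) (.node (848,5) .nil (.node (1904,3) .nil .nil))))) (.node (63,1) (.node (0,0) (.node (0,0) (.node (0,0) (.node (0,0) .nil (.node (2118,2) .nil .nil)) (.node (1040,2) .nil .nil)) (.node (541,5) .nil (.node (1564,4) .nil .nil))) (.node (295,3) (.node (0,0) .nil (.node (1298,3) .nil .nil)) (.node (785,3) .nil (.node (1834,1) .nil .nil)))) (.node (178,3) (.node (0,0) (.node (0,0) .nil (.node (1171,7) .nil .nil)) (.node (661,5) .nil (.node (1695,5) .nil .nil))) (.node (413,1) (.node (0,0) .nil (.node (1426,2) .nil .nil)) (.node (911,6) .nil (.node (1972,3) .nil .nil)))))) (.node (37,1) (.node (0,0) (.node (0,0) (.node (0,0) (.node (0,0) (.node (0,0)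 .nil (.node (2079,2) .nil .nil)) (.node (1005,2) .nil .nil)) (.node (505,1) .nil (.node (1529,4) .nil .nil))) (.node (264,2) (.node (0,0) .nil (.node (1265,6) .nil .nil)) (.node (756,2) .nil (.node (1800,0) .nil .nil)))) (.node (149,2) (.node (0,0) (.node (0,0) .nil (.node (1134,1) .nil .nil)) (.node (631,1) .nil (.node (1663,1) .nil .nil))) (.node (386,5) (.node (0,0) .nil (.node (1397,2) .nil .nil)) (.node (881,3) .nil (.node (1939,4) .nil .nil))))) (.node (93,3) (.node (0,0) (.node (0,0) (.node (0,0) (.node (0,0) .nil (.node (2158,0) .nil .nil)) (.node (1069,4) .nil .nil)) (.node (569,4) .nil (.node (1593,0) .nil .nil))) (.node (327,2) (.node (0,0) .nil (.node (1331,3) .nil .nil)) (.node (817,2) .nil (.node (1867,1) .nil .nil)))) (.node (208,6) (.node (0,0) (.node (0,0) .nil (.node (1198,5) .nil .nil)) (.node (694,3) .nil (.node (1728,3) .nil .nil))) (.node (448,4) (.node (0,0) .nil (.node (1463,1)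 .nil .nil)) (.node (942,3) .nil (.node (2007,0) .nil .nil))))))) (.node (23,3) (.node (0,0) (.node (0,0) (.node (0,0) (.node (0,0) (.node (0,0) (.node (0,0) .nil (.node (2061,5) .nil .nil)) (.node (992,2) .nil .nil)) (.node (492,1) .nil (.node (1514,6) .nil .nil))) (.node (253,5) (.node (0,0) .nil (.node (1248,1) .nil .nil)) (.node (740,7) .nil (.node (1779,1) .nil .nil)))) (.node (135,5) (.node (0,0) (.node (0,0) .nil (.node (1120,4) .nil .nil)) (.node (615,4) .nil (.node (1644,4) .nil .nil))) (.node (370,4) (.node (0,0) .nil (.node (1378,6) .nil .nil)) (.node (867,2) .nil (.node (1918,3) .nil .nil))))) (.node (78,1) (.node (0,0) (.node (0,0) (.node (0,0) (.node (0,0) .nil (.node (2137,2) .nil .nil)) (.node (1054,2) .nil .nil)) (.node (554,2) .nil (.node (1579,4) .nil .nil))) (.node (311,3) (.node (0,0) .nil (.node (1313,0) .nil .nil)) (.node (803,0) .nil (.node (1847,3) .nil .nil)))) (.node (195,4)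 (.node (0,0) (.node (0,0) .nil (.node (1183,1) .nil .nil)) (.node (676,5) .nil (.node (1714,2) .nil .nil))) (.node (432,3) (.node (0,0) .nil (.node (1444,4) .nil .nil)) (.node (930,2) .nil (.node (1992,2) .nil .nil)))))) (.node (51,3) (.node (0,0) (.node (0,0) (.node (0,0) (.node (0,0) (.node (0,0) .nil (.node (2099,2) .nil .nil)) (.node (1021,3) .nil .nil)) (.node (522,6) .nil (.node (1542,2) .nil .nil))) (.node (281,3) (.node (0,0) .nil (.node (1282,2) .nil .nil)) (.node (769,2) .nil (.node (1814,3) .nil .nil)))) (.node (163,2) (.node (0,0) (.node (0,0) .nil (.node (1149,1) .nil .nil)) (.node (647,3) .nil (.node (1678,0) .nil .nil))) (.node (402,3) (.node (0,0) .nil (.node (1410,1) .nil .nil)) (.node (894,1) .nil (.node (1952,1) .nil .nil))))) (.node (106,1) (.node (0,0) (.node (0,0) (.node (0,0) .nil (.node (1085,1) .nil .nil)) (.node (587,4) .nil (.node (1612,3) .nil .nil))) (.node (341,0) (.node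 (0,0) .nil (.node (1350,4) .nil .nil)) (.node (832,1) .nil (.node (1882,1) .nil .nil)))) (.node (223,5) (.node (0,0) (.node (0,0) .nil (.node (1218,2) .nil .nil)) (.node (708,1) .nil (.node (1746,3) .nil .nil))) (.node (459,2) (.node (0,0) .nil (.node (1478,5) .nil .nil)) (.node (958,1) .nil (.node (2025,4) .nil .nil))))))))))))
noncomputable def Flb : List ℕ := [0,753,810,869,928,987,1047,1109,1110,1170,1230,1289,1348,1405,1462,2159]
noncomputable def dsEb : List ℕ := [0,1,2,3,4,5,6,7,7,8,9,10,11,12,13,14]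
theorem okb : orbTOK RootE8T.R chevE8.rank 0 OrbE8.cm [0, 7, 6, 5, 4, 2, 3, 1] Tb 2160 nxb parb Flb dsEb = true := by decide +kernel

end Cfsg.Agent.Lib.Chev.TabE8Big
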