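import Cfsg.Agent.Lib.ChevIO.Tinv
import Cfsg.Agent.Lib.Chev.OrbF4
import Cfsg.Agent.Lib.Chev.Smith

namespace Cfsg.Agent.Lib.Chev.TabF4Inv
open Cfsg.Agent.Lib.Chev Cfsg.Lie

set_option maxRecDepth 100000

noncomputable def dsE3 : List ℕ := [0,1]
theorem okE3 : orbE RootF4T.R chevF4.rank 3 OrbF4.L3 dsE3 = true := by decide +kernel
noncomputable def L0b : List (List ℤ) := [[(.ofNat 1),(.ofNat 0),(.ofNat 0),(.ofNat 0)],[(.negSucc 0),(.ofNat 1),(.ofNat 0),(.ofNat 0)],[(.ofNat 0),(.negSucc 0),(.ofNat 2),(.ofNat 0)],[(.ofNat 0),(.ofNat 1),(.negSucc 1),(.ofNat 2)],[(.ofNat 0),(.ofNat 1),(.ofNat 0),(.negSucc 1)],[(.ofNat 1),(.negSucc 0),(.ofNat 0),(.ofNat 2)],[(.ofNat 1),(.negSucc 0),(.ofNat 2),(.negSucc 1)],[(.negSucc 0),(.ofNat 0),(.ofNat 0),(.ofNat 2)],[(.negSucc 0),(.ofNat 0),(.ofNat 2),(.negSucc 1)],[(.ofNat 1),(.ofNat 1),(.negSucc 1),(.ofNat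 0)],[(.negSucc 0),(.ofNat 2),(.negSucc 1),(.ofNat 0)],[(.ofNat 2),(.negSucc 0),(.ofNat 0),(.ofNat 0)],[(.ofNat 1),(.negSucc 1),(.ofNat 2),(.ofNat 0)],[(.negSucc 1),(.ofNat 1),(.ofNat 0),(.ofNat 0)],[(.negSucc 0),(.negSucc 0),(.ofNat 2),(.ofNat 0)],[(.ofNat 1),(.ofNat 0),(.negSucc 1),(.ofNat 2)],[(.negSucc 0),(.ofNat 1),(.negSucc 1),(.ofNat 2)],[(.ofNat 1),(.ofNat 0),(.ofNat 0),(.negSucc 1)],[(.negSucc 0),(.ofNat 1),(.ofNat 0),(.negSucc 1)],[(.ofNat 0),(.negSucc 0),(.ofNat 0),(.ofNat 2)],[(.ofNat 0),(.negSucc 0),(.ofNat 2),(.negSucc 1)],[(.ofNat 0),(.ofNat 1),(.negSucc 1),(.ofNat 0)],[(.ofNat 1),(.negSucc 0),(.ofNat 0),(.ofNat 0)],[(.negSucc 0),(.ofNat 0),(.ofNat 0),(.ofNat 0)]]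
noncomputable def par0b : List (ℕ × ℕ) := [(0,0),(1,1),(2,2),(3,3),(3,1),(4,1),(5,0),(6,0),(6,2),(8,2),(9,1),(10,1),(11,0),(12,0),(12,2),(14,2),(15,3),(16,3),(16,1),(18,1),(20,2),(21,1),(22,0)]
noncomputable def ds0b : List ℕ := [0,1,2,3,4,4,5,5,6,6,7,7,8,8,9,9,10,10,11,11,12,13,14,15]
theorem ok0b : orbOK RootF4T.R chevF4.rank 0 OrbF4.cm [0, 3, 2, 1] L0b par0b ds0b = true := by decide +kernel
noncomputable def dsE0b : List ℕ := [0,1,2,3,4,5,6,7]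
theorem okE0b : orbE RootF4T.R chevF4.rank 0 L0b dsE0b = true := by decide +kernel
noncomputable def L3b : List (List ℤ) := [[(.ofNat 0),(.ofNat 0),(.ofNat 0),(.ofNat 1)],[(.ofNat 0),(.ofNat 0),(.ofNat 1),(.negSucc 0)],[(.ofNat 0),(.ofNat 1),(.negSucc 0),(.ofNat 0)],[(.ofNat 1),(.negSucc 0),(.ofNat 1),(.ofNat 0)],[(.ofNat 1),(.ofNat 0),(.negSucc 0),(.ofNat 1)],[(.ofNat 1),(.ofNat 0),(.ofNat 0),(.negSucc 0)]]
noncomputable def par3b : List (ℕ × ℕ) := [(0,3),(1,2),(2,1),(3,2),(4,3)]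
noncomputable def ds3b : List ℕ := [0,1,2,3,4,5]
theorem ok3b : orbOK RootF4T.R chevF4.rank 3 OrbF4.cm [3, 2, 1] L3b par3b ds3b = true := by decide +kernel
noncomputable def L2b : List (List ℤ) := [[(.ofNat 0),(.ofNat 0),(.ofNat 1),(.ofNat 0)],[(.ofNat 0),(.ofNat 1),(.negSucc 0),(.ofNat 1)],[(.ofNat 1),(.negSucc 0),(.ofNat 1),(.ofNat 1)],[(.ofNat 1),(.ofNat 0),(.negSucc 0),(.ofNat 2)]]
noncomputable def par2b : List (ℕ × ℕ) := [(0,2),(1,1),(2,2)]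
noncomputable def ds2b : List ℕ := [0,1,2,3]
theorem ok2b : orbOK RootF4T.R chevF4.rank 2 OrbF4.cm [2, 1] L2b par2b ds2b = true := by decide +kernel
noncomputable def L1b : List (List ℤ) := [[(.ofNat 0),(.ofNat 1),(.ofNat 0),(.ofNat 0)],[(.ofNat 1),(.negSucc 0),(.ofNat 2),(.ofNat 0)]]
noncomputable def par1b : List (ℕ × ℕ) := [(0,1)]
noncomputable def ds1b : List ℕ := [0,1]
theorem ok1b : orbOK RootF4T.R chevF4.rank 1 OrbF4.cm [1] L1b par1b ds1b = true := by decide +kernel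
theorem nE0 : cntEv RootF4T.R 0 RootF4T.R.N = 16 := by decide +kernel
theorem hrep0 : ∀ k < chevF4.rank, (intEvenB (parN chevF4 2 k chevF4.rank) = true ↔ k ≠ 0) := by decide +kernel
theorem nE3 : cntEv RootF4T.R 3 RootF4T.R.N = 10 := by decide +kernel
theorem hrep3 : ∀ k < chevF4.rank, (intEvenB (parN chevF4 5 k chevF4.rank) = true ↔ k ≠ 3) := by decide +kernel
noncomputable def W : List (List ℕ) := [[],[1,0],[],[0],[3,1,2,0,1,2,3],[],[3,2,0,1,2,3],[3,2,1,2,3],[2,1,2,0,1,2,3],[2,3],[0,1,2,3],[1,2,3],[1,2,0,1,2,3],[3],[2,0,1,2,3],[2,1,2,3]]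
theorem hW : ∀ n < 2 ^ chevF4.rank, n ≠ 0 → (∀ i ∈ nthL [] W n, i < chevF4.rank) ∧ runW chevF4 (nthL [] W n) n ∈ [2, 5] := by decide +kernel

end Cfsg.Agent.Lib.Chev.TabF4Inv
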